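import Cfsg.Agent.Tits.Roots
import Cfsg.Agent.Nodes.Bruhat
import Cfsg.Agent.KFacts.RgdLieCharP
import Cfsg.Agent.KFacts.RgdNodes
import Cfsg.Agent.KFacts.RgdSyl
import Cfsg.Agent.FastGrp
import Cfsg.Agent.Prune
set_option linter.all false
prune_inst 0x7f00000000000000000000000000000000000000000000000000000000000000000000000000000000000000000000000000000000000000000000000000000000000000000000000000000000000000003fffffffffffffffffffffffffffbeffbdffffffff
open scoped Cfsg.Agent.FastGrp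

-- part: H851/SimsDiag
section
/-!
# S3386: spherical crystallographic diagrams

* `card_nb_le` : every node has at most three neighbours;
* `card_le` : if a group of diagram automorphisms preserves `J` and is transitive on its complement, then
  `|I| ≤ 4 |J| + 2`.
-/

set_option autoImplicit false
set_option linter.unusedSectionVars false

namespace Cfsg.Agent.H851.SimsDiag

open CoxeterSystem Cfsg.Agent.ChevalleyStructure.CoxeterGeom Cfsg.Agent.Tits.Roots

variable {I W : Type*} [Fintype I] [DecidableEq I] [Group W] {M : CoxeterMatrix I} (cs : CoxeterSystem M W)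
  {A : I → I → ℤ} (h : IsCartan M A)

/-- The neighbours of a node. -/
def nb (M : CoxeterMatrix I) (i : I) : Finset I := Finset.univ.filter fun j => j ≠ i ∧ M i j ≠ 2

omit [Fintype I] [DecidableEq I] in
theorem cartan_le {i j : I} (h : IsCartan M A) (hij : i ≠ j) (h2 : M i j ≠ 2) : A i j ≤ -1 := by
  have := cartan_neg h hij h2
  omega

include cs h in
theorem card_nb_le [Finite W] (i : I) : (nb M i).card ≤ 3 := by
  by_contra hcon
  push Not at hcon
  let x : I → ℤ := fun k => if k = i then 2 else if k ∈ nb M i then 1 else 0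
  have hx : 0 ≤ x := by
    intro k
    show (0 : ℤ) ≤ if k = i then 2 else if k ∈ nb M i then 1 else 0
    split_ifs <;> norm_num
  have hxi : x i = 2 := if_pos rfl
  have hx0 : x ≠ 0 := fun h0 => by
    have := congrFun h0 i
    rw [hxi] at this
    exact absurd this (by norm_num)
  have := Fintype.ofFinite W
  obtain ⟨k, hk, hk'⟩ := Tits.Roots.exists_pairing_pos cs h hx hx0
  have hmem : ∀ {j}, j ∈ nb M i ↔ j ≠ i ∧ M i j ≠ 2 := by
    intro j
    unfold nb
    simp only [_root_.ne_eq, _root_.Finset.mem_filter, _root_.Finset.mem_univ, _root_.true_and]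
  unfold pairing at hk'
  by_cases hki : k = i
  · subst hki
    rw [← Finset.sum_erase_add _ _ (Finset.mem_univ k)] at hk'
    have h1 : ∑ j ∈ Finset.univ.erase k, A k j * x j ≤ ∑ j ∈ Finset.univ.erase k, (if j ∈ nb M k then (-1 : ℤ) else 0) := by
      refine Finset.sum_le_sum fun j hj => ?_
      have hj' : j ≠ k := (Finset.mem_erase.1 hj).1
      by_cases hj2 : j ∈ nb M k
      · have h3 : x j = 1 := by
          show (if j = k then (2 : ℤ) else if j ∈ nb M k then 1 else 0) = 1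
          rw [if_neg hj', if_pos hj2]
        rw [if_pos hj2, h3, mul_one]
        exact cartan_le h (Ne.symm hj') (hmem.1 hj2).2
      · have h3 : x j = 0 := by
          show (if j = k then (2 : ℤ) else if j ∈ nb M k then 1 else 0) = 0
          rw [if_neg hj', if_neg hj2]
        rw [if_neg hj2, h3, mul_zero]
    have h2 : ∑ j ∈ Finset.univ.erase k, (if j ∈ nb M k then (-1 : ℤ) else 0) = -((nb M k).card : ℤ) := by
      rw [← Finset.sum_filter, Finset.sum_const]
      have : (Finset.univ.erase k).filter (fun j => j ∈ nb M k) = nb M k := by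
        ext j
        simp only [Finset.mem_filter, Finset.mem_erase, Finset.mem_univ, and_true]
        exact ⟨fun h3 => h3.2, fun h3 => ⟨(hmem.1 h3).1, h3⟩⟩
      rw [this]
      simp
    rw [hxi, h.diag] at hk'
    omega
  · have hkn : k ∈ nb M i := by
      by_contra h1
      have : x k = 0 := by
        show (if k = i then (2 : ℤ) else if k ∈ nb M i then 1 else 0) = 0
        rw [if_neg hki, if_neg h1]
      omega
    have hxk : x k = 1 := by
      show (if k = i then (2 : ℤ) else if k ∈ nb M i then 1 else 0) = 1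
      rw [if_neg hki, if_pos hkn]
    rw [← Finset.sum_erase_add _ _ (Finset.mem_univ k)] at hk'
    have hik : i ∈ Finset.univ.erase k := Finset.mem_erase.2 ⟨Ne.symm hki, Finset.mem_univ i⟩
    rw [← Finset.sum_erase_add _ _ hik] at hk'
    have h1 : ∑ j ∈ (Finset.univ.erase k).erase i, A k j * x j ≤ 0 := by
      refine Finset.sum_nonpos fun j hj => ?_
      have h2 : j ≠ k := (Finset.mem_erase.1 (Finset.mem_erase.1 hj).2).1
      exact mul_nonpos_of_nonpos_of_nonneg (cartan_nonpos h (Ne.symm h2)) (hx j)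
    have h2 : A k i ≤ -1 := by
      apply cartan_le h hki
      rw [M.symmetric]
      exact (hmem.1 hkn).2
    rw [hxk, hxi, h.diag] at hk'
    omega

include cs h in
theorem exists_nb_le_one [Finite W] [Nonempty I] : ∃ i, (nb M i).card ≤ 1 := by
  by_contra hcon
  push Not at hcon
  let x : I → ℤ := fun _ => 1
  have hx : 0 ≤ x := fun _ => zero_le_one
  have hx0 : x ≠ 0 := fun h0 => by
    have := congrFun h0 (Classical.arbitrary I)
    exact absurd this one_ne_zero
  have := Fintype.ofFinite W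
  obtain ⟨k, -, hk'⟩ := Tits.Roots.exists_pairing_pos cs h hx hx0
  have hmem : ∀ {j}, j ∈ nb M k ↔ j ≠ k ∧ M k j ≠ 2 := by
    intro j
    unfold nb
    simp
  unfold pairing at hk'
  rw [← Finset.sum_erase_add _ _ (Finset.mem_univ k)] at hk'
  have h1 : ∑ j ∈ Finset.univ.erase k, A k j * x j ≤ ∑ j ∈ Finset.univ.erase k, (if j ∈ nb M k then (-1 : ℤ) else 0) := by
    refine Finset.sum_le_sum fun j hj => ?_
    have hj' : j ≠ k := (Finset.mem_erase.1 hj).1
    show A k j * 1 ≤ _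
    rw [mul_one]
    by_cases hj2 : j ∈ nb M k
    · rw [if_pos hj2]
      exact cartan_le h (Ne.symm hj') (hmem.1 hj2).2
    · rw [if_neg hj2]
      exact cartan_nonpos h (Ne.symm hj')
  have h2 : ∑ j ∈ Finset.univ.erase k, (if j ∈ nb M k then (-1 : ℤ) else 0) = -((nb M k).card : ℤ) := by
    rw [← Finset.sum_filter, Finset.sum_const]
    have : (Finset.univ.erase k).filter (fun j => j ∈ nb M k) = nb M k := by
      ext j
      simp only [Finset.mem_filter, Finset.mem_erase, Finset.mem_univ, and_true]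
      exact ⟨fun h3 => h3.2, fun h3 => ⟨(hmem.1 h3).1, h3⟩⟩
    rw [this]
    simp
  have h3 : x k = 1 := rfl
  rw [h3, h.diag] at hk'
  have h4 := hcon k
  omega

include cs h in
/-- The bound on the rank. -/
theorem card_le [Finite W] (hconn : ∀ J : Set I, J.Nonempty → J ≠ Set.univ → ∃ a ∈ J, ∃ b, b ∉ J ∧ M a b ≠ 2)
    (J : Finset I) (Γ : Set (Equiv.Perm I)) (hM : ∀ σ ∈ Γ, ∀ i j, M (σ i) (σ j) = M i j)
    (hJ : ∀ σ ∈ Γ, ∀ i ∈ J, σ i ∈ J) (ht : ∀ i j, i ∉ J → j ∉ J → ∃ σ ∈ Γ, σ i = j) :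
    Fintype.card I ≤ 4 * J.card + 2 := by
  classical
  have hmem : ∀ {i j}, j ∈ nb M i ↔ j ≠ i ∧ M i j ≠ 2 := by
    intro i j
    unfold nb
    simp only [_root_.ne_eq, _root_.Finset.mem_filter, _root_.Finset.mem_univ, _root_.true_and]
  by_cases hJ0 : J = ∅
  · subst hJ0
    rcases isEmpty_or_nonempty I with hI | hI
    · rw [Fintype.card_eq_zero]; omega
    obtain ⟨i₀, hi₀⟩ := exists_nb_le_one cs h
    have hall : ∀ i, (nb M i).card ≤ 1 := by
      intro i
      obtain ⟨σ, hσ, e⟩ := ht i i₀ (Finset.notMem_empty _) (Finset.notMem_empty _)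
      refine le_trans (Finset.card_le_card_of_injOn σ ?_ σ.injective.injOn) hi₀
      intro j hj
      have hj' := hmem.1 (Finset.mem_coe.1 hj)
      refine Finset.mem_coe.2 (hmem.2 ⟨?_, ?_⟩)
      · rw [← e]
        exact fun h1 => hj'.1 (σ.injective h1)
      · rw [← e, hM σ hσ]
        exact hj'.2
    have huniv : (insert i₀ (nb M i₀) : Finset I) = Finset.univ := by
      by_contra hne
      obtain ⟨a, ha, b, hb, hab⟩ := hconn (↑(insert i₀ (nb M i₀) : Finset I)) ⟨i₀, by simp⟩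
        (fun h1 => hne (by rw [← Finset.coe_eq_univ]; exact h1))
      rw [Finset.mem_coe, Finset.mem_insert] at ha hb
      push Not at hb
      rcases ha with ha | ha
      · subst ha
        exact hb.2 (hmem.2 ⟨hb.1, hab⟩)
      · have ha' := hmem.1 ha
        have h1 : i₀ ∈ nb M a := hmem.2 ⟨Ne.symm ha'.1, by rw [M.symmetric]; exact ha'.2⟩
        have h2 : b ∈ nb M a := hmem.2 ⟨fun h3 => hb.2 (h3 ▸ ha), hab⟩
        have h3 := Finset.card_le_one.1 (hall a) _ h1 _ h2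
        exact hb.1 h3.symm
    rw [← Finset.card_univ, ← huniv]
    refine le_trans (Finset.card_insert_le _ _) ?_
    have := hall i₀
    omega
  · have hne : J.Nonempty := Finset.nonempty_iff_ne_empty.2 hJ0
    by_cases hJ1 : J = Finset.univ
    · rw [hJ1, Finset.card_univ]; omega
    obtain ⟨a, ha, b, hb, hab⟩ := hconn (J : Set I) hne (fun h1 => hJ1 (Finset.coe_eq_univ.1 h1))
    rw [Finset.mem_coe] at ha hb
    have hcover : Finset.univ \ J ⊆ J.biUnion (nb M) := by
      intro b' hb'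
      have hb'' : b' ∉ J := (Finset.mem_sdiff.1 hb').2
      obtain ⟨σ, hσ, rfl⟩ := ht b b' hb hb''
      refine Finset.mem_biUnion.2 ⟨σ a, hJ σ hσ a ha, hmem.2 ⟨fun h1 => hb'' (h1 ▸ hJ σ hσ a ha), ?_⟩⟩
      rw [hM σ hσ]
      exact hab
    have h1 : (Finset.univ \ J).card ≤ 3 * J.card := by
      refine le_trans (Finset.card_le_card hcover) (le_trans Finset.card_biUnion_le ?_)
      refine le_trans (Finset.sum_le_sum fun i _ => card_nb_le cs h i) ?_
      rw [Finset.sum_const, smul_eq_mul, mul_comm]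
    have h2 : (Finset.univ \ J).card = Fintype.card I - J.card := by
      rw [Finset.card_sdiff_of_subset (Finset.subset_univ J), Finset.card_univ]
    omega

end Cfsg.Agent.H851.SimsDiag
end

-- part: H851/SimsCount
section
/-!
# S3386: the order of a group with a root group datum is bounded

in terms of the rank, the order of the torus and the orders of the simple root groups.
-/

set_option autoImplicit false
set_option linter.unusedSectionVars false

namespace Cfsg.Agent.H851.SimsCount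

open scoped Pointwise
open CoxeterSystem Cfsg.Agent.ChevalleyStructure.CoxeterGeom Cfsg.Agent.Tits.Roots
  Cfsg.Agent.Nodes.Reps Cfsg.Agent.Nodes.BNOf Cfsg.Agent.Nodes.Bruhat

theorem card_sup_le {Y : Type*} [Group Y] [Finite Y] {H K : Subgroup Y}
    (hn : H ≤ Subgroup.normalizer (K : Set Y)) : Nat.card ↥(H ⊔ K) ≤ Nat.card H * Nat.card K := by
  rw [← Nat.card_prod]
  have h1 : ((H ⊔ K : Subgroup Y) : Set Y) = (H : Set Y) * (K : Set Y) := Subgroup.coe_mul_of_left_le_normalizer_right H K hn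
  have h2 : ∀ x : ↥(H ⊔ K), ∃ a : ↥H × ↥K, (a.1 : Y) * a.2 = x := by
    rintro ⟨x, hx⟩
    rw [← SetLike.mem_coe, h1] at hx
    obtain ⟨a, ha, b, hb, e⟩ := hx
    exact ⟨⟨⟨a, ha⟩, ⟨b, hb⟩⟩, e⟩
  choose f hf using h2
  refine Nat.card_le_card_of_injective f fun x y hxy => Subtype.ext ?_
  rw [← hf x, ← hf y, hxy]

variable {I W Y : Type*} [Fintype I] [DecidableEq I] [Group W] [Group Y] {M : CoxeterMatrix I}
  {cs : CoxeterSystem M W} {A : I → I → ℤ} {h : IsCartan M A} {p : ℕ} {T : Subgroup Y} {n : I → Y}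
  {X : (I → ℤ) → Subgroup Y}

theorem card_cj (g : Y) (H : Subgroup Y) : Nat.card (cj g H) = Nat.card H :=
  (Nat.card_congr (H.equivMapOfInjective _ (MulAut.conj g).injective).toEquiv).symm

/-- The join over an inversion set. -/
theorem card_inv [Finite W] [Finite Y] (R : RGD cs h p T n X) {c : ℕ} (hc : ∀ i, Nat.card ↥(X (sr i)) ≤ c) (w : W) :
    Nat.card ↥(RGD.Sup X (RGD.Inv cs h w)) ≤ c ^ cs.length w := by
  induction hn : cs.length w using Nat.strong_induction_on generalizing w with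
  | _ k ih =>
  by_cases h1 : w = 1
  · subst h1
    have : RGD.Sup X (RGD.Inv cs h (1 : W)) = ⊥ := by
      rw [RGD.inv_one_eq, eq_bot_iff]
      exact RGD.Sup_le (fun z hz => absurd hz (by simp))
    rw [this, Subgroup.card_bot]
    rw [cs.length_one] at hn
    rw [← hn, pow_zero]
  obtain ⟨i, hi⟩ : ∃ i, cs.IsLeftDescent w i := by
    have := cs.exists_leftDescent_of_ne_one h1
    exact this
  have hlt : cs.length (cs.simple i * w) < cs.length w := hi
  have hneg : rep cs h w⁻¹ (sr i) ≤ 0 := by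
    refine nonpos_of_lt cs h w⁻¹ i ?_
    rw [cs.length_inv, ← cs.length_inv (w⁻¹ * cs.simple i), mul_inv_rev, inv_inv, cs.inv_simple]
    exact hlt
  have ih' := ih _ (hn ▸ hlt) (cs.simple i * w) rfl
  have hmem : sr i ∈ RGD.Inv cs h w := (RGD.mem_inv_iff hneg).2 (Or.inl rfl)
  have hsup : RGD.Sup X (RGD.Inv cs h w) = X (sr i) ⊔ RGD.Sup X (RGD.Inv cs h w \ {sr i}) := by
    apply le_antisymm
    · refine RGD.Sup_le fun z hz => ?_
      by_cases hz0 : z = sr i
      · subst hz0; exact le_sup_left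
      · exact le_trans (RGD.le_Sup (S := RGD.Inv cs h w \ {sr i}) ⟨hz, hz0⟩) le_sup_right
    · exact sup_le (RGD.le_Sup hmem) (RGD.Sup_mono Set.sdiff_subset)
  have hle : RGD.Sup X (RGD.Inv cs h w \ {sr i}) ≤ cj (n i) (RGD.Sup X (RGD.Inv cs h (cs.simple i * w))) := by
    refine RGD.Sup_le ?_
    rintro z ⟨hz, hz0⟩
    have h2 := ((RGD.mem_inv_iff hneg).1 hz).resolve_left hz0
    have h3 := cj_mono (n i) (RGD.le_Sup (X := X) h2)
    rw [R.conj i _ h2.1, ← rep_mul_apply, cs.simple_mul_simple_self, map_one, Module.End.one_apply] at h3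
    exact h3
  rw [hsup]
  have hnorm : X (sr i) ≤ Subgroup.normalizer (RGD.Sup X (RGD.Inv cs h w \ {sr i}) : Set Y) := by
    refine R.X_le_normalizer_diff (fun x hx => ⟨hx.1, hx.2.1⟩) (isRoot_sr cs h i) (sr_nonneg i) ?_
    intro y hy hyi z hz
    refine ⟨⟨hz.1, RGD.nonneg_of_btwn (sr_nonneg i) hy.2.1 hz, RGD.nonpos_of_btwn hneg hy.2.2 (hz.act w⁻¹)⟩, ?_⟩
    exact RGD.ne_sr_of_btwn (sr_nonneg i) hy.1 hy.2.1 hyi hz
  refine le_trans (card_sup_le hnorm) ?_
  have h4 : Nat.card ↥(RGD.Sup X (RGD.Inv cs h w \ {sr i})) ≤ c ^ cs.length (cs.simple i * w) := by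
    refine le_trans (Subgroup.card_le_of_le hle) ?_
    rw [card_cj]
    exact ih'
  have h5 : cs.length w = cs.length (cs.simple i * w) + 1 := by
    have := cs.length_simple_mul w i
    omega
  rw [← hn, h5, pow_succ, mul_comm]
  exact Nat.mul_le_mul h4 (hc i)

theorem card_U [Finite W] [Finite Y] (R : RGD cs h p T n X) {c L : ℕ} (hc1 : 1 ≤ c)
    (hc : ∀ i, Nat.card ↥(X (sr i)) ≤ c) (hL : ∀ w, cs.length w ≤ L) :
    Nat.card ↥(RGD.Sup X (RGD.Pos cs h)) ≤ c ^ L := by
  obtain ⟨w, hw⟩ := RGD.exists_inv_eq_pos (cs := cs) (h := h)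
  rw [← hw]
  exact le_trans (card_inv R hc w) (Nat.pow_le_pow_right hc1 (hL w))

theorem card_B [Finite W] [Finite Y] (R : RGD cs h p T n X) {c L : ℕ} (hc1 : 1 ≤ c)
    (hc : ∀ i, Nat.card ↥(X (sr i)) ≤ c) (hT : Nat.card T ≤ c) (hL : ∀ w, cs.length w ≤ L) :
    Nat.card ↥(RGD.B cs h T X) ≤ c * c ^ L :=
  le_trans (card_sup_le R.T_le_normalizer_U) (Nat.mul_le_mul hT (card_U R hc1 hc hL))

theorem card_GG [Finite W] [Finite Y] (R : RGD cs h p T n X) {c L : ℕ} (hc1 : 1 ≤ c)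
    (hc : ∀ i, Nat.card ↥(X (sr i)) ≤ c) (hT : Nat.card T ≤ c) (hL : ∀ w, cs.length w ≤ L)
    (hG : GG cs h T X = ⊤) : Nat.card Y ≤ Nat.card W * (c * c ^ L) ^ 2 := by
  have hB := card_B R hc1 hc hT hL
  choose k hk using fun w => exists_rp cs R.nsys w
  have h1 : ∀ y : Y, ∃ a : W × (↥(RGD.B cs h T X) × ↥(RGD.B cs h T X)), (a.2.1 : Y) * k a.1 * a.2.2 = y := by
    intro y
    have hy : y ∈ GG cs h T X := by rw [hG]; trivial
    obtain ⟨w, b₁, hb₁, k', hk', b₂, hb₂, e⟩ := (mem_GG R).1 hy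
    have h2 : (k w)⁻¹ * k' ∈ T := (hk w).unique hk'
    refine ⟨(w, (⟨b₁, hb₁⟩, ⟨(k w)⁻¹ * k' * b₂, mul_mem (RGD.T_le_B h2) hb₂⟩)), ?_⟩
    rw [e]
    show b₁ * k w * ((k w)⁻¹ * k' * b₂) = b₁ * k' * b₂
    group
  choose f hf using h1
  have h2 : Nat.card Y ≤ Nat.card (W × (↥(RGD.B cs h T X) × ↥(RGD.B cs h T X))) := by
    refine Nat.card_le_card_of_injective f fun x y hxy => ?_
    rw [← hf x, ← hf y, hxy]
  rw [Nat.card_prod, Nat.card_prod] at h2
  refine le_trans h2 (Nat.mul_le_mul_left _ ?_)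
  rw [sq]
  exact Nat.mul_le_mul hB hB

/-! ### uniform bound -/

omit [Fintype I] [DecidableEq I] in
theorem entry_le (h : IsCartan M A) (i j : I) : M i j ≤ 6 := by
  by_cases hij : i = j
  · subst hij
    rw [M.diagonal]
    norm_num
  · rcases h.rel i j hij with h1 | h1 | h1 | h1 <;> omega

/-- The bound for a given matrix. -/
noncomputable def bd {l : ℕ} (c : ℕ) (M : CoxeterMatrix (Fin l)) : ℕ :=
  Nat.card M.Group * (c * c ^ sSup (Set.range M.toCoxeterSystem.length)) ^ 2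

theorem finite_matrices (l : ℕ) : {M : CoxeterMatrix (Fin l) | ∀ i j, M i j ≤ 6}.Finite := by
  have h1 : Set.InjOn (fun (M : CoxeterMatrix (Fin l)) (i j : Fin l) => (Fin.ofNat 7 (M i j) : Fin 7))
      {M : CoxeterMatrix (Fin l) | ∀ i j, M i j ≤ 6} := by
    intro M hM M' hM' e
    have h2 : ∀ i j, M i j = M' i j := by
      intro i j
      have h3 := congrArg Fin.val (congrFun (congrFun e i) j)
      simp only [Fin.ofNat] at h3
      have h4 := hM i j
      have h5 := hM' i j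
      omega
    rcases M with ⟨M, _⟩
    rcases M' with ⟨M', _⟩
    have h6 : M = M' := by
      ext i j
      exact h2 i j
    subst h6
    rfl
  exact Set.Finite.of_finite_image (Set.toFinite _) h1

theorem exists_bound (N c : ℕ) : ∃ F : ℕ, ∀ (l : ℕ), l ≤ N → ∀ (M : CoxeterMatrix (Fin l)) (A : Fin l → Fin l → ℤ)
    (h : IsCartan M A) {Y : Type*} [Group Y] [Finite Y] (p : ℕ) (T : Subgroup Y) (n : Fin l → Y)
    (X : (Fin l → ℤ) → Subgroup Y), RGD M.toCoxeterSystem h p T n X → Finite M.Group →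
    GG M.toCoxeterSystem h T X = ⊤ → Nat.card T ≤ c → (∀ i, Nat.card ↥(X (sr i)) ≤ c) → Nat.card Y ≤ F := by
  have h1 : ∀ l : ℕ, ∃ F : ℕ, ∀ M : CoxeterMatrix (Fin l), (∀ i j, M i j ≤ 6) → bd c M ≤ F := by
    intro l
    obtain ⟨F, hF⟩ := ((finite_matrices l).image (bd c)).bddAbove
    exact ⟨F, fun M hM => hF ⟨M, hM, rfl⟩⟩
  choose F hF using h1
  refine ⟨∑ l ∈ Finset.range (N + 1), F l, ?_⟩
  intro l hl M A h Y _ _ p T n X R hW hG hT hX
  have hT1 : 1 ≤ c := le_trans Nat.card_pos hT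
  have hfin : (Set.range M.toCoxeterSystem.length).Finite := Set.finite_range _
  have h2 := card_GG R hT1 hX hT (L := sSup (Set.range M.toCoxeterSystem.length))
    (fun w => le_csSup hfin.bddAbove ⟨w, rfl⟩) hG
  refine le_trans h2 (le_trans (hF l M (entry_le h)) ?_)
  exact Finset.single_le_sum (f := F) (fun _ _ => Nat.zero_le _) (Finset.mem_range.2 (by omega))

end Cfsg.Agent.H851.SimsCount
end

-- part: H851/SimsRgd
section
/-!
# S3386: defining characteristic

The structure of the point stabiliser in a group with a root group datum.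

* `n_mem_PJ` : `n i ∈ P_J ↔ i ∈ J`; `fix_PJ` : a frame automorphism with permutation `σ`, `σ K = K`, fixes `P_K`;
* `exists_par` : a subgroup `M₀ = N(R₀)`, `R₀ = O_p(M₀) ≠ 1`, is a conjugate of `P_J`, `R₀` of `V_J`;
* `exists_small` : a short suborbit gives a small root group outside `J`;
* `rank_le`, `main`.
-/

set_option autoImplicit false
set_option linter.unusedSectionVars false

namespace Cfsg.Agent.H851.SimsRgd

open CoxeterSystem Cfsg.Agent.ChevalleyStructure.CoxeterGeom Cfsg.Agent.Tits.Roots Cfsg.Agent.Tits.Core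
  Cfsg.Agent.Tits.RootComb Cfsg.Agent.Tits.Exchange Cfsg.Agent.Nodes.Reps Cfsg.Agent.Nodes.BNOf
  Cfsg.Agent.Nodes.StabComb Cfsg.Agent.Nodes.Bruhat Cfsg.Agent.Nodes.OppDec Cfsg.Agent.Nodes.LeviDec
  Cfsg.Agent.Nodes.NormX Cfsg.Agent.KFacts.RgdAut Cfsg.Agent.KFacts.RgdDiag

variable {I W Y : Type*} [Fintype I] [DecidableEq I] [Group W] [Group Y] {M : CoxeterMatrix I}
  {cs : CoxeterSystem M W} {A : I → I → ℤ} {h : IsCartan M A} {p : ℕ} {T : Subgroup Y} {n : I → Y}
  {X : (I → ℤ) → Subgroup Y}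

include h in
theorem simple_mem_WJ_iff {i : I} {J : Set I} : cs.simple i ∈ WJ cs J ↔ i ∈ J := by
  refine ⟨fun h1 => ?_, fun h1 => simple_mem_WJ cs h1⟩
  by_contra h2
  have h3 := rep_apply_of_mem cs h h1 (sr i) h2
  rw [rep_simple_sr, Pi.neg_apply, sr_self] at h3
  exact absurd h3 (by decide)

theorem n_mem_PJ [Finite W] (R : RGD cs h p T n X) {i : I} {J : Set I} : n i ∈ PJ cs h T X J ↔ i ∈ J := by
  rw [cell_mem_PJ_iff R (cell_of_rp (rp_simple cs R.nsys i)), simple_mem_WJ_iff (h := h)]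

theorem rp_mem_PJ [Finite W] (R : RGD cs h p T n X) {w : W} {k : Y} (hk : Rp cs R.nsys w k) {J : Set I} :
    k ∈ PJ cs h T X J ↔ w ∈ WJ cs J := cell_mem_PJ_iff R (cell_of_rp hk)

theorem PJ_mono [Finite W] (R : RGD cs h p T n X) {J K : Set I} (hJ : J ⊆ K) : PJ cs h T X J ≤ PJ cs h T X K := by
  intro x hx
  obtain ⟨w, hw, hc⟩ := (mem_PJ_iff_cell R).1 hx
  exact (mem_PJ_iff_cell R).2 ⟨w, WJ_mono cs hJ hw, hc⟩

theorem eq_PJ [Finite W] (R : RGD cs h p T n X) (hG : GG cs h T X = ⊤) {P : Subgroup Y} (hP : RGD.B cs h T X ≤ P) :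
    P = PJ cs h T X {i | n i ∈ P} := by
  have := inf_eq_PJ R hP
  rwa [hG, inf_top_eq] at this

theorem PJ_ne_top [Finite W] (R : RGD cs h p T n X) {J : Set I} (hJ : J ≠ Set.univ) : PJ cs h T X J ≠ ⊤ := by
  intro h1
  apply hJ
  rw [Set.eq_univ_iff_forall]
  intro i
  rw [← n_mem_PJ R, h1]
  trivial

/-- A frame automorphism preserving `K`. -/
theorem fix_PJ [Finite W] (R : RGD cs h p T n X) (hG : GG cs h T X = ⊤) {β : MulAut Y} {σ : Equiv.Perm I}
    (D : _root_.Cfsg.Agent.KFacts.RgdDiag.Diag T X β σ) (hB : _root_.Cfsg.Agent.KFacts.RgdAut.Fix β (RGD.B cs h T X)) {K : Set I} (hK : ∀ i, σ i ∈ K ↔ i ∈ K) :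
    _root_.Cfsg.Agent.KFacts.RgdAut.Fix β (PJ cs h T X K) := by
  have h1 : (PJ cs h T X K).comap β.toMonoidHom = PJ cs h T X K := by
    have hP : RGD.B cs h T X ≤ (PJ cs h T X K).comap β.toMonoidHom := fun x hx => B_le_PJ ((hB x).2 hx)
    rw [eq_PJ R hG hP]
    congr 1
    ext i
    show β (n i) ∈ PJ cs h T X K ↔ i ∈ K
    rw [rp_mem_PJ R (D.rp (R := R) i), simple_mem_WJ_iff (h := h), hK]
  intro x
  show x ∈ (PJ cs h T X K).comap β.toMonoidHom ↔ _
  rw [h1]

/-- The converse. -/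
theorem perm_mem [Finite W] (R : RGD cs h p T n X) {β : MulAut Y} {σ : Equiv.Perm I}
    (D : _root_.Cfsg.Agent.KFacts.RgdDiag.Diag T X β σ) {K : Set I} (hK : _root_.Cfsg.Agent.KFacts.RgdAut.Fix β (PJ cs h T X K)) (i : I) : σ i ∈ K ↔ i ∈ K := by
  have h1 := hK (n i)
  rw [rp_mem_PJ R (D.rp (R := R) i), simple_mem_WJ_iff (h := h), n_mem_PJ R] at h1
  exact h1

/-! ### conjugation of the datum -/

theorem rgd_cj [Finite Y] (R : RGD cs h p T n X) (g : Y) :
    RGD cs h p (cj g T) (fun i => g * n i * g⁻¹) (fun x => cj g (X x)) :=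
  Nodes.RGDLib.rgd_map_of_injective R (MulAut.conj g).toMonoidHom (MulAut.conj g).injective

theorem cj_Sup' (g : Y) (S : Set (I → ℤ)) : cj g (RGD.Sup X S) = RGD.Sup (fun x => cj g (X x)) S := RGD.cj_Sup g S

theorem cj_PJ' (g : Y) (J : Set I) : cj g (PJ cs h T X J) = PJ cs h (cj g T) (fun x => cj g (X x)) J := by
  unfold PJ LJ VJ
  rw [cj_sup, cj_sup, cj_Sup', cj_Sup']

theorem cj_VJ' (g : Y) (J : Set I) : cj g (VJ cs h X J) = VJ cs h (fun x => cj g (X x)) J := cj_Sup' g _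

theorem cj_GG' (g : Y) : cj g (GG cs h T X) = GG cs h (cj g T) (fun x => cj g (X x)) := by
  unfold GG
  rw [cj_sup, cj_Sup']

/-! ### p-groups -/

/-- a subgroup of a `p`-group which is its own normaliser -/
theorem eq_of_normalizer [Finite Y] [Fact p.Prime] {R₀ V : Subgroup Y} (hV : IsPGroup p V) (hR : R₀ ≤ V)
    (hn : ∀ v ∈ V, v ∈ Subgroup.normalizer (R₀ : Set Y) → v ∈ R₀) : R₀ = V := by
  have := hV.isNilpotent
  have h1 := Group.normalizerCondition_of_isNilpotent (G := V)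
  by_contra hne
  have h2 : R₀.subgroupOf V < ⊤ := by
    rw [lt_top_iff_ne_top, Ne, Subgroup.subgroupOf_eq_top]
    exact fun h3 => hne (le_antisymm hR h3)
  obtain ⟨v, hv, hv'⟩ := SetLike.exists_of_lt (h1 _ h2)
  apply hv'
  rw [Subgroup.mem_subgroupOf]
  refine hn v v.2 ?_
  rw [Subgroup.mem_normalizer_iff] at hv ⊢
  intro x
  constructor
  · intro hx
    exact (hv ⟨x, hR hx⟩).1 hx
  · intro hx
    have h3 : (v : Y) * x * (v : Y)⁻¹ ∈ V := hR hx
    have h4 : x ∈ V := by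
      have h5 := mul_mem (mul_mem (inv_mem v.2) h3) v.2
      have h6 : (v : Y)⁻¹ * ((v : Y) * x * (v : Y)⁻¹) * v = x := by group
      rwa [h6] at h5
    exact (hv ⟨x, h4⟩).2 hx

/-- two Sylow subgroups in a subgroup are conjugate in it -/
theorem sylow_conj [Finite Y] [Fact p.Prime] {U U' M₀ : Subgroup Y} (hU : IsPGroup p U) (hU' : IsPGroup p U')
    (hi : ¬ p ∣ U.index) (hi' : ¬ p ∣ U'.index) (hM : U ≤ M₀) (hM' : U' ≤ M₀) : ∃ m ∈ M₀, cj m U' = U := by
  have key : ∀ {V : Subgroup Y}, IsPGroup p V → ¬ p ∣ V.index → V ≤ M₀ →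
      ∃ P : Sylow p ↥M₀, (P : Subgroup ↥M₀) = V.subgroupOf M₀ := by
    intro V hV hVi hVM
    have h1 : IsPGroup p ↥(V.subgroupOf M₀) := hV.comap_of_injective M₀.subtype M₀.subtype_injective
    have h2 : ¬ p ∣ (V.subgroupOf M₀).index := by
      intro h3
      apply hVi
      rw [← Subgroup.relIndex_mul_index hVM]
      exact Dvd.dvd.mul_right h3 _
    exact ⟨h1.toSylow h2, rfl⟩
  obtain ⟨P, hP⟩ := key hU hi hM
  obtain ⟨P', hP'⟩ := key hU' hi' hM'
  obtain ⟨m, hm⟩ := MulAction.exists_smul_eq ↥M₀ P' P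
  refine ⟨m, m.2, ?_⟩
  have h1 : ((m • P' : Sylow p ↥M₀) : Subgroup ↥M₀) = (P : Subgroup ↥M₀) := by rw [hm]
  rw [Sylow.coe_subgroup_smul, hP, hP'] at h1
  ext x
  rw [mem_cj]
  constructor
  · intro hx
    have hx' : x ∈ M₀ := by
      have h5 := mul_mem (mul_mem m.2 (hM' hx)) (inv_mem m.2)
      have h6 : (m : Y) * ((m : Y)⁻¹ * x * m) * (m : Y)⁻¹ = x := by group
      rwa [h6] at h5
    have h2 : (⟨x, hx'⟩ : ↥M₀) ∈ U.subgroupOf M₀ := by
      rw [← h1, Subgroup.mem_pointwise_smul_iff_inv_smul_mem]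
      show _ ∈ U'
      convert hx using 1
      simp only [MulAut.smul_def, _root_.MulAut.inv_apply, _root_.MulAut.conj_symm_apply, _root_.Subgroup.subtype_apply, _root_.Subgroup.coe_mul, _root_.InvMemClass.coe_inv]
    exact h2
  · intro hx
    have h2 : (⟨x, hM hx⟩ : ↥M₀) ∈ U.subgroupOf M₀ := hx
    rw [← h1, Subgroup.mem_pointwise_smul_iff_inv_smul_mem] at h2
    have h3 := Subgroup.mem_subgroupOf.1 h2
    convert h3 using 1
    simp only [MulAut.smul_def, _root_.MulAut.inv_apply, _root_.MulAut.conj_symm_apply, _root_.Subgroup.coe_mul, _root_.InvMemClass.coe_inv]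

/-! ### the parabolic subgroup -/

section Par

variable [Finite W] [Finite Y] [Fact p.Prime]

open Cfsg.Agent.KFacts.RgdCharP

/-- `M₀ = N(R₀)`, `R₀ = O_p(M₀) ≠ 1` is parabolic. -/
theorem exists_par (R : RGD cs h p T n X) (hBT : BT cs h p T X) {R₀ : Subgroup Y} (h1 : R₀ ≠ ⊥)
    (hp : IsPGroup p R₀) (hmax : ∀ N : Subgroup Y, N ≤ Subgroup.normalizer (R₀ : Set Y) →
      Subgroup.normalizer (R₀ : Set Y) ≤ Subgroup.normalizer (N : Set Y) → IsPGroup p N → N ≤ R₀) :
    ∃ (g : Y) (J : Set I), J ≠ Set.univ ∧ R₀ = cj g (VJ cs h X J) ∧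
      Subgroup.normalizer (R₀ : Set Y) ≤ cj g (PJ cs h T X J) := by
  obtain ⟨g, J, hJ, h2, h3⟩ := hBT R₀ hp h1
  refine ⟨g, J, hJ, ?_, h3⟩
  have hV : IsPGroup p (cj g (VJ cs h X J)) := by
    unfold cj
    exact (isPGroup_VJ R J).map _
  refine eq_of_normalizer hV h2 fun v hv hvn => ?_
  have h4 : cj g (VJ cs h X J) ⊓ Subgroup.normalizer (R₀ : Set Y) ≤ R₀ := by
    refine hmax _ inf_le_right ?_ (hV.to_le inf_le_left)
    intro y hy
    have h5 : y ∈ Subgroup.normalizer ((cj g (VJ cs h X J) : Subgroup Y) : Set Y) := by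
      rw [normalizer_cj]
      exact cj_mono g (PJ_le_normalizer_VJ R J) (h3 hy)
    rw [Subgroup.mem_normalizer_iff] at h5 ⊢
    intro x
    rw [Subgroup.mem_inf, Subgroup.mem_inf, h5 x]
    refine and_congr_right fun _ => ?_
    exact Subgroup.mem_normalizer_iff.1 (Subgroup.le_normalizer hy) x
  exact h4 ⟨hv, hvn⟩

/-- A short suborbit gives a small root group. -/
theorem exists_small (R : RGD cs h p T n X) (hG : GG cs h T X = ⊤) {J : Set I} {s : Y} {c : ℕ}
    (hs : s ∉ PJ cs h T X J) (hc : (cj s (PJ cs h T X J)).relIndex (PJ cs h T X J) ≤ c) :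
    ∃ i, i ∉ J ∧ Nat.card ↥(X (sr i)) ≤ c := by
  classical
  set P := PJ cs h T X J with hP
  -- a representative of minimal length
  have hex : ∃ m : ℕ, ∃ (w : W) (k a b : Y), cs.length w = m ∧ Rp cs R.nsys w k ∧ a ∈ P ∧ b ∈ P ∧ k = a * s * b := by
    have h1 : s ∈ GG cs h T X := by rw [hG]; trivial
    obtain ⟨w, b₁, hb₁, k, hk, b₂, hb₂, e⟩ := (mem_GG R).1 h1
    refine ⟨_, w, k, b₁⁻¹, b₂⁻¹, rfl, hk, inv_mem (B_le_PJ hb₁), inv_mem (B_le_PJ hb₂), ?_⟩
    rw [e]; group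
  obtain ⟨w, k, a, b, hw, hk, ha, hb, e⟩ := Nat.find_spec hex
  have hmin : ∀ (w' : W) (k' a' b' : Y), Rp cs R.nsys w' k' → a' ∈ P → b' ∈ P → k' = a' * s * b' →
      cs.length w ≤ cs.length w' := by
    intro w' k' a' b' hk' ha' hb' e'
    rw [hw]
    exact Nat.find_min' hex ⟨w', k', a', b', rfl, hk', ha', hb', e'⟩
  have hkP : k ∉ P := by
    intro h1
    apply hs
    have h2 : s = a⁻¹ * k * b⁻¹ := by rw [e]; group
    rw [h2]
    exact mul_mem (mul_mem (inv_mem ha) h1) (inv_mem hb)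
  have hw1 : w ≠ 1 := by
    rintro rfl
    exact hkP (B_le_PJ (RGD.T_le_B hk.mem_of_one))
  obtain ⟨i, hi⟩ : ∃ i, cs.IsLeftDescent w i := cs.exists_leftDescent_of_ne_one hw1
  have hlt : cs.length (cs.simple i * w) < cs.length w := hi
  have hiJ : i ∉ J := by
    intro h1
    have h2 := hmin (cs.simple i * w) (n i * k) (n i * a) b ((rp_simple cs R.nsys i).mul hk)
      (mul_mem ((n_mem_PJ R).2 h1) ha) hb (by rw [e]; group)
    omega
  have hneg : rep cs h w⁻¹ (sr i) ≤ 0 := by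
    refine nonpos_of_lt cs h w⁻¹ i ?_
    rw [cs.length_inv, ← cs.length_inv (w⁻¹ * cs.simple i), mul_inv_rev, inv_inv, cs.inv_simple]
    exact hlt
  have hroot := (isRoot_sr cs h i).act w⁻¹
  -- the root lies outside `Φ_J`
  have hnot : rep cs h w⁻¹ (sr i) ∈ NotNJ cs h J := by
    refine ⟨hroot.neg, neg_nonneg.2 hneg, ?_⟩
    by_contra hcon
    push Not at hcon
    set x : I → ℤ := -rep cs h w⁻¹ (sr i) with hx
    have hx0 : 0 ≤ x := neg_nonneg.2 hneg
    have hwx : rep cs h w x = -sr i := by rw [hx, map_neg, rep_apply_inv]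
    have hJx : ∀ j, j ∉ J → x j = 0 := fun j hj => le_antisymm (hcon j hj) (hx0 j)
    have hpos : ∀ j ∈ J, 0 ≤ rep cs h w (sr j) := by
      intro j hj
      rw [sr, ← lt_iff' cs h w j]
      have h2 := hmin (w * cs.simple j) (k * n j) a (b * n j) (hk.mul (rp_simple cs R.nsys j)) ha
        (mul_mem hb ((n_mem_PJ R).2 hj)) (by rw [e]; group)
      have h3 := cs.length_mul_simple w j
      omega
    have h4 : 0 ≤ rep cs h w x := by
      rw [Cfsg.Agent.KFacts.RgdPar.eq_sum_sr x, map_sum]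
      refine Finset.sum_nonneg fun j _ => ?_
      rw [map_zsmul]
      by_cases hj : j ∈ J
      · exact smul_nonneg (hx0 j) (hpos j hj)
      · rw [hJx j hj, zero_smul]
    rw [hwx] at h4
    have h5 := h4 i
    rw [Pi.neg_apply, sr_self] at h5
    exact absurd h5 (show ¬ (0 : ℤ) ≤ -1 by decide)
  refine ⟨i, hiJ, ?_⟩
  have hinf : X (sr i) ⊓ cj k P = ⊥ := by
    rw [Subgroup.eq_bot_iff_forall]
    rintro x ⟨hx1, hx2⟩
    have h1 : k⁻¹ * x * k ∈ X (rep cs h w⁻¹ (sr i)) := R.conj_mem' hk (isRoot_sr cs h i) hx1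
    have h2 : k⁻¹ * x * k ∈ VNJ cs h X J := RGD.le_Sup (S := NotNJ cs h J) hnot h1
    have h3 := eq_one_of_mem_VNJ_of_mem_PJ R h2 (mem_cj.1 hx2)
    have h4 : x = k * (k⁻¹ * x * k) * k⁻¹ := by group
    rw [h4, h3]; group
  have h1 : (cj k P).relIndex P = (cj s P).relIndex P := by
    have h2 : cj k P = cj a (cj s P) := by rw [e, cj_mul, cj_mul, cj_eq_of_mem hb]
    have h3 : P = cj a P := (cj_eq_of_mem ha).symm
    rw [h2]
    conv_lhs => rw [h3]
    unfold cj
    rw [← Subgroup.relIndex_comap, Subgroup.comap_map_eq_self_of_injective (MulAut.conj a).injective]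
    congr 1
    conv_lhs => rw [show Subgroup.map (MulAut.conj a).toMonoidHom P = P from h3.symm]
  have hXP : X (sr i) ≤ P := le_trans (RGD.X_le_B (isRoot_sr cs h i) (sr_nonneg i)) B_le_PJ
  have h2 : (cj k P).relIndex (X (sr i)) ≤ (cj k P).relIndex P :=
    Subgroup.relIndex_le_of_le_right hXP Subgroup.index_ne_zero_of_finite
  rw [← Subgroup.inf_relIndex_left, hinf, Subgroup.relIndex_bot_left] at h2
  rw [h1] at h2
  exact le_trans h2 hc

/-- The number of nodes in `J`. -/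
theorem card_J_le (R : RGD cs h p T n X) (J : Finset I) {c : ℕ}
    (hc : (VJ cs h X (J : Set I)).relIndex (PJ cs h T X (J : Set I)) ≤ c) : J.card ≤ c := by
  refine le_trans ?_ hc
  have h1 : ∀ j : J, n j ∈ PJ cs h T X (J : Set I) := fun j => (n_mem_PJ R).2 j.2
  let f : J → ↥(PJ cs h T X (J : Set I)) ⧸ (VJ cs h X (J : Set I)).subgroupOf (PJ cs h T X (J : Set I)) :=
    fun j => QuotientGroup.mk ⟨n j, h1 j⟩
  have hf : Function.Injective f := by
    intro i j hij
    have h2 := QuotientGroup.eq.1 hij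
    have h3 : (n i)⁻¹ * n j ∈ VJ cs h X (J : Set I) := h2
    exact Subtype.ext (R.eq_of_inv_mul_mem (VJ_le_B _ h3))
  have h2 := Nat.card_le_card_of_injective f hf
  rwa [Nat.card_eq_fintype_card, Fintype.card_coe] at h2

theorem card_le_of_inf {V P E : Subgroup Y} {c : ℕ} (hc : V.relIndex P ≤ c) (hE : E ≤ P) (h0 : E ⊓ V = ⊥) :
    Nat.card E ≤ c := by
  have h1 : V.relIndex E ≤ V.relIndex P := Subgroup.relIndex_le_of_le_right hE Subgroup.index_ne_zero_of_finite
  rw [← Subgroup.inf_relIndex_left, h0, Subgroup.relIndex_bot_left] at h1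
  exact le_trans h1 hc

end Par

/-! ### the main bound, for `M₀ = P_J` -/

section Main

variable [Finite W] [Finite Y] [Fact p.Prime]

open Cfsg.Agent.KFacts.RgdCharP Cfsg.Agent.KFacts.RgdSyl

theorem index_U (R : RGD cs h p T n X) (hG : GG cs h T X = ⊤) : ¬ p ∣ (RGD.Sup X (RGD.Pos cs h)).index := by
  have := not_dvd_relIndex R
  rwa [hG, Subgroup.relIndex_top_right] at this

theorem U_le_PJ {J : Set I} : RGD.Sup X (RGD.Pos cs h) ≤ PJ cs h T X J := le_trans RGD.U_le_B B_le_PJ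

theorem cj_fix {α : MulAut Y} {H : Subgroup Y} (hα : _root_.Cfsg.Agent.KFacts.RgdAut.Fix α H) : H.map α.toMonoidHom = H := fix_iff.1 hα

/-- An automorphism preserving `P_J`, up to an inner one from `P_J`, is a frame automorphism. -/
theorem exists_frame_of_fix (R : RGD cs h p T n X) (hG : GG cs h T X = ⊤) {J : Set I} {α : MulAut Y}
    (hα : _root_.Cfsg.Agent.KFacts.RgdAut.Fix α (PJ cs h T X J)) : ∃ m ∈ PJ cs h T X J, ∃ σ : Equiv.Perm I,
      _root_.Cfsg.Agent.KFacts.RgdDiag.Diag T X (MulAut.conj m * α) σ ∧ _root_.Cfsg.Agent.KFacts.RgdAut.Fix (MulAut.conj m * α) (RGD.B cs h T X) := by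
  have hU := R.isPGroup_Upos
  have hUi := index_U R hG
  have hU' : IsPGroup p ↥((RGD.Sup X (RGD.Pos cs h)).map α.toMonoidHom) := hU.map _
  have hUi' : ¬ p ∣ ((RGD.Sup X (RGD.Pos cs h)).map α.toMonoidHom).index := by
    have h1 : ((RGD.Sup X (RGD.Pos cs h)).map α.toMonoidHom).index = (RGD.Sup X (RGD.Pos cs h)).index :=
      Subgroup.index_map_equiv _ α
    rwa [h1]
  have hle : (RGD.Sup X (RGD.Pos cs h)).map α.toMonoidHom ≤ PJ cs h T X J := by
    rintro _ ⟨x, hx, rfl⟩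
    exact (hα x).2 (U_le_PJ hx)
  obtain ⟨m, hm, e⟩ := sylow_conj hU hU' hUi hUi' U_le_PJ hle
  have hfix : _root_.Cfsg.Agent.KFacts.RgdAut.Fix (MulAut.conj m * α) (RGD.Sup X (RGD.Pos cs h)) := by
    rw [fix_iff]
    conv_rhs => rw [← e]
    unfold cj
    rw [Subgroup.map_map]
    rfl
  obtain ⟨u, hu, h1, h2, h3, h4, h5⟩ := exists_frame R hG hfix
  obtain ⟨σ, hσ⟩ := exists_diag R hG h1 h3
  refine ⟨u * m, mul_mem (U_le_PJ hu) hm, σ, ?_, ?_⟩
  · rw [map_mul, mul_assoc]; exact hσ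
  · rw [map_mul, mul_assoc]; exact h2

theorem fix_conj {m : Y} {H : Subgroup Y} (hm : m ∈ H) : _root_.Cfsg.Agent.KFacts.RgdAut.Fix (MulAut.conj m) H := by
  intro x
  rw [MulAut.conj_apply]
  exact (Subgroup.mem_normalizer_iff.1 (Subgroup.le_normalizer hm) x).symm

/-- The bound for the rank and the root groups. -/
theorem rank_le (R : RGD cs h p T n X) (hG : GG cs h T X = ⊤) (hconn : Conn M) {J : Finset I}
    (hJ : (J : Set I) ≠ Set.univ) (𝒢 : Subgroup (MulAut Y)) (hinn : ∀ y : Y, MulAut.conj y ∈ 𝒢)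
    (hprod : ∀ β ∈ 𝒢, ∃ y : Y, _root_.Cfsg.Agent.KFacts.RgdAut.Fix (MulAut.conj y * β) (PJ cs h T X (J : Set I)))
    (hmax : ∀ P : Subgroup Y, PJ cs h T X (J : Set I) ≤ P → P ≠ ⊤ →
      (∀ α ∈ 𝒢, _root_.Cfsg.Agent.KFacts.RgdAut.Fix α (PJ cs h T X (J : Set I)) → _root_.Cfsg.Agent.KFacts.RgdAut.Fix α P) → P = PJ cs h T X (J : Set I))
    {c : ℕ} (hs : ∃ s : Y, s ∉ PJ cs h T X (J : Set I) ∧
      (cj s (PJ cs h T X (J : Set I))).relIndex (PJ cs h T X (J : Set I)) ≤ c)
    (hc : (VJ cs h X (J : Set I)).relIndex (PJ cs h T X (J : Set I)) ≤ c) :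
    Fintype.card I ≤ 4 * c + 2 ∧ Nat.card T ≤ c ∧ ∀ i, Nat.card ↥(X (sr i)) ≤ c := by
  classical
  set P := PJ cs h T X (J : Set I) with hP
  let Γ : Set (Equiv.Perm I) := {σ | ∃ β ∈ 𝒢, _root_.Cfsg.Agent.KFacts.RgdDiag.Diag T X β σ ∧ _root_.Cfsg.Agent.KFacts.RgdAut.Fix β (RGD.B cs h T X)}
  have hΓJ : ∀ σ ∈ Γ, ∀ i, σ i ∈ J ↔ i ∈ J := by
    rintro σ ⟨β, hβ, D, hB⟩ i
    -- `β` fixes `P`
    have hfixP : _root_.Cfsg.Agent.KFacts.RgdAut.Fix β P := by
      obtain ⟨y, hy⟩ := hprod β hβ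
      have hU := R.isPGroup_Upos
      have hUi := index_U R hG
      -- `U` and its conjugate by `y` lie in `P`
      have hβU : (RGD.Sup X (RGD.Pos cs h)).map β.toMonoidHom = RGD.Sup X (RGD.Pos cs h) := by
        apply fix_iff.1
        intro x
        constructor
        · intro hx
          obtain ⟨k, hk⟩ := R.isPGroup_Upos ⟨β x, hx⟩
          have h1 : (β x) ^ p ^ k = 1 := by simpa only [_root_.SubmonoidClass.mk_pow, _root_.OneMemClass.coe_one] using congrArg Subtype.val hk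
          rw [← map_pow] at h1
          have h2 : x ^ p ^ k = 1 := β.injective (by rw [h1, map_one])
          exact R.mem_U_of_mem_B ((hB x).1 (RGD.U_le_B hx)) h2
        · intro hx
          obtain ⟨k, hk⟩ := R.isPGroup_Upos ⟨x, hx⟩
          have h1 : x ^ p ^ k = 1 := by simpa only [_root_.SubmonoidClass.mk_pow, _root_.OneMemClass.coe_one] using congrArg Subtype.val hk
          refine R.mem_U_of_mem_B ((hB x).2 (RGD.U_le_B hx)) (k := k) ?_
          rw [← map_pow, h1, map_one]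
      have hle : cj y (RGD.Sup X (RGD.Pos cs h)) ≤ P := by
        intro x hx
        rw [← cj_fix hy]
        rw [mem_cj, ← hβU] at hx
        obtain ⟨u, hu, e⟩ := hx
        refine ⟨u, U_le_PJ hu, ?_⟩
        show y * β u * y⁻¹ = x
        have e' : β u = y⁻¹ * x * y := e
        rw [e']; group
      have hUy : IsPGroup p ↥(cj y (RGD.Sup X (RGD.Pos cs h))) := by
        unfold cj
        exact hU.map _
      have hUyi : ¬ p ∣ (cj y (RGD.Sup X (RGD.Pos cs h))).index := by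
        have h1 : (cj y (RGD.Sup X (RGD.Pos cs h))).index = (RGD.Sup X (RGD.Pos cs h)).index :=
          Subgroup.index_map_equiv _ (MulAut.conj y)
        rwa [h1]
      obtain ⟨m, hm, e⟩ := sylow_conj hU hUy hUi hUyi U_le_PJ hle
      rw [← cj_mul, ← mem_normalizer_iff_cj, normalizer_U' R hG] at e
      have hyP : y ∈ P := by
        have h1 : y = m⁻¹ * (m * y) := by group
        rw [h1]
        exact mul_mem (inv_mem hm) (B_le_PJ e)
      have h2 : β = (MulAut.conj y)⁻¹ * (MulAut.conj y * β) := by group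
      rw [h2]
      exact ((fix_conj hyP).inv).mul hy
    exact perm_mem R D hfixP i
  have hM : ∀ σ ∈ Γ, ∀ i j, M (σ i) (σ j) = M i j := by
    rintro σ ⟨β, hβ, D, hB⟩ i j
    exact D.matrix R i j
  have hinv : ∀ σ ∈ Γ, σ⁻¹ ∈ Γ := by
    rintro σ ⟨β, hβ, D, hB⟩
    exact ⟨β⁻¹, inv_mem hβ, D.inv, hB.inv⟩
  have hmul : ∀ σ ∈ Γ, ∀ τ ∈ Γ, σ * τ ∈ Γ := by
    rintro σ ⟨β, hβ, D, hB⟩ τ ⟨β', hβ', D', hB'⟩
    exact ⟨β * β', mul_mem hβ hβ', D.mul D', hB.mul hB'⟩
  have hone : (1 : Equiv.Perm I) ∈ Γ := ⟨1, one_mem _, Diag.one, fun _ => Iff.rfl⟩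
  -- transitivity
  have ht : ∀ i j, i ∉ J → j ∉ J → ∃ σ ∈ Γ, σ i = j := by
    intro i j hi hj
    let K : Set I := (J : Set I) ∪ {k | ∃ σ ∈ Γ, σ i = k}
    have hKfix : ∀ σ ∈ Γ, ∀ k, σ k ∈ K ↔ k ∈ K := by
      intro σ hσ k
      constructor
      · rintro (h1 | ⟨τ, hτ, e⟩)
        · exact Or.inl ((hΓJ σ hσ k).1 h1)
        · refine Or.inr ⟨σ⁻¹ * τ, hmul _ (hinv _ hσ) _ hτ, ?_⟩
          rw [Equiv.Perm.mul_apply, e]
          exact σ.symm_apply_apply k
      · rintro (h1 | ⟨τ, hτ, e⟩)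
        · exact Or.inl ((hΓJ σ hσ k).2 h1)
        · exact Or.inr ⟨σ * τ, hmul _ hσ _ hτ, by rw [Equiv.Perm.mul_apply, e]⟩
    have hKuniv : K = Set.univ := by
      by_contra hK
      have h1 := hmax (PJ cs h T X K) (PJ_mono R Set.subset_union_left) (PJ_ne_top R hK) (by
        intro α hα hαP
        obtain ⟨m, hm, σ, D, hB⟩ := exists_frame_of_fix R hG hαP
        have hσ : σ ∈ Γ := ⟨_, mul_mem (hinn m) hα, D, hB⟩
        have h2 := fix_PJ R hG D hB (hKfix σ hσ)
        have h3 : α = (MulAut.conj m)⁻¹ * (MulAut.conj m * α) := by group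
        rw [h3]
        exact ((fix_conj (PJ_mono R Set.subset_union_left hm)).inv).mul h2)
      have h2 : i ∈ K := Or.inr ⟨1, hone, rfl⟩
      rw [← n_mem_PJ R, h1, hP, n_mem_PJ R] at h2
      exact hi h2
    have h1 : j ∈ K := by rw [hKuniv]; trivial
    rcases h1 with h1 | h1
    · exact absurd h1 hj
    · exact h1
  have h1 := SimsDiag.card_le cs h hconn J Γ hM (fun σ hσ i hi => (hΓJ σ hσ i).2 hi) ht
  have h2 := card_J_le R J hc
  refine ⟨by omega, ?_, ?_⟩
  · refine card_le_of_inf hc (le_trans T_le_LJ LJ_le_PJ) ?_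
    rw [eq_bot_iff, ← U_inf_T R]
    exact le_inf (le_trans inf_le_right (VJ_le_U _)) inf_le_left
  · obtain ⟨s, hs1, hs2⟩ := hs
    obtain ⟨i₀, hi₀, hi₀'⟩ := exists_small R hG hs1 hs2
    intro i
    by_cases hi : i ∈ J
    · refine card_le_of_inf hc (le_trans (RGD.X_le_B (isRoot_sr cs h i) (sr_nonneg i)) B_le_PJ) ?_
      rw [eq_bot_iff, ← LJ_inf_VJ R (J : Set I)]
      exact inf_le_inf_right _ (X_le_LJ (PosJ_subset _ (sr_mem_PosJ hi)))
    · obtain ⟨σ, ⟨β, hβ, D, hB⟩, rfl⟩ := ht i₀ i hi₀ hi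
      rw [Cfsg.Agent.KFacts.RgdNodes.Diag.card_eq D]
      exact hi₀'

end Main

end Cfsg.Agent.H851.SimsRgd
end
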