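import Cfsg.Agent.OddOrderLocal.FrobAct
import Cfsg.Agent.OddOrderLocal.Thm34Base
set_option linter.all false

-- part: H851/P2
section
/-!
# P2: Frobenius action on an abelian section
-/

set_option autoImplicit false

namespace Cfsg.Agent.H851.PQ

open Cfsg.Agent.OddOrderLocal

section Act

variable {Γ : Type*} [Group Γ]

/-- An element of a finite group mapping a subgroup into itself normalises it. -/
theorem mem_normalizer_of_le [Finite Γ] {Q : Subgroup Γ} {x : Γ} (h : ∀ y ∈ Q, x * y * x⁻¹ ∈ Q) :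
    x ∈ Subgroup.normalizer (Q : Set Γ) := by
  have hmap : Q.map (MulAut.conj x).toMonoidHom ≤ Q := by
    rintro _ ⟨y, hy, rfl⟩
    exact h y hy
  have heq : Q.map (MulAut.conj x).toMonoidHom = Q := by
    apply Subgroup.eq_of_le_of_card_ge hmap
    rw [Subgroup.card_map_of_injective (MulAut.conj x).injective]
  rw [Subgroup.mem_normalizer_iff]
  intro y
  constructor
  · intro hy
    exact h y hy
  · intro hy
    rw [← heq] at hy
    obtain ⟨z, hz, hzy⟩ := hy
    have h1 : x * z * x⁻¹ = x * y * x⁻¹ := hzy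
    have h2 : z = y := mul_left_cancel (mul_right_cancel h1)
    rw [← h2]
    exact hz

/-- The action by conjugation of the common normaliser on the quotient `Q / D`. -/
def secAct (Q D : Subgroup Γ) [(D.subgroupOf Q).Normal] (A : Subgroup Γ)
    (hAQ : A ≤ Subgroup.normalizer (Q : Set Γ)) (hAD : A ≤ Subgroup.normalizer (D : Set Γ)) :
    A →* MulAut (Q ⧸ D.subgroupOf Q) where
  toFun a := QuotientGroup.congr (D.subgroupOf Q) (D.subgroupOf Q)
    (Q.normalizerMonoidHom ⟨a, hAQ a.2⟩) (by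
      ext y
      constructor
      · rintro ⟨z, hz, rfl⟩
        have hz' : (z : Γ) ∈ D := hz
        have h := (Subgroup.mem_normalizer_iff.mp (hAD a.2) z).mp hz'
        exact h
      · intro hy
        have hy' : (y : Γ) ∈ D := hy
        have hi : (a : Γ)⁻¹ * y * a ∈ D := by
          rw [Subgroup.mem_normalizer_iff.mp (hAD a.2)]
          have : (a : Γ) * ((a : Γ)⁻¹ * y * a) * (a : Γ)⁻¹ = y := by group
          rw [this]
          exact hy'
        have hiQ : (a : Γ)⁻¹ * y * a ∈ Q := by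
          rw [Subgroup.mem_normalizer_iff.mp (hAQ a.2)]
          have : (a : Γ) * ((a : Γ)⁻¹ * y * a) * (a : Γ)⁻¹ = y := by group
          rw [this]
          exact y.2
        refine ⟨⟨_, hiQ⟩, hi, ?_⟩
        apply Subtype.ext
        change (a : Γ) * ((a : Γ)⁻¹ * y * a) * (a : Γ)⁻¹ = y
        group)
  map_one' := by
    ext v
    obtain ⟨y, rfl⟩ := QuotientGroup.mk_surjective v
    change ((Q.normalizerMonoidHom ⟨(1 : A), _⟩ y : Q) : Q ⧸ D.subgroupOf Q) = _
    congr 1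
    apply Subtype.ext
    change (1 : Γ) * y * (1 : Γ)⁻¹ = y
    group
  map_mul' a b := by
    ext v
    obtain ⟨y, rfl⟩ := QuotientGroup.mk_surjective v
    change ((Q.normalizerMonoidHom ⟨((a * b : A) : Γ), _⟩ y : Q) : Q ⧸ D.subgroupOf Q) =
      ((Q.normalizerMonoidHom ⟨(a : Γ), _⟩ (Q.normalizerMonoidHom ⟨(b : Γ), _⟩ y) : Q) :
        Q ⧸ D.subgroupOf Q)
    congr 1
    apply Subtype.ext
    change ((a : Γ) * b) * y * ((a : Γ) * b)⁻¹ = (a : Γ) * ((b : Γ) * y * (b : Γ)⁻¹) * (a : Γ)⁻¹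
    group

theorem secAct_mk (Q D : Subgroup Γ) [(D.subgroupOf Q).Normal] (A : Subgroup Γ)
    (hAQ : A ≤ Subgroup.normalizer (Q : Set Γ)) (hAD : A ≤ Subgroup.normalizer (D : Set Γ))
    (a : A) (y : Q) :
    secAct Q D A hAQ hAD a (y : Q ⧸ D.subgroupOf Q) =
      ((⟨(a : Γ) * y * (a : Γ)⁻¹,
        (Subgroup.mem_normalizer_iff.mp (hAQ a.2) y).mp y.2⟩ : Q) : Q ⧸ D.subgroupOf Q) := rfl

end Act

/-- A non-trivial power of an element of prime order generates the same subgroup. -/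
theorem mem_zpowers_of_prime {Γ : Type*} [Group Γ] {x r : Γ} {e : ℕ} (he : e.Prime)
    (hxe : x ^ e = 1) (hx1 : x ≠ 1) (hr : r ∈ Subgroup.zpowers x) (hr1 : r ≠ 1) :
    x ∈ Subgroup.zpowers r := by
  have hord : orderOf x = e := by
    have : Fact e.Prime := ⟨he⟩
    exact orderOf_eq_prime hxe hx1
  have hfin : Finite (Subgroup.zpowers x) := by
    apply Nat.finite_of_card_ne_zero
    rw [Nat.card_zpowers, hord]
    exact he.ne_zero
  have h4 : Nat.card (Subgroup.zpowers r) ∣ Nat.card (Subgroup.zpowers x) :=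
    Subgroup.card_dvd_of_le ((Subgroup.zpowers_le).mpr hr)
  rw [Nat.card_zpowers x, hord] at h4
  rcases (Nat.dvd_prime he).mp h4 with h5 | h5
  · exfalso
    rw [Nat.card_zpowers] at h5
    exact hr1 (orderOf_eq_one_iff.mp h5)
  · have h6 : Subgroup.zpowers r = Subgroup.zpowers x := by
      apply Subgroup.eq_of_le_of_card_ge ((Subgroup.zpowers_le).mpr hr)
      rw [h5, Nat.card_zpowers, hord]
    rw [h6]
    exact Subgroup.mem_zpowers x

/-- P2 (Frobenius action on an abelian section). -/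
theorem P2 {Γ : Type*} [Group Γ] [Finite Γ] (T Q D C : Subgroup Γ) (x : Γ) {e : ℕ}
    (he : e.Prime) (hxe : x ^ e = 1)
    (hxT : ∀ y ∈ T, x * y * x⁻¹ ∈ T) (hxQ : ∀ y ∈ Q, x * y * x⁻¹ ∈ Q) (hxD : ∀ y ∈ D, x * y * x⁻¹ ∈ D)
    (hTQ : ∀ t ∈ T, ∀ y ∈ Q, t * y * t⁻¹ ∈ Q) (hTD : ∀ t ∈ T, ∀ y ∈ D, t * y * t⁻¹ ∈ D)
    (hDQ : D ≤ Q) (hQD : ∀ t ∈ Q, ∀ y ∈ D, t * y * t⁻¹ ∈ D)
    (hQQ : ∀ y ∈ Q, ∀ z ∈ Q, y * z * y⁻¹ * z⁻¹ ∈ D)
    (hcop : (Nat.card T).Coprime (Nat.card Q)) (heQ : ¬ e ∣ Nat.card Q) (heT : ¬ e ∣ Nat.card T)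
    (hxfix : ∀ t ∈ T, x * t = t * x → t = 1)
    (hTfix : ∀ y ∈ Q, (∀ t ∈ T, y⁻¹ * (t * y * t⁻¹) ∈ D) → y ∈ D)
    (hC : ∀ y, y ∈ C ↔ y ∈ Q ∧ y⁻¹ * (x * y * x⁻¹) ∈ D) :
    D.relIndex Q = (D.relIndex C) ^ e := by
  classical
  by_cases hx1 : x = 1
  · -- everything is trivial
    subst hx1
    have hT : ∀ t ∈ T, t = 1 := fun t ht => hxfix t ht (by rw [one_mul, mul_one])
    have hQD' : Q ≤ D := by
      intro y hy
      apply hTfix y hy
      intro t ht
      rw [hT t ht]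
      have : y⁻¹ * (1 * y * 1⁻¹) = (1 : Γ) := by group
      rw [this]
      exact D.one_mem
    have hCD : C ≤ D := fun y hy => hQD' ((hC y).mp hy).1
    rw [Subgroup.relIndex_eq_one.mpr hQD', Subgroup.relIndex_eq_one.mpr hCD, one_pow]
  have hord : orderOf x = e := by
    have : Fact e.Prime := ⟨he⟩
    exact orderOf_eq_prime hxe hx1
  have hnorm : (D.subgroupOf Q).Normal := by
    constructor
    intro y hy g
    exact hQD g g.2 y hy
  let R : Subgroup Γ := Subgroup.zpowers x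
  have hRQ : R ≤ Subgroup.normalizer (Q : Set Γ) := by
    rw [Subgroup.zpowers_le]; exact mem_normalizer_of_le hxQ
  have hRD : R ≤ Subgroup.normalizer (D : Set Γ) := by
    rw [Subgroup.zpowers_le]; exact mem_normalizer_of_le hxD
  have hRT : R ≤ Subgroup.normalizer (T : Set Γ) := by
    rw [Subgroup.zpowers_le]; exact mem_normalizer_of_le hxT
  have hTQ' : T ≤ Subgroup.normalizer (Q : Set Γ) := fun t ht => mem_normalizer_of_le (hTQ t ht)
  have hTD' : T ≤ Subgroup.normalizer (D : Set Γ) := fun t ht => mem_normalizer_of_le (hTD t ht)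
  let α : T →* MulAut (Q ⧸ D.subgroupOf Q) := secAct Q D T hTQ' hTD'
  let β : R →* MulAut (Q ⧸ D.subgroupOf Q) := secAct Q D R hRQ hRD
  let σ : R →* MulAut T := T.normalizerMonoidHom.comp (Subgroup.inclusion hRT)
  have hσ : ∀ (r : R) (y : T), ((σ r y : T) : Γ) = (r : Γ) * y * (r : Γ)⁻¹ := fun r y => rfl
  have hσf : ∀ r : R, r ≠ 1 → ∀ t : T, σ r t = t → t = 1 := by
    intro r hr t ht
    have h1 : (r : Γ) * t * (r : Γ)⁻¹ = t := by
      rw [← hσ]
      exact congrArg Subtype.val ht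
    have h2 : Commute (r : Γ) (t : Γ) := eq_mul_of_mul_inv_eq h1
    have h3 : x ∈ Subgroup.zpowers (r : Γ) :=
      mem_zpowers_of_prime he hxe hx1 r.2 (fun h => hr (Subtype.ext h))
    obtain ⟨m, hm⟩ := h3
    have h7 : Commute x (t : Γ) := by
      rw [← hm]
      exact h2.zpow_left m
    exact Subtype.ext (hxfix t t.2 h7)
  have hcomm : ∀ a b : Q ⧸ D.subgroupOf Q, a * b = b * a := by
    intro a b
    obtain ⟨y, rfl⟩ := QuotientGroup.mk_surjective a
    obtain ⟨z, rfl⟩ := QuotientGroup.mk_surjective b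
    rw [← QuotientGroup.mk_mul, ← QuotientGroup.mk_mul, QuotientGroup.eq]
    have h1 := hQQ (y : Γ)⁻¹ (Q.inv_mem y.2) (z : Γ)⁻¹ (Q.inv_mem z.2)
    -- `(yz)⁻¹ (zy) = z⁻¹ y⁻¹ z y`
    have h2 := hQQ (z : Γ)⁻¹ (Q.inv_mem z.2) (y : Γ)⁻¹ (Q.inv_mem y.2)
    change ((y * z : Q) : Γ)⁻¹ * ((z * y : Q) : Γ) ∈ D
    have h3 : ((y * z : Q) : Γ)⁻¹ * ((z * y : Q) : Γ) =
        (z : Γ)⁻¹ * (y : Γ)⁻¹ * ((z : Γ)⁻¹)⁻¹ * ((y : Γ)⁻¹)⁻¹ := by
      rw [Subgroup.coe_mul, Subgroup.coe_mul]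
      group
    rw [h3]
    exact h2
  let instC : CommGroup (Q ⧸ D.subgroupOf Q) :=
    { (inferInstance : Group (Q ⧸ D.subgroupOf Q)) with mul_comm := hcomm }
  have hcardM : Nat.card (Q ⧸ D.subgroupOf Q) ∣ Nat.card Q := by
    rw [← Subgroup.index_eq_card]
    exact Subgroup.index_dvd_card _
  have hcompat : ∀ (r : R) (t : T) (v : Q ⧸ D.subgroupOf Q),
      β r (α t v) = α (σ r t) (β r v) := by
    intro r t v
    obtain ⟨y, rfl⟩ := QuotientGroup.mk_surjective v
    rw [secAct_mk, secAct_mk, secAct_mk, secAct_mk]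
    congr 1
    apply Subtype.ext
    change (r : Γ) * ((t : Γ) * y * (t : Γ)⁻¹) * (r : Γ)⁻¹ =
      ((r : Γ) * t * (r : Γ)⁻¹) * ((r : Γ) * y * (r : Γ)⁻¹) * ((r : Γ) * t * (r : Γ)⁻¹)⁻¹
    group
  have hfix : ∀ m : Q ⧸ D.subgroupOf Q, (∀ t, α t m = m) → m = 1 := by
    intro m hm
    obtain ⟨y, rfl⟩ := QuotientGroup.mk_surjective m
    rw [QuotientGroup.eq_one_iff]
    apply hTfix y y.2
    intro t ht
    have h1 := hm ⟨t, ht⟩
    rw [secAct_mk] at h1
    have h2 := QuotientGroup.eq.mp h1.symm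
    exact h2
  have hRcard : Nat.card R = e := by rw [Nat.card_zpowers, hord]
  have hmain := (FrobAct.nilpotent_main σ hσf (Nat.card (Q ⧸ D.subgroupOf Q))
    (Q ⧸ D.subgroupOf Q) le_rfl α β hcompat (hcop.coprime_dvd_right hcardM)
    (by
      rw [hRcard]
      exact (((Nat.Prime.coprime_iff_not_dvd he).mpr heQ)).coprime_dvd_right hcardM)
    hfix).1
  rw [hRcard] at hmain
  have h1 : D.relIndex Q = Nat.card (Q ⧸ D.subgroupOf Q) := by
    rw [Subgroup.relIndex, Subgroup.index_eq_card]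
  -- fixed points
  have hCQ : C ≤ Q := fun y hy => ((hC y).mp hy).1
  have hDn : (D.subgroupOf C).Normal := by
    constructor
    intro y hy g
    exact hQD g (hCQ g.2) y hy
  have hfixedx : ∀ v : Q ⧸ D.subgroupOf Q,
      β ⟨x, Subgroup.mem_zpowers x⟩ v = v → v ∈ FrobAct.fixedPts β := by
    intro v hv r
    obtain ⟨n, hn⟩ := r.2
    have h2 : r = (⟨x, Subgroup.mem_zpowers x⟩ : R) ^ n := by
      apply Subtype.ext
      rw [← hn]
      rfl
    rw [h2, map_zpow]
    have : β ⟨x, Subgroup.mem_zpowers x⟩ ∈ MulAction.stabilizer (MulAut (Q ⧸ D.subgroupOf Q)) v :=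
      hv
    exact Subgroup.zpow_mem _ this n
  let f : C →* FrobAct.fixedPts β :=
    { toFun := fun y => ⟨((⟨y, hCQ y.2⟩ : Q) : Q ⧸ D.subgroupOf Q), by
        apply hfixedx
        rw [secAct_mk]
        symm
        rw [QuotientGroup.eq]
        exact ((hC y).mp y.2).2⟩
      map_one' := rfl
      map_mul' := fun y z => rfl }
  have hfs : Function.Surjective f := by
    rintro ⟨v, hv⟩
    obtain ⟨y, rfl⟩ := QuotientGroup.mk_surjective v
    have h2 := hv ⟨x, Subgroup.mem_zpowers x⟩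
    rw [secAct_mk] at h2
    have h3 := QuotientGroup.eq.mp h2.symm
    refine ⟨⟨y, (hC y).mpr ⟨y.2, h3⟩⟩, rfl⟩
  have hfk : f.ker = D.subgroupOf C := by
    ext y
    rw [MonoidHom.mem_ker, Subgroup.mem_subgroupOf]
    constructor
    · intro h
      have h2 := congrArg Subtype.val h
      have h3 : ((⟨y, hCQ y.2⟩ : Q) : Q ⧸ D.subgroupOf Q) = 1 := h2
      rw [QuotientGroup.eq_one_iff] at h3
      exact h3
    · intro h
      apply Subtype.ext
      change ((⟨y, hCQ y.2⟩ : Q) : Q ⧸ D.subgroupOf Q) = 1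
      rw [QuotientGroup.eq_one_iff]
      exact h
  have h2 : D.relIndex C = Nat.card (FrobAct.fixedPts β) := by
    rw [Subgroup.relIndex, ← hfk, Subgroup.index_ker]
    rw [MonoidHom.range_eq_top.mpr hfs, Subgroup.card_top]
  rw [h1, h2, hmain]

end Cfsg.Agent.H851.PQ
end

-- part: H851/P1
section
/-!
# P1: Hall-Higman inequality for an element of prime order on a group acting with scalar commutators
-/

set_option autoImplicit false
set_option linter.unusedSectionVars false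

namespace Cfsg.Agent.H851.PQ

open Module
open Cfsg.Agent.OddOrderLocal.Thm34Base

/-- Burnside count of the orbits of a permutation of prime order. -/
theorem orbit_count_fix {Q : Type*} [Finite Q] (σ : Equiv.Perm Q) {r : ℕ} (hr : r.Prime)
    (hσr : σ ^ r = 1) (hσ1 : σ ≠ 1) :
    r * Nat.card (MulAction.orbitRel.Quotient (Subgroup.zpowers σ) Q) =
      Nat.card Q + (r - 1) * Nat.card {q : Q // σ q = q} := by
  classical
  have := Fintype.ofFinite Q
  have hfr : Fact r.Prime := ⟨hr⟩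
  have hord : orderOf σ = r := orderOf_eq_prime hσr hσ1
  have hcard : Fintype.card (Subgroup.zpowers σ) = r := by
    rw [Fintype.card_zpowers, hord]
  have hB := MulAction.sum_card_fixedBy_eq_card_orbits_mul_card_group (Subgroup.zpowers σ) Q
  have hfix : ∀ a : Subgroup.zpowers σ, Fintype.card (MulAction.fixedBy Q a) =
      if a = 1 then Fintype.card Q else Fintype.card {q : Q // σ q = q} := by
    intro a
    split_ifs with ha
    · subst ha
      apply Fintype.card_congr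
      refine (Equiv.subtypeUnivEquiv ?_)
      intro q
      simp
    · obtain ⟨n, hn⟩ := a.2
      have hn' : (σ ^ n : Equiv.Perm Q) = a := hn
      apply Fintype.card_congr
      refine Equiv.subtypeEquivRight ?_
      intro q
      rw [MulAction.mem_fixedBy]
      constructor
      · intro hq
        have hq' : (a : Equiv.Perm Q) q = q := hq
        -- σ is a power of a
        have hao : orderOf (a : Equiv.Perm Q) = r := by
          have h1 : orderOf (a : Equiv.Perm Q) ∣ r := by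
            rw [← hord]; rw [← hn']
            exact orderOf_dvd_of_mem_zpowers (Subgroup.zpow_mem_zpowers σ n)
          rcases (Nat.dvd_prime hr).1 h1 with h2 | h2
          · exfalso; apply ha
            rw [orderOf_eq_one_iff] at h2
            exact Subtype.ext h2
          · exact h2
        have hmem : σ ∈ Subgroup.zpowers (a : Equiv.Perm Q) := by
          have h1 : Subgroup.zpowers (a : Equiv.Perm Q) ≤ Subgroup.zpowers σ := by
            rw [Subgroup.zpowers_le]; exact a.2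
          have h2 : Subgroup.zpowers (a : Equiv.Perm Q) = Subgroup.zpowers σ := by
            apply Subgroup.eq_of_le_of_card_ge h1
            rw [Nat.card_zpowers, Nat.card_zpowers, hao, hord]
          rw [h2]; exact Subgroup.mem_zpowers σ
        obtain ⟨m, hm⟩ := hmem
        have hm' : ((a : Equiv.Perm Q) ^ m) = σ := hm
        rw [← hm']
        exact Equiv.Perm.zpow_apply_eq_self_of_apply_eq_self hq' m
      · intro hq
        show (a : Equiv.Perm Q) q = q
        rw [← hn']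
        exact Equiv.Perm.zpow_apply_eq_self_of_apply_eq_self hq n
  rw [Finset.sum_congr rfl (fun a _ => hfix a), Finset.sum_ite] at hB
  rw [Finset.filter_eq' , if_pos (Finset.mem_univ _)] at hB
  rw [Finset.sum_singleton, Finset.sum_const, smul_eq_mul] at hB
  have h3 : (Finset.univ.filter (fun a : Subgroup.zpowers σ => ¬ a = 1)).card = r - 1 := by
    rw [Finset.filter_not, Finset.card_sdiff_of_subset (Finset.filter_subset _ _)]
    rw [Finset.filter_eq', if_pos (Finset.mem_univ _), Finset.card_univ, hcard, Finset.card_singleton]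
  rw [h3, hcard] at hB
  rw [Nat.card_eq_fintype_card, Nat.card_eq_fintype_card, Nat.card_eq_fintype_card, mul_comm, hB]

section AlgClosed

variable {F : Type*} [Field F] {G : Type*} [Group G] {V : Type*} [AddCommGroup V] [Module F V]
variable [IsAlgClosed F] [FiniteDimensional F V]

theorem hh_main [Finite G] (ρ : Representation F G V) [hρ : ρ.IsIrreducible]
    (K Z C : Subgroup G) (x : G)
    (hZ : ∀ k, k ∈ Z ↔ k ∈ K ∧ ∀ k' ∈ K, ρ (k * k' * k⁻¹ * k'⁻¹) = 1)
    (hKKs : ∀ k ∈ K, ∀ k' ∈ K, ∃ a : F, ρ (k * k' * k⁻¹ * k'⁻¹) = a • 1)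
    (hxK : ∀ k ∈ K, x * k * x⁻¹ ∈ K)
    (hxK' : ∀ k ∈ K, x⁻¹ * k * x ∈ K)
    (hC : ∀ k, k ∈ C ↔ k ∈ K ∧ k⁻¹ * (x * k * x⁻¹) ∈ Z)
    (hG : K ⊔ Subgroup.zpowers x = ⊤) {r : ℕ} (hr : r.Prime) (hrF : (r : F) ≠ 0)
    (hKF : (Nat.card K : F) ≠ 0) (hxr : x ^ r = 1) (hfix : ∀ v, ρ x v = v → v = 0) :
    (finrank F V) ^ 2 = Z.relIndex K ∧ (finrank F V) ^ 2 ≤ (r - 1) ^ 2 * Z.relIndex C := by
  classical
  have hVn := nontrivial_of_irr ρ
  have := Fintype.ofFinite G
  have hinv : ∀ g : G, ρ g * ρ g⁻¹ = 1 := by intro g; rw [← map_mul, mul_inv_cancel, map_one]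
  have hinv' : ∀ g : G, ρ g⁻¹ * ρ g = 1 := by intro g; rw [← map_mul, inv_mul_cancel, map_one]
  have hinv1 : ∀ g : G, ρ g = 1 → ρ g⁻¹ = 1 := by
    intro g hg
    have := hinv g
    rw [hg, one_mul] at this
    exact this
  have hZK : Z ≤ K := fun k hk => ((hZ k).mp hk).1
  have hcomm : ∀ z ∈ Z, ∀ k ∈ K, ρ z * ρ k = ρ k * ρ z := by
    intro z hz k hk
    have h1 := ((hZ z).mp hz).2 k hk
    have h2 : z * k = (z * k * z⁻¹ * k⁻¹) * (k * z) := by group
    rw [← map_mul, h2, map_mul, h1, one_mul, map_mul]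
  have hZs0 : ∀ z ∈ Z, ∃ a : F, ρ z = a • 1 := fun z hz =>
    scalar_of_comm ρ K x hG hxK' hr hrF hxr hfix (ρ z) (hcomm z hz)
  have hZcr : ∀ z ∈ Z, ∀ T : End F V, ρ z * T = T * ρ z := by
    intro z hz T
    obtain ⟨a, ha⟩ := hZs0 z hz
    rw [ha, smul_mul_assoc, mul_smul_comm, one_mul, mul_one]
  have hmemZ : ∀ g ∈ K, (∃ a : F, ρ g = a • 1) → g ∈ Z := by
    rintro g hg ⟨a, ha⟩
    rw [hZ]
    refine ⟨hg, fun k' hk' => ?_⟩
    have h1 : ρ g * ρ k' = ρ k' * ρ g := by
      rw [ha, smul_mul_assoc, mul_smul_comm, one_mul, mul_one]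
    rw [map_mul, map_mul, map_mul, h1, mul_assoc (ρ k'), hinv, mul_one, hinv]
  have hKK : ∀ k ∈ K, ∀ k' ∈ K, k * k' * k⁻¹ * k'⁻¹ ∈ Z := by
    intro k hk k' hk'
    exact hmemZ _ (K.mul_mem (K.mul_mem (K.mul_mem hk hk') (K.inv_mem hk)) (K.inv_mem hk'))
      (hKKs k hk k' hk')
  have hZconj : ∀ z ∈ Z, ∀ g : G, g * z * g⁻¹ ∈ K → g * z * g⁻¹ ∈ Z := by
    intro z hz g hg
    apply hmemZ _ hg
    obtain ⟨a, ha⟩ := hZs0 z hz
    refine ⟨a, ?_⟩
    rw [map_mul, map_mul, ha, mul_smul_comm, smul_mul_assoc, mul_one, hinv]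
  obtain ⟨v₀, hv₀⟩ := exists_ne (0 : V)
  obtain ⟨f₀, hf₀⟩ : ∃ f₀ : V →ₗ[F] F, f₀ v₀ = 1 := Module.Projective.exists_dual_eq_one F hv₀
  let avg : End F V →ₗ[F] End F V :=
    (Nat.card K : F)⁻¹ • ∑ k : K, (LinearMap.mulLeft F (ρ k) ∘ₗ LinearMap.mulRight F (ρ (k : G)⁻¹))
  have havg : ∀ T, avg T = (Nat.card K : F)⁻¹ • ∑ k : K, ρ k * T * ρ (k : G)⁻¹ := by
    intro T
    show ((Nat.card K : F)⁻¹ • ∑ k : K, (LinearMap.mulLeft F (ρ k) ∘ₗ LinearMap.mulRight F (ρ (k : G)⁻¹))) T = _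
    rw [LinearMap.smul_apply, LinearMap.sum_apply]
    simp only [LinearMap.comp_apply, LinearMap.mulLeft_apply, LinearMap.mulRight_apply, mul_assoc]
  have havgK : ∀ T, ∀ k ∈ K, avg T * ρ k = ρ k * avg T := by
    intro T k hk
    rw [havg, smul_mul_assoc, mul_smul_comm, Finset.sum_mul, Finset.mul_sum]
    congr 1
    apply Fintype.sum_equiv (Equiv.mulLeft (⟨k, hk⟩⁻¹ : K))
    intro k'
    simp only [Equiv.coe_mulLeft, Subgroup.coe_mul, Subgroup.coe_inv, mul_inv_rev, inv_inv, map_mul]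
    simp only [← mul_assoc, hinv, one_mul]
  have hscal : ∀ T, ∃ a : F, avg T = a • 1 := fun T =>
    scalar_of_comm ρ K x hG hxK' hr hrF hxr hfix (avg T) (havgK T)
  let c : End F V →ₗ[F] F := f₀ ∘ₗ (LinearMap.applyₗ v₀) ∘ₗ avg
  have hc : ∀ T, avg T = c T • 1 := by
    intro T
    obtain ⟨a, ha⟩ := hscal T
    have : c T = a := by
      show f₀ ((avg T) v₀) = a
      rw [ha, LinearMap.smul_apply, End.one_apply, map_smul, hf₀, smul_eq_mul, mul_one]
    rw [this, ha]
  have hc' : ∀ T (a : F), avg T = a • 1 → c T = a := by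
    intro T a ha
    show f₀ ((avg T) v₀) = a
    rw [ha, LinearMap.smul_apply, End.one_apply, map_smul, hf₀, smul_eq_mul, mul_one]
  have hcard : ∀ T : End F V, (Nat.card K : F)⁻¹ • ∑ _k : K, T = T := by
    intro T
    rw [Finset.sum_const, Finset.card_univ, ← Nat.card_eq_fintype_card, ← Nat.cast_smul_eq_nsmul F,
      smul_smul, inv_mul_cancel₀ hKF, one_smul]
  have hc1 : c 1 = 1 := by
    apply hc'
    rw [havg, one_smul]
    simp only [mul_one, hinv]
    exact hcard 1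
  -- scalars from Z
  have hZscal : ∀ z ∈ Z, ρ z = c (ρ z) • 1 := by
    intro z hz
    rw [← hc, havg]
    have : ∀ k : K, ρ k * ρ z * ρ (k : G)⁻¹ = ρ z := by
      intro k
      rw [← hZcr z hz, mul_assoc, hinv, mul_one]
    simp only [this]
    exact (hcard _).symm
  have hc0 : ∀ T T' : End F V, ∀ z ∈ Z, c (ρ z * T) = c (ρ z) * c T := by
    intro T T' z hz
    rw [hZscal z hz, smul_mul_assoc, one_mul, map_smul, smul_eq_mul]
    rw [map_smul, hc1, smul_eq_mul, mul_one]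
  -- conj by K
  have hc2 : ∀ k ∈ K, ∀ T, c (ρ k * T * ρ k⁻¹) = c T := by
    intro k hk T
    apply hc'
    rw [← hc, havg, havg]
    congr 1
    apply Fintype.sum_equiv (Equiv.mulRight (⟨k, hk⟩ : K))
    intro k'
    simp only [Equiv.coe_mulRight, Subgroup.coe_mul, mul_inv_rev, map_mul, mul_assoc]
  have hc3 : ∀ T, c (ρ x * T * ρ x⁻¹) = c T := by
    intro T
    apply hc'
    have : c T • (1 : End F V) = ρ x * (c T • 1) * ρ x⁻¹ := by
      rw [mul_smul_comm, mul_one, smul_mul_assoc, hinv]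
    rw [this, ← hc, havg, havg, mul_smul_comm, smul_mul_assoc, Finset.mul_sum, Finset.sum_mul]
    congr 1
    apply Fintype.sum_equiv ⟨fun k : K => ⟨x⁻¹ * k * x, hxK' k k.2⟩, fun k : K => ⟨x * k * x⁻¹, hxK k k.2⟩,
      fun k => Subtype.ext (by simp only; group), fun k => Subtype.ext (by simp only; group)⟩
    intro k
    simp only [Equiv.coe_fn_mk, mul_inv_rev, inv_inv, map_mul]
    simp only [← mul_assoc, hinv, one_mul]
    simp only [mul_assoc, hinv, mul_one]
  have hc4 : ∀ s ∈ K, s ∉ Z → c (ρ s) = 0 := by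
    intro s hs hsZ
    have : ∃ k ∈ K, ρ (s * k * s⁻¹ * k⁻¹) ≠ 1 := by
      by_contra hcon
      push Not at hcon
      exact hsZ ((hZ s).mpr ⟨hs, hcon⟩)
    obtain ⟨k, hk, hks⟩ := this
    have hz := hKK k hk s hs
    set z := k * s * k⁻¹ * s⁻¹ with hzdef
    have hz1 : c (ρ z) ≠ 1 := by
      intro h1
      apply hks
      have h2 : ρ z = 1 := by rw [hZscal z hz, h1, one_smul]
      have h3 : s * k * s⁻¹ * k⁻¹ = z⁻¹ := by rw [hzdef]; group
      rw [h3]
      exact hinv1 z h2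
    have h3 := hc2 k hk (ρ s)
    have h4 : ρ k * ρ s * ρ k⁻¹ = ρ z * ρ s := by
      rw [← map_mul, ← map_mul, ← map_mul]; congr 1; rw [hzdef]; group
    rw [h4, hc0 _ 0 z hz] at h3
    have h5 : (c (ρ z) - 1) * c (ρ s) = 0 := by rw [sub_mul, h3, one_mul, sub_self]
    rcases mul_eq_zero.1 h5 with h6 | h6
    · exact absurd (sub_eq_zero.1 h6) hz1
    · exact h6
  have hc0' : ∀ z ∈ Z, ∀ T : End F V, c (ρ z * T) = c (ρ z) * c T := fun z hz T => hc0 T T z hz
  -- the spanning formula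
  have hchar : ∀ k ∈ K, ∑ t : K, c (ρ (t * k * (t : G)⁻¹ * k⁻¹)) = if k ∈ Z then (Nat.card K : F) else 0 := by
    intro k hk
    let χ : K →* F :=
      { toFun := fun t => c (ρ (t * k * (t : G)⁻¹ * k⁻¹))
        map_one' := by
          simp only [Subgroup.coe_one, one_mul, inv_one, mul_one, mul_inv_cancel, map_one, hc1]
        map_mul' := by
          intro s t
          have h1 := hKK t t.2 k hk
          have h2 := hKK s s.2 k hk
          have h3 : ((s * t : K) : G) * k * ((s * t : K) : G)⁻¹ * k⁻¹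
              = (s : G) * (t * k * (t : G)⁻¹ * k⁻¹) * (k * (s : G)⁻¹ * k⁻¹) := by
            rw [Subgroup.coe_mul]; group
          have h4 : ρ (((s * t : K) : G) * k * ((s * t : K) : G)⁻¹ * k⁻¹) =
              ρ (s * k * (s : G)⁻¹ * k⁻¹) * ρ (t * k * (t : G)⁻¹ * k⁻¹) := by
            rw [h3, map_mul, map_mul, ← hZcr _ h1 (ρ s), mul_assoc, ← map_mul,
              hZcr _ h1]
            congr 2
            group
          show c (ρ _) = c (ρ _) * c (ρ _)
          rw [h4, hc0' _ h2] }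
    split_ifs with hkZ
    · have : ∀ t : K, c (ρ (t * k * (t : G)⁻¹ * k⁻¹)) = 1 := by
        intro t
        have h1 := hinv1 _ (((hZ k).mp hkZ).2 t t.2)
        have h2 : (k * (t : G) * k⁻¹ * (t : G)⁻¹)⁻¹ = t * k * (t : G)⁻¹ * k⁻¹ := by group
        rw [h2] at h1
        rw [h1, hc1]
      simp only [this, Finset.sum_const, Finset.card_univ, ← Nat.card_eq_fintype_card, nsmul_eq_mul,
        mul_one]
    · have hχ : χ ≠ 1 := by
        intro h
        apply hkZ
        rw [hZ]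
        refine ⟨hk, fun t ht => ?_⟩
        have h1 : c (ρ (t * k * t⁻¹ * k⁻¹)) = 1 := DFunLike.congr_fun h (⟨t, ht⟩ : K)
        have h2 : ρ (t * k * t⁻¹ * k⁻¹) = 1 := by
          rw [hZscal _ (hKK t ht k hk), h1, one_smul]
        have h3 : k * t * k⁻¹ * t⁻¹ = (t * k * t⁻¹ * k⁻¹)⁻¹ := by group
        rw [h3]
        exact hinv1 _ h2
      exact sum_hom_units_eq_zero χ hχ
  have hZF : (Nat.card Z : F) ≠ 0 := by
    intro h
    apply hKF
    obtain ⟨m, hm⟩ := Subgroup.card_dvd_of_le hZK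
    rw [hm, Nat.cast_mul, h, zero_mul]
  have hc5 : ∀ T : End F V, ∑ t : K, c (ρ (t : G)⁻¹ * T) • ρ t = (Nat.card Z : F) • T := by
    intro T
    have h1 : ∀ t : K, c (ρ (t : G)⁻¹ * T) • ρ (t : G) =
        (Nat.card K : F)⁻¹ • ∑ k : K, c (ρ (t * k * (t : G)⁻¹ * (k : G)⁻¹)) • (ρ k * T * ρ (k : G)⁻¹) := by
      intro t
      have h2 : c (ρ (t : G)⁻¹ * T) • ρ (t : G) = ρ t * (c (ρ (t : G)⁻¹ * T) • 1) := by
        rw [mul_smul_comm, mul_one]
      rw [h2, ← hc, havg, mul_smul_comm, Finset.mul_sum]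
      congr 1
      apply Finset.sum_congr rfl
      intro k _
      have h3 : c (ρ (t * k * (t : G)⁻¹ * (k : G)⁻¹)) • (ρ k * T * ρ (k : G)⁻¹) =
          ρ (t * k * (t : G)⁻¹ * (k : G)⁻¹) * (ρ k * T * ρ (k : G)⁻¹) := by
        conv_rhs => rw [hZscal _ (hKK t t.2 k k.2)]
        rw [smul_mul_assoc, one_mul]
      rw [h3]
      simp only [map_mul, mul_assoc]
      congr 3
      rw [← mul_assoc (ρ (k : G)⁻¹), hinv', one_mul]
    simp only [h1]
    rw [← Finset.smul_sum, Finset.sum_comm]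
    simp only [← Finset.sum_smul]
    have h4 : ∀ k : K, (∑ t : K, c (ρ (t * k * (t : G)⁻¹ * (k : G)⁻¹))) • (ρ k * T * ρ (k : G)⁻¹) =
        if (k : G) ∈ Z then (Nat.card K : F) • T else 0 := by
      intro k
      rw [hchar k k.2]
      split_ifs with hk
      · rw [hZscal k hk]
        have h5 : ρ (k : G) * ρ (k : G)⁻¹ = 1 := hinv k
        rw [hZscal k hk] at h5
        rw [smul_mul_assoc, one_mul] at h5
        rw [smul_mul_assoc, smul_mul_assoc, one_mul, ← mul_smul_comm, h5, mul_one]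
      · rw [zero_smul]
    simp only [h4]
    rw [← Finset.sum_filter, Finset.sum_const, ← Nat.cast_smul_eq_nsmul F, smul_smul, smul_smul]
    congr 1
    have h6 : (Finset.univ.filter (fun k : K => (k : G) ∈ Z)).card = Nat.card Z := by
      rw [← Fintype.card_subtype, ← Nat.card_eq_fintype_card]
      apply Nat.card_congr
      exact ⟨fun k => ⟨k.1.1, k.2⟩, fun z => ⟨⟨z.1, hZK z.2⟩, z.2⟩, fun _ => rfl, fun _ => rfl⟩
    rw [h6]
    field_simp
  -- the quotient
  let ZK : Subgroup K := Z.subgroupOf K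
  have hZn : ZK.Normal := by
    constructor
    intro z hz k
    rw [Subgroup.mem_subgroupOf] at hz ⊢
    exact hZconj z hz k (k * z * k⁻¹).2
  let Φ : End F V →ₗ[F] (K ⧸ ZK → F) :=
    LinearMap.pi (fun q => c ∘ₗ LinearMap.mulLeft F (ρ ((q.out : K) : G)⁻¹))
  have hΦ : ∀ T q, Φ T q = c (ρ ((q.out : K) : G)⁻¹ * T) := fun T q => rfl
  -- vanishing is constant on cosets
  have hvan : ∀ T, ∀ t ∈ K, ∀ z ∈ Z, c (ρ t⁻¹ * T) = 0 → c (ρ (t * z)⁻¹ * T) = 0 := by
    intro T t ht z hz h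
    have h1 : ρ (t * z)⁻¹ = ρ z⁻¹ * ρ t⁻¹ := by rw [mul_inv_rev, map_mul]
    rw [h1, mul_assoc, hc0' _ (inv_mem hz), h, mul_zero]
  have hvan2 : ∀ T, (∀ t ∈ K, c (ρ t⁻¹ * T) = 0) → T = 0 := by
    intro T h
    have h1 := hc5 T
    have h2 : ∀ t : K, c (ρ (t : G)⁻¹ * T) • ρ (t : G) = 0 := fun t => by rw [h t t.2, zero_smul]
    simp only [h2, Finset.sum_const_zero] at h1
    rcases smul_eq_zero.1 h1.symm with h3 | h3
    · exact absurd h3 hZF
    · exact h3
  have hΦinj : Function.Injective Φ := by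
    rw [← LinearMap.ker_eq_bot, LinearMap.ker_eq_bot']
    intro T hT
    apply hvan2
    intro t ht
    have h1 : (QuotientGroup.mk (⟨t, ht⟩ : K) : K ⧸ ZK).out⁻¹ * ⟨t, ht⟩ ∈ ZK := by
      rw [← QuotientGroup.eq]
      exact Quotient.out_eq' _
    rw [Subgroup.mem_subgroupOf] at h1
    have h2 := congrFun hT (QuotientGroup.mk (⟨t, ht⟩ : K) : K ⧸ ZK)
    rw [hΦ] at h2
    have h3 := hvan T _ ((QuotientGroup.mk (⟨t, ht⟩ : K) : K ⧸ ZK).out).2 _ h1 h2
    have h4 : (((QuotientGroup.mk (⟨t, ht⟩ : K) : K ⧸ ZK).out : K) : G) *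
        (((QuotientGroup.mk (⟨t, ht⟩ : K) : K ⧸ ZK).out⁻¹ * ⟨t, ht⟩ : K) : G) = t := by
      simp
    rw [h4] at h3
    exact h3
  have hΦsurj : Function.Surjective Φ := by
    intro g
    refine ⟨∑ q : K ⧸ ZK, g q • ρ ((q.out : K) : G), ?_⟩
    funext q
    rw [hΦ, Finset.mul_sum, map_sum, Finset.sum_eq_single q]
    · rw [mul_smul_comm, hinv', map_smul, hc1, smul_eq_mul, mul_one]
    · intro q' _ hq
      rw [mul_smul_comm, map_smul, ← map_mul, hc4, smul_zero]
      · exact K.mul_mem (K.inv_mem q.out.2) q'.out.2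
      · intro h
        apply hq
        have h1 : (q.out)⁻¹ * q'.out ∈ ZK := by
          rw [Subgroup.mem_subgroupOf]; exact h
        rw [← QuotientGroup.eq] at h1
        have h2 : (QuotientGroup.mk q.out : K ⧸ ZK) = q := Quotient.out_eq' q
        have h3 : (QuotientGroup.mk q'.out : K ⧸ ZK) = q' := Quotient.out_eq' q'
        rw [h2, h3] at h1
        exact h1.symm
    · intro h; exact absurd (Finset.mem_univ q) h
  have hM : (finrank F V) ^ 2 = Nat.card (K ⧸ ZK) := by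
    have h1 := (LinearEquiv.ofBijective Φ ⟨hΦinj, hΦsurj⟩).finrank_eq
    rw [Module.finrank_fintype_fun_eq_card, Module.finrank_linearMap] at h1
    rw [sq, h1, Nat.card_eq_fintype_card]
  -- the automorphism of K induced by x and the permutation of K / Z
  let φ : K ≃* K :=
    { toFun := fun k => ⟨x * k * x⁻¹, hxK k k.2⟩
      invFun := fun k => ⟨x⁻¹ * k * x, hxK' k k.2⟩
      left_inv := fun k => Subtype.ext (by simp only; group)
      right_inv := fun k => Subtype.ext (by simp only; group)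
      map_mul' := fun k k' => Subtype.ext (by
        simp only [Subgroup.coe_mul]; group) }
  have hφ : ∀ k : K, ((φ k : K) : G) = x * k * x⁻¹ := fun k => rfl
  have hφZ : ZK.map (φ : K →* K) = ZK := by
    ext k
    rw [Subgroup.mem_map]
    constructor
    · rintro ⟨z, hz, rfl⟩
      rw [Subgroup.mem_subgroupOf] at hz ⊢
      exact hZconj z hz x (φ z).2
    · intro hk
      refine ⟨φ.symm k, ?_, ?_⟩
      · rw [Subgroup.mem_subgroupOf] at hk
        have h1 := hZconj k hk x⁻¹ (by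
          rw [inv_inv]; exact hxK' k k.2)
        rw [inv_inv] at h1
        exact h1
      · exact φ.apply_symm_apply k
  let σ : Equiv.Perm (K ⧸ ZK) := (QuotientGroup.congr ZK ZK φ hφZ).toEquiv
  have hσ : ∀ k : K, σ (QuotientGroup.mk k) = QuotientGroup.mk (φ k) := fun k => rfl
  have hσn : ∀ (n : ℕ) (k : K), (σ ^ n) (QuotientGroup.mk k) =
      QuotientGroup.mk ((φ ^ n : MulAut K) k) := by
    intro n
    induction n with
    | zero => intro k; rfl
    | succ n ih => intro k; rw [pow_succ', Equiv.Perm.mul_apply, ih, hσ, pow_succ']; rfl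
  have hφn : ∀ (n : ℕ) (k : K), (((φ ^ n : MulAut K) k : K) : G) = x ^ n * k * (x ^ n)⁻¹ := by
    intro n
    induction n with
    | zero => intro k; simp
    | succ n ih =>
      intro k
      rw [pow_succ']
      show ((φ ((φ ^ n : MulAut K) k) : K) : G) = _
      rw [hφ, ih, pow_succ']
      group
  have hσr : σ ^ r = 1 := by
    ext q
    obtain ⟨k, rfl⟩ := QuotientGroup.mk_surjective q
    rw [hσn]
    have : ((φ ^ r : MulAut K) k : K) = k := by
      apply Subtype.ext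
      rw [hφn, hxr]; simp
    rw [this]; rfl
  have hfixcard : Nat.card {q : K ⧸ ZK // σ q = q} = Z.relIndex C := by
    have hCK : C ≤ K := fun k hk => ((hC k).mp hk).1
    let ψ : C →* K ⧸ ZK := (QuotientGroup.mk' ZK).comp (Subgroup.inclusion hCK)
    have hker : ψ.ker = Z.subgroupOf C := by
      ext k
      rw [MonoidHom.mem_ker, Subgroup.mem_subgroupOf]
      show (QuotientGroup.mk (Subgroup.inclusion hCK k) : K ⧸ ZK) = 1 ↔ _
      rw [QuotientGroup.eq_one_iff, Subgroup.mem_subgroupOf]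
      rfl
    rw [Subgroup.relIndex, ← hker, Subgroup.index_ker]
    apply Nat.card_congr
    refine Equiv.subtypeEquivRight ?_
    intro q
    show σ q = q ↔ q ∈ ψ.range
    constructor
    · intro hq
      obtain ⟨k, rfl⟩ := QuotientGroup.mk_surjective q
      rw [hσ, eq_comm, QuotientGroup.eq, Subgroup.mem_subgroupOf] at hq
      refine ⟨⟨k, (hC k).mpr ⟨k.2, ?_⟩⟩, rfl⟩
      exact hq
    · rintro ⟨k, rfl⟩
      have h1 := ((hC k).mp k.2).2
      show σ (QuotientGroup.mk (Subgroup.inclusion hCK k)) = QuotientGroup.mk (Subgroup.inclusion hCK k)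
      rw [hσ, eq_comm, QuotientGroup.eq, Subgroup.mem_subgroupOf]
      exact h1
  -- bound for the centralizer of x
  set Ex := LinearMap.ker (LinearMap.mulLeft F (ρ x) - LinearMap.mulRight F (ρ x)) with hEx
  have hmemEx : ∀ T, T ∈ Ex → ρ x * T = T * ρ x := by
    intro T hT
    rw [hEx, LinearMap.mem_ker, LinearMap.sub_apply, sub_eq_zero] at hT
    exact hT
  let Ω := MulAction.orbitRel.Quotient (Subgroup.zpowers σ) (K ⧸ ZK)
  have hvanx : ∀ T ∈ Ex, ∀ t : G, c (ρ t⁻¹ * T) = 0 → c (ρ (x * t * x⁻¹)⁻¹ * T) = 0 := by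
    intro T hT t h
    have h1 : ρ (x * t * x⁻¹)⁻¹ * T = ρ x * (ρ t⁻¹ * T) * ρ x⁻¹ := by
      have h2 : ρ x⁻¹ * T = T * ρ x⁻¹ := by
        calc ρ x⁻¹ * T = ρ x⁻¹ * T * (ρ x * ρ x⁻¹) := by rw [hinv, mul_one]
          _ = ρ x⁻¹ * (T * ρ x) * ρ x⁻¹ := by simp only [mul_assoc]
          _ = ρ x⁻¹ * (ρ x * T) * ρ x⁻¹ := by rw [hmemEx T hT]
          _ = T * ρ x⁻¹ := by rw [← mul_assoc (ρ x⁻¹), hinv', one_mul]
      have h3 : (x * t * x⁻¹)⁻¹ = x * t⁻¹ * x⁻¹ := by group
      rw [h3, map_mul, map_mul, mul_assoc, h2]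
      simp only [mul_assoc]
    rw [h1, hc3]
    exact h
  let Ψ : Ex →ₗ[F] (Ω → F) :=
    LinearMap.pi (fun ω => c ∘ₗ LinearMap.mulLeft F (ρ (((ω.out).out : K) : G)⁻¹) ∘ₗ Ex.subtype)
  have hΨinj : Function.Injective Ψ := by
    rw [← LinearMap.ker_eq_bot, LinearMap.ker_eq_bot']
    rintro ⟨T, hT⟩ hT0
    apply Subtype.ext
    apply hvan2 T
    -- the set of classes on which everything vanishes
    have key : ∀ q : K ⧸ ZK, c (ρ ((q.out : K) : G)⁻¹ * T) = 0 →
        ∀ t : K, (QuotientGroup.mk t : K ⧸ ZK) = q → c (ρ (t : G)⁻¹ * T) = 0 := by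
      intro q hq t ht
      have h1 : (q.out)⁻¹ * t ∈ ZK := by
        rw [← QuotientGroup.eq, ht]; exact Quotient.out_eq' _
      rw [Subgroup.mem_subgroupOf] at h1
      have h3 := hvan T _ (q.out).2 _ h1 hq
      have h4 : ((q.out : K) : G) * (((q.out)⁻¹ * t : K) : G) = t := by simp
      rw [h4] at h3
      exact h3
    have key2 : ∀ q : K ⧸ ZK, (∀ t : K, (QuotientGroup.mk t : K ⧸ ZK) = q → c (ρ (t : G)⁻¹ * T) = 0) →
        ∀ n : ℕ, ∀ t : K, (QuotientGroup.mk t : K ⧸ ZK) = (σ ^ n) q → c (ρ (t : G)⁻¹ * T) = 0 := by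
      intro q hq n
      induction n with
      | zero => intro t ht; exact hq t (by simpa using ht)
      | succ n ih =>
        intro t ht
        have h1 : t = φ (φ.symm t) := by simp
        have h2 : (QuotientGroup.mk (φ.symm t) : K ⧸ ZK) = (σ ^ n) q := by
          apply σ.injective
          rw [hσ, ← h1, ht, pow_succ', Equiv.Perm.mul_apply]
        have h3 := hvanx T hT _ (ih _ h2)
        have h4 : (t : G) = x * ((φ.symm t : K) : G) * x⁻¹ := by rw [← hφ, ← h1]
        rw [h4]; exact h3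
    intro t ht
    set q : K ⧸ ZK := QuotientGroup.mk (⟨t, ht⟩ : K) with hq
    set ω : Ω := Quotient.mk'' q with hω
    have h1 : c (ρ (((ω.out).out : K) : G)⁻¹ * T) = 0 := congrFun hT0 ω
    have h2 := key (ω.out) h1
    have h3 : (MulAction.orbitRel (Subgroup.zpowers σ) (K ⧸ ZK)) q (ω.out) := by
      apply Quotient.exact
      rw [Quotient.out_eq]
    rw [MulAction.orbitRel_apply, MulAction.mem_orbit_iff] at h3
    obtain ⟨⟨a, ha⟩, haq⟩ := h3
    obtain ⟨n, rfl⟩ := (mem_powers_iff_mem_zpowers.2 ha)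
    have h4 : (σ ^ n) (ω.out) = q := haq
    exact key2 (ω.out) h2 n ⟨t, ht⟩ (by rw [h4])
  have hExle : finrank F Ex ≤ Nat.card Ω := by
    have h1 := LinearMap.finrank_le_finrank_of_injective hΨinj
    rw [Module.finrank_fintype_fun_eq_card] at h1
    rw [Nat.card_eq_fintype_card]
    exact h1
  have hXr : (ρ x) ^ r = 1 := by rw [← map_pow, hxr, map_one]
  have h4 := sq_finrank_le (ρ x) r hr.pos hrF hXr hfix
  have hMrel : Nat.card (K ⧸ ZK) = Z.relIndex K := rfl
  refine ⟨hM.trans hMrel, ?_⟩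
  have hr2 := hr.two_le
  obtain ⟨s, rfl⟩ : ∃ s, r = s + 1 := ⟨r - 1, by omega⟩
  simp only [Nat.add_sub_cancel] at *
  have hs : 1 ≤ s := by omega
  by_cases hσ1 : σ = 1
  · have h5 : Nat.card {q : K ⧸ ZK // σ q = q} = Nat.card (K ⧸ ZK) := by
      apply Nat.card_congr
      exact Equiv.subtypeUnivEquiv (fun q => by rw [hσ1]; rfl)
    rw [← hfixcard, h5, hM]
    have : 1 ≤ s ^ 2 := Nat.one_le_pow _ _ hs
    nlinarith [Nat.zero_le (Nat.card (K ⧸ ZK))]
  · have hcount := orbit_count_fix σ hr hσr hσ1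
    rw [Nat.add_sub_cancel, hfixcard] at hcount
    have h6 : (s + 1) * (finrank F V) ^ 2 ≤ s * ((finrank F V) ^ 2 + s * Z.relIndex C) := by
      calc (s + 1) * (finrank F V) ^ 2 ≤ (s + 1) * (s * finrank F Ex) := Nat.mul_le_mul_left _ h4
        _ = s * ((s + 1) * finrank F Ex) := by ring
        _ ≤ s * ((s + 1) * Nat.card Ω) := Nat.mul_le_mul_left _ (Nat.mul_le_mul_left _ hExle)
        _ = s * ((finrank F V) ^ 2 + s * Z.relIndex C) := by rw [hcount, hM]
    nlinarith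

end AlgClosed

/-- P1 (Hall-Higman inequality for an element of prime order on a group acting with scalar commutators). -/
theorem P1 {k Γ V : Type*} [Field k] [IsAlgClosed k] [Group Γ] [Finite Γ] [AddCommGroup V] [Module k V]
    [FiniteDimensional k V] (ρ : Representation k Γ V) (Q R C : Subgroup Γ) (x : Γ) {e : ℕ}
    (he : e.Prime) (hxe : x ^ e = 1) (hxQ : ∀ y ∈ Q, x * y * x⁻¹ ∈ Q) (hek : (e : k) ≠ 0)
    (hQk : (Nat.card Q : k) ≠ 0) (heQ : ¬ e ∣ Nat.card Q)
    (W : Submodule k V) (hW : W ≠ ⊥) (hQW : ∀ y ∈ Q, ∀ w ∈ W, ρ y w ∈ W) (hxW : ∀ w ∈ W, ρ x w ∈ W)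
    (hscal : ∀ y ∈ Q, ∀ z ∈ Q, ∃ c : k, ∀ w ∈ W, ρ (y * z * y⁻¹ * z⁻¹) w = c • w)
    (hR : ∀ y, y ∈ R ↔ y ∈ Q ∧ ∀ z ∈ Q, ∀ w ∈ W, ρ (y * z * y⁻¹ * z⁻¹) w = w)
    (hC : ∀ y, y ∈ C ↔ y ∈ Q ∧ y⁻¹ * (x * y * x⁻¹) ∈ R)
    (hfix : ∀ w ∈ W, ρ x w = w → w = 0) :
    ∃ d : ℕ, d ^ 2 = R.relIndex Q ∧ d ^ 2 ≤ (e - 1) ^ 2 * R.relIndex C := by
  classical
  have hxN : x ∈ Subgroup.normalizer (Q : Set Γ) := mem_normalizer_of_le hxQ
  have hxQ' : ∀ y ∈ Q, x⁻¹ * y * x ∈ Q := by
    intro y hy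
    rw [Subgroup.mem_normalizer_iff.mp hxN]
    have : x * (x⁻¹ * y * x) * x⁻¹ = y := by group
    rw [this]; exact hy
  -- the group generated by `Q` and `x`
  let G : Subgroup Γ := Q ⊔ Subgroup.zpowers x
  have hQG : Q ≤ G := le_sup_left
  have hxG : x ∈ G := (le_sup_right : Subgroup.zpowers x ≤ G) (Subgroup.mem_zpowers x)
  let K : Subgroup G := Q.subgroupOf G
  let x' : G := ⟨x, hxG⟩
  have hKx : K ⊔ Subgroup.zpowers x' = ⊤ := by
    apply Subgroup.map_injective G.subtype_injective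
    rw [Subgroup.map_sup, MonoidHom.map_zpowers, ← MonoidHom.range_eq_map, Subgroup.range_subtype,
      Subgroup.map_subgroupOf_eq_of_le hQG]
    rfl
  let τ : Representation k G V := ρ.comp G.subtype
  have hτ : ∀ g : G, τ g = ρ (g : Γ) := fun g => rfl
  -- the subspace `W` is invariant
  have hWinv : ∀ g : G, ∀ w ∈ W, τ g w ∈ W := by
    apply inv_of_gen τ K x' hKx W
    · intro g hg w hw
      exact hQW g hg w hw
    · exact hxW
  -- a minimal invariant subspace
  obtain ⟨S, ⟨hSW, hS0⟩, hSmin⟩ : ∃ S : Subrepresentation τ,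
      (S.toSubmodule ≤ W ∧ S.toSubmodule ≠ ⊥) ∧ ∀ S' : Subrepresentation τ,
        (S'.toSubmodule ≤ W ∧ S'.toSubmodule ≠ ⊥) → ¬ finrank k S'.toSubmodule < finrank k S.toSubmodule := by
    have hwf : WellFounded (fun S S' : Subrepresentation τ =>
        finrank k S.toSubmodule < finrank k S'.toSubmodule) :=
      InvImage.wf (fun S : Subrepresentation τ => finrank k S.toSubmodule) wellFounded_lt
    obtain ⟨S, hS, hmin⟩ := hwf.has_min {S : Subrepresentation τ | S.toSubmodule ≤ W ∧ S.toSubmodule ≠ ⊥}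
      ⟨⟨W, fun g w hw => hWinv g w hw⟩, le_rfl, hW⟩
    exact ⟨S, hS, fun S' hS' => hmin S' hS'⟩
  let Y := S.toSubmodule
  let σ : Representation k G Y := S.toRepresentation
  have hσ : ∀ (g : G) (v : Y), ((σ g v : Y) : V) = ρ (g : Γ) v := fun g v => rfl
  have hYn : Nontrivial Y := Submodule.nontrivial_iff_ne_bot.mpr hS0
  have hirr : σ.IsIrreducible := by
    have hnt : Nontrivial (Subrepresentation σ) := by
      refine ⟨⊥, ⊤, ?_⟩
      intro h
      have h1 : (⊥ : Submodule k Y) = ⊤ := congrArg Subrepresentation.toSubmodule h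
      exact bot_ne_top h1
    refine { eq_bot_or_eq_top := fun T => ?_ }
    by_cases hT : T.toSubmodule = ⊥
    · left; exact Subrepresentation.toSubmodule_injective hT
    right
    apply Subrepresentation.toSubmodule_injective
    have hT' : ∀ g : G, ∀ v ∈ T.toSubmodule.map Y.subtype, τ g v ∈ T.toSubmodule.map Y.subtype := by
      rintro g _ ⟨v, hv, rfl⟩
      exact ⟨σ g v, T.apply_mem_toSubmodule g hv, rfl⟩
    let T₁ : Subrepresentation τ := ⟨T.toSubmodule.map Y.subtype, fun g w hw => hT' g w hw⟩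
    have h1 := hSmin T₁ ⟨by
      rintro _ ⟨v, _, rfl⟩
      exact hSW v.2, by
      intro h
      apply hT
      rw [Submodule.eq_bot_iff] at h ⊢
      intro v hv
      apply Subtype.ext
      exact h _ ⟨v, hv, rfl⟩⟩
    have h2 : finrank k T₁.toSubmodule = finrank k T.toSubmodule :=
      LinearEquiv.finrank_eq (Submodule.equivMapOfInjective Y.subtype Y.injective_subtype _).symm
    rw [h2] at h1
    show T.toSubmodule = ⊤
    apply Submodule.eq_top_of_finrank_eq
    apply le_antisymm (Submodule.finrank_le _)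
    exact not_lt.mp h1
  -- translate the hypotheses
  have hcoe : ∀ g g' : G, ((g * g' * g⁻¹ * g'⁻¹ : G) : Γ) = g * g' * (g : Γ)⁻¹ * (g' : Γ)⁻¹ := by
    intro g g'; rfl
  have hone : ∀ y ∈ Q, ∀ z ∈ Q, (∀ w ∈ W, ρ (y * z * y⁻¹ * z⁻¹) w = w) ↔
      (∀ w ∈ Y, ρ (y * z * y⁻¹ * z⁻¹) w = w) := by
    intro y hy z hz
    constructor
    · intro h w hw; exact h w (hSW hw)
    · intro h w hw
      obtain ⟨c, hc⟩ := hscal y hy z hz
      obtain ⟨v, hv, hv0⟩ := Submodule.exists_mem_ne_zero_of_ne_bot hS0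
      have h1 := h v hv
      rw [hc v (hSW hv)] at h1
      have h2 : (c - 1) • v = 0 := by rw [sub_smul, one_smul, h1, sub_self]
      rcases smul_eq_zero.mp h2 with h3 | h3
      · rw [hc w hw, sub_eq_zero.mp h3, one_smul]
      · exact absurd h3 hv0
  have hRQ : R ≤ Q := fun y hy => ((hR y).mp hy).1
  have hCQ : C ≤ Q := fun y hy => ((hC y).mp hy).1
  have hmain := hh_main σ K (R.subgroupOf G) (C.subgroupOf G) x' (r := e)
    (by
      intro g
      rw [Subgroup.mem_subgroupOf, hR]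
      constructor
      · rintro ⟨h1, h2⟩
        refine ⟨h1, ?_⟩
        intro g' hg'
        ext v
        rw [hσ, hcoe]
        exact (hone _ h1 _ hg').mp (h2 _ hg') v v.2
      · rintro ⟨h1, h2⟩
        refine ⟨h1, ?_⟩
        intro z hz
        apply (hone _ h1 _ hz).mpr
        intro w hw
        have h3 := LinearMap.congr_fun (h2 ⟨z, hQG hz⟩ hz) ⟨w, hw⟩
        exact congrArg Subtype.val h3)
    (by
      intro g hg g' hg'
      obtain ⟨c, hc⟩ := hscal g hg g' hg'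
      refine ⟨c, ?_⟩
      ext v
      rw [hσ, hcoe, hc v (hSW v.2)]
      rfl)
    (fun g hg => hxQ g hg) (fun g hg => hxQ' g hg)
    (by
      intro g
      rw [Subgroup.mem_subgroupOf, hC]
      rfl)
    hKx he hek (by
      rw [Nat.card_congr (Subgroup.subgroupOfEquivOfLe hQG).toEquiv]
      exact hQk) (Subtype.ext hxe) (by
      intro v hv
      apply Subtype.ext
      exact hfix v (hSW v.2) (congrArg Subtype.val hv))
  rw [Subgroup.relIndex_subgroupOf hQG, Subgroup.relIndex_subgroupOf (hCQ.trans hQG)] at hmain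
  exact ⟨_, hmain⟩

end Cfsg.Agent.H851.PQ
end
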