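import Cfsg.Agent.H383.Dg.RedA
import Mathlib.FieldTheory.ChevalleyWarning
import Mathlib.LinearAlgebra.Dimension.Free
import Mathlib.LinearAlgebra.FiniteDimensional.Lemmas
import Mathlib.Algebra.CharP.Algebra
import Mathlib.LinearAlgebra.BilinearMap
import Mathlib
import Cfsg.Agent.H708.RFOmega3
import Cfsg.Agent.H708.RFOmega_m3
import Mathlib.RingTheory.SimpleModule.Isotypic
import Mathlib.LinearAlgebra.Dimension.Constructions
import Mathlib.LinearAlgebra.Projection
import Cfsg.Agent.Transfer.PGroupNormal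
import Cfsg.Agent.H851.SimsRgd
import Cfsg.Agent.Lib.LocalCore
import Cfsg.Agent.H954.CWarn
import Cfsg.Agent.LieClassical.SympCenter
import Cfsg.Prelude.Def_Classical
import Cfsg.Prelude.Def_Classification2
import Cfsg.Prelude.Def_LieTypeChar
import Cfsg.Agent.H70.SzOut
import Cfsg.Agent.H71.ReeOut
import Cfsg.Agent.ChevalleyStructure.Ree.Data
import Cfsg.Agent.Transfer.FusionBasic
import Cfsg.Agent.ClosedTwo.Elem
import Cfsg.Agent.H36.Sims.Spor
import Cfsg.Agent.Lib.NormalAbelian
import Cfsg.Agent.OddOrderLocal.Thm34Weights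
import Cfsg.Agent.FastGrp
import Cfsg.Agent.Prune
set_option linter.all false

section
prune_inst 0x7f00000000000000000000000000000000000000000000000000000000000000000000000000000000000000000000000000000000000000000000000000000000000000000000000000000000000000003fffffffffffffffffffffffffffbeffbdffffffff

-- part: H851/SimsForms
section
set_option linter.all false
open scoped Cfsg.Agent.FastGrp

/-!
# S3386: interface for the classical groups of large rank in cross characteristic

`FormData F V` : a non-degenerate reflexive sesquilinear form `f` with a "quadratic form" `Q`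
(`Q (u + v) = Q u + Q v + θ (f u v)`; `Q = 0`, `θ = 0` for symplectic and unitary spaces, `θ = id` for orthogonal ones).
`D.isom` : its isometry group. `FormsCore` : the statement that a small `r'`-subgroup `X` of `D.isom` centralises a big
`r`-subgroup of the commutator subgroup of `D.isom`.
-/

set_option autoImplicit false

namespace Cfsg.Agent.H851.Sims

/-- A non-degenerate reflexive sesquilinear form with a (possibly zero) quadratic form. -/
structure FormData (F V : Type) [Field F] [AddCommGroup V] [Module F V] where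
  σ : F →+* F
  f : V → V → F
  Q : V → F
  θ : F →+ F
  add_left : ∀ u v w, f (u + v) w = f u w + f v w
  smul_left : ∀ (a : F) u w, f (a • u) w = a * f u w
  add_right : ∀ u v w, f u (v + w) = f u v + f u w
  smul_right : ∀ (a : F) u w, f u (a • w) = σ a * f u w
  refl : ∀ u v, f u v = 0 → f v u = 0
  nondeg : ∀ u, (∀ v, f u v = 0) → u = 0
  Q_add : ∀ u v, Q (u + v) = Q u + Q v + θ (f u v)
  Q_smul : ∀ (a : F) v, Q v = 0 → Q (a • v) = 0

/-- The isometry group. -/
def FormData.isom {F V : Type} [Field F] [AddCommGroup V] [Module F V] (D : FormData F V) : Subgroup (V ≃ₗ[F] V) where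
  carrier := {g | (∀ u v, D.f (g u) (g v) = D.f u v) ∧ ∀ v, D.Q (g v) = D.Q v}
  mul_mem' {a b} ha hb := by
    refine ⟨fun u v => ?_, fun v => ?_⟩
    · rw [LinearEquiv.mul_apply, LinearEquiv.mul_apply, ha.1, hb.1]
    · rw [LinearEquiv.mul_apply, ha.2, hb.2]
  one_mem' := ⟨fun _ _ => rfl, fun _ => rfl⟩
  inv_mem' {a} ha := by
    have h : ∀ u, a (a⁻¹ u) = u := fun u => LinearEquiv.apply_symm_apply a u
    refine ⟨fun u v => ?_, fun v => ?_⟩
    · rw [← ha.1 (a⁻¹ u) (a⁻¹ v), h, h]
    · rw [← ha.2 (a⁻¹ v), h]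

/-- `X` acts on `V` through a set of `K` operators up to scalars. -/
def SmallMod {F V : Type} [Field F] [AddCommGroup V] [Module F V] (K : ℕ) (X : Subgroup (V ≃ₗ[F] V)) : Prop :=
  ∃ T : Finset (V ≃ₗ[F] V), (T : Set (V ≃ₗ[F] V)) ⊆ X ∧ T.card ≤ K ∧ ∀ x ∈ X, ∃ t ∈ T, ∃ a : F, ∀ v, x v = a • t v

/-- A small `r'`-subgroup of an isometry group centralises a big `r`-subgroup of the commutator subgroup, in large dimension.
`hCW` is the existence of totally singular `X`-submodules (Chevalley-Warning), to be checked for each type of form. -/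
def FormsCore : Prop :=
  ∀ c K d : ℕ, ∃ n₀ : ℕ, ∀ (F V : Type) [Field F] [Finite F] [AddCommGroup V] [Module F V] [Module.Finite F V]
    (r : ℕ) [Fact r.Prime] [CharP F r] (D : FormData F V) (X : Subgroup (V ≃ₗ[F] V)),
    n₀ ≤ Module.finrank F V → X ≤ D.isom → (Nat.card X).Coprime r → SmallMod K X →
    (∀ W : Submodule F V, (∀ x ∈ X, ∀ w ∈ W, x w ∈ W) → d ≤ Module.finrank F W →
      ∃ v ∈ W, v ≠ 0 ∧ ∀ x ∈ X, ∀ y ∈ X, D.f (x v) (y v) = 0 ∧ D.Q (x v) = 0) →
    ∃ E : Subgroup (V ≃ₗ[F] V), E ≤ ⁅D.isom, D.isom⁆ ∧ E ≤ Subgroup.centralizer (X : Set (V ≃ₗ[F] V)) ∧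
      IsPGroup r E ∧ c < Nat.card E

end Cfsg.Agent.H851.Sims
end

-- part: H957/SimsUnit_mg
section
set_option linter.all false
open scoped Cfsg.Agent.FastGrp

-- part: H36/Sims/Zero
section
/-!
# Common zeros of quadratic forms over finite fields (helper36, task 445 for S3386)

`common_zero` : fewer than `dim V / 2` bilinear forms over a finite field have a common isotropic vector
(Chevalley-Warning).
-/

set_option autoImplicit false

namespace Cfsg.Agent.H36.Sims

open MvPolynomial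

theorem common_zero {k V : Type} [Field k] [Finite k] [AddCommGroup V] [Module k V] [Module.Finite k V] {ι : Type}
    [Fintype ι] (B : ι → V →ₗ[k] V →ₗ[k] k) (h : 2 * Fintype.card ι < Module.finrank k V) :
    ∃ v : V, v ≠ 0 ∧ ∀ i, B i v v = 0 := by
  classical
  have : Fintype k := Fintype.ofFinite k
  obtain ⟨p, hp⟩ := CharP.exists k
  have hpp : Fact p.Prime := ⟨CharP.char_is_prime k p⟩
  let n := Module.finrank k V
  let b : Module.Basis (Fin n) k V := Module.finBasis k V
  let f : ι → MvPolynomial (Fin n) k := fun i => ∑ a, ∑ c, C (B i (b a) (b c)) * (X a * X c)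
  have hf : ∀ i, (f i).totalDegree ≤ 2 := by
    intro i
    refine totalDegree_finsetSum_le fun a _ => totalDegree_finsetSum_le fun c _ => ?_
    refine (totalDegree_mul _ _).trans ?_
    rw [totalDegree_C, zero_add]
    refine (totalDegree_mul _ _).trans ?_
    rw [totalDegree_X, totalDegree_X]
  have hsum : (∑ i, (f i).totalDegree) < Fintype.card (Fin n) := by
    rw [Fintype.card_fin]
    calc ∑ i, (f i).totalDegree ≤ ∑ _i : ι, 2 := Finset.sum_le_sum fun i _ => hf i
      _ = 2 * Fintype.card ι := by simp only [mul_comm, _root_.Finset.sum_const, _root_.Finset.card_univ, _root_.smul_eq_mul]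
      _ < n := h
  have hdvd := char_dvd_card_solutions_of_fintype_sum_lt p hsum
  have heval : ∀ (i : ι) (x : Fin n → k), eval x (f i) = B i (b.equivFun.symm x) (b.equivFun.symm x) := by
    intro i x
    rw [Module.Basis.equivFun_symm_apply]
    simp only [f, map_sum, map_mul, eval_C, eval_X, map_smul, LinearMap.sum_apply, LinearMap.smul_apply, smul_eq_mul]
    rw [Finset.sum_comm]
    refine Finset.sum_congr rfl fun a _ => ?_
    rw [Finset.mul_sum]
    refine Finset.sum_congr rfl fun c _ => ?_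
    ring
  let Z := { x : Fin n → k // ∀ i, eval x (f i) = 0 }
  have h0 : ∀ i, eval (0 : Fin n → k) (f i) = 0 := by
    intro i
    rw [heval, map_zero, map_zero]
  have hcard : 1 < Fintype.card Z := by
    have h1 : 0 < Fintype.card Z := Fintype.card_pos_iff.2 ⟨⟨0, h0⟩⟩
    exact lt_of_lt_of_le hpp.out.one_lt (Nat.le_of_dvd h1 hdvd)
  have : Nontrivial Z := Fintype.one_lt_card_iff_nontrivial.1 hcard
  obtain ⟨z, hz⟩ := exists_ne (⟨0, h0⟩ : Z)
  refine ⟨b.equivFun.symm z.1, ?_, fun i => ?_⟩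
  · intro h2
    apply hz
    apply Subtype.ext
    exact b.equivFun.symm.map_eq_zero_iff.1 h2
  · rw [← heval]; exact z.2 i

end Cfsg.Agent.H36.Sims
end

-- part: H957/SimsBase
section
/-!
# Classical groups of large rank: from `FormsCore` to central quotients (helper957, S3386)

* `cw` : Chevalley-Warning, a common singular vector for finitely many operators;
* `large_abs` : `FormsCore` for a central quotient `Γ ⧸ Z(Γ)`, `⁅isom, isom⁆ ≤ Γ ≤ isom`.
-/

set_option autoImplicit false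

namespace Cfsg.Agent.H957.Sims

open Module Cfsg.Agent.H851.Sims

/-- a common singular vector -/
theorem cw {F V : Type} [Field F] [Finite F] [AddCommGroup V] [Module F V] [Module.Finite F V] (r : ℕ) [Fact r.Prime]
    [CharP F r] (D : FormData F V) (B : V →ₗ[F] V →ₗ[F] F) (hB : ∀ v, D.Q v = B v v) (K : ℕ)
    (T : Finset (V ≃ₗ[F] V)) (hT : T.card ≤ K) (W : Submodule F V) (hd : 2 * (K * K + K) + 1 ≤ finrank F W) :
    ∃ v ∈ W, v ≠ 0 ∧ (∀ s ∈ T, ∀ t ∈ T, D.f (s v) (t v) = 0) ∧ ∀ t ∈ T, D.Q (t v) = 0 := by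
  classical
  letI : Algebra (ZMod r) F := ZMod.algebra F r
  letI : Module (ZMod r) V := Module.compHom V (algebraMap (ZMod r) F)
  haveI : IsScalarTower (ZMod r) F V := ⟨fun a b v => by
    show (a • b) • v = algebraMap (ZMod r) F a • (b • v)
    rw [Algebra.smul_def, mul_smul]⟩
  have hsm : ∀ (a : ZMod r) (v : V), a • v = algebraMap (ZMod r) F a • v := fun _ _ => rfl
  haveI : Module.Finite (ZMod r) F := Module.Finite.of_finite
  let b := Module.finBasis (ZMod r) F
  set m := finrank (ZMod r) F with hm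
  have hσ : ∀ a : ZMod r, D.σ (algebraMap (ZMod r) F a) = algebraMap (ZMod r) F a := by
    intro a
    have h : D.σ.comp (algebraMap (ZMod r) F) = algebraMap (ZMod r) F := RingHom.ext_zmod _ _
    exact congrArg (fun f => f a) h
  -- the forms
  let fm : (V ≃ₗ[F] V) → (V ≃ₗ[F] V) → Fin m → W →ₗ[ZMod r] W →ₗ[ZMod r] ZMod r := fun s t j =>
    LinearMap.mk₂ (ZMod r) (fun u v => b.coord j (D.f (s u) (t v)))
      (fun u u' v => by rw [Submodule.coe_add, map_add, D.add_left, map_add])
      (fun a u v => by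
        have h1 : ((a • u : W) : V) = algebraMap (ZMod r) F a • (u : V) := rfl
        rw [h1, map_smul, D.smul_left, ← Algebra.smul_def, map_smul])
      (fun u v v' => by rw [Submodule.coe_add, map_add, D.add_right, map_add])
      (fun a u v => by
        have h1 : ((a • v : W) : V) = algebraMap (ZMod r) F a • (v : V) := rfl
        rw [h1, map_smul, D.smul_right, hσ, ← Algebra.smul_def, map_smul])
  let qm : (V ≃ₗ[F] V) → Fin m → W →ₗ[ZMod r] W →ₗ[ZMod r] ZMod r := fun t j =>
    LinearMap.mk₂ (ZMod r) (fun u v => b.coord j (B (t u) (t v)))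
      (fun u u' v => by rw [Submodule.coe_add, map_add, map_add, LinearMap.add_apply, map_add])
      (fun a u v => by
        have h1 : ((a • u : W) : V) = algebraMap (ZMod r) F a • (u : V) := rfl
        rw [h1, map_smul, map_smul, LinearMap.smul_apply, smul_eq_mul, ← Algebra.smul_def, map_smul])
      (fun u v v' => by rw [Submodule.coe_add, map_add, map_add, map_add])
      (fun a u v => by
        have h1 : ((a • v : W) : V) = algebraMap (ZMod r) F a • (v : V) := rfl
        rw [h1, map_smul, map_smul, smul_eq_mul, ← Algebra.smul_def, map_smul])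
  let BB : (((T × T) ⊕ T) × Fin m) → W →ₗ[ZMod r] W →ₗ[ZMod r] ZMod r := fun x =>
    Sum.elim (fun y => fm y.1 y.2 x.2) (fun y => qm y x.2) x.1
  have hfin : Module.Finite (ZMod r) W := Module.Finite.trans F W
  have hcard : 2 * Fintype.card (((T × T) ⊕ T) × Fin m) < finrank (ZMod r) W := by
    rw [Fintype.card_prod, Fintype.card_sum, Fintype.card_prod, Fintype.card_coe, Fintype.card_fin,
      ← Module.finrank_mul_finrank (ZMod r) F W]
    have hm0 : 0 < m := Module.finrank_pos
    have h1 : T.card * T.card + T.card ≤ K * K + K := Nat.add_le_add (Nat.mul_le_mul hT hT) hT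
    calc 2 * ((T.card * T.card + T.card) * m) ≤ 2 * ((K * K + K) * m) := by gcongr
      _ = m * (2 * (K * K + K)) := by ring
      _ < m * finrank F W := Nat.mul_lt_mul_of_pos_left (by omega) hm0
  obtain ⟨w, hw0, hw⟩ := H36.Sims.common_zero BB hcard
  have hz : ∀ x : F, (∀ j, b.coord j x = 0) → x = 0 := by
    intro x hx
    refine b.ext_elem fun j => ?_
    rw [map_zero]
    exact hx j
  refine ⟨w, w.2, fun h => hw0 (Subtype.ext h), fun s hs t ht => hz _ fun j => ?_, fun t ht => ?_⟩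
  · exact hw (Sum.inl (⟨s, hs⟩, ⟨t, ht⟩), j)
  · rw [hB]
    exact hz _ fun j => hw (Sum.inr ⟨t, ht⟩, j)

/-- a finite subgroup consisting of scalars has order prime to the characteristic -/
theorem coprime_scalars {F V : Type} [Field F] [Finite F] [AddCommGroup V] [Module F V] (r : ℕ) [Fact r.Prime]
    [CharP F r] {Γ : Type*} [Group Γ] (φ : Γ →* (V ≃ₗ[F] V)) (hφ : Function.Injective φ) (Y : Subgroup Γ)
    (hY : ∀ z ∈ Y, ∃ a : F, ∀ v, φ z v = a • v) (z : Γ) (hz : z ∈ Y) (k : ℕ) (hk : z ^ r ^ k = 1) : z = 1 := by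
  obtain ⟨a, ha⟩ := hY z hz
  have hp : ∀ (n : ℕ) v, φ (z ^ n) v = a ^ n • v := by
    intro n
    induction n with
    | zero => intro v; rw [pow_zero, pow_zero, map_one, one_smul]; rfl
    | succ n ih =>
      intro v
      rw [pow_succ, map_mul, LinearEquiv.mul_apply, ha, map_smul, ih, smul_smul, pow_succ, mul_comm]
  by_cases hV : ∃ v : V, v ≠ 0
  · obtain ⟨v, hv⟩ := hV
    have h1 : a ^ r ^ k = 1 := by
      have h2 := hp (r ^ k) v
      rw [hk, map_one, LinearEquiv.coe_one, id] at h2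
      have h3 : (a ^ r ^ k - 1) • v = 0 := by rw [sub_smul, one_smul, ← h2, sub_self]
      rcases smul_eq_zero.1 h3 with h4 | h4
      · exact sub_eq_zero.1 h4
      · exact absurd h4 hv
    have h5 : a = 1 := by
      have h6 : (a - 1) ^ r ^ k = 0 := by rw [sub_pow_char_pow, one_pow, h1, sub_self]
      exact sub_eq_zero.1 (pow_eq_zero_iff (pow_ne_zero _ (Fact.out : r.Prime).ne_zero) |>.1 h6)
    refine hφ (LinearEquiv.ext fun v => ?_)
    rw [ha, h5, one_smul, map_one]
    rfl
  · refine hφ (LinearEquiv.ext fun v => ?_)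
    have h : ∀ x : V, x = 0 := fun x => by
      by_contra hx
      exact hV ⟨x, hx⟩
    rw [h (φ z v), h (φ 1 v)]

/-- `FormsCore` for central quotients -/
theorem large_abs (hC : FormsCore) (c K : ℕ) : ∃ n₀ : ℕ, ∀ (F V : Type) [Field F] [Finite F] [AddCommGroup V]
    [Module F V] [Module.Finite F V] (r : ℕ) [Fact r.Prime] [CharP F r] (D : FormData F V)
    (B : V →ₗ[F] V →ₗ[F] F) (_ : ∀ v, D.Q v = B v v) (Γ : Type) [Group Γ] (φ : Γ →* (V ≃ₗ[F] V)),
    n₀ ≤ finrank F V → Function.Injective φ → φ.range ≤ D.isom → ⁅D.isom, D.isom⁆ ≤ φ.range →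
    (∀ z ∈ Subgroup.center Γ, ∃ a : F, ∀ v, φ z v = a • v) →
    ∀ Z : Subgroup (Γ ⧸ Subgroup.center Γ), Nat.card Z ≤ K → (Nat.card Z).Coprime r →
      ∃ E : Subgroup (Γ ⧸ Subgroup.center Γ), E ≤ Subgroup.centralizer (Z : Set _) ∧ IsPGroup r E ∧ c < Nat.card E := by
  classical
  obtain ⟨n₀, hn₀⟩ := hC c K (2 * (K * K + K) + 1)
  refine ⟨n₀, ?_⟩
  intro F V _ _ _ _ _ r _ _ D B hB Γ _ φ hn hφ hle hge hcen Z hZK hZr
  have hfinV : Finite V := Module.finite_of_finite F
  have hfinE : Finite (V ≃ₗ[F] V) := Finite.of_injective (fun e => (e : V → V)) DFunLike.coe_injective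
  have hfinΓ : Finite Γ := Finite.of_injective φ hφ
  let π := QuotientGroup.mk' (Subgroup.center Γ)
  have hπs : Function.Surjective π := QuotientGroup.mk'_surjective _
  have hπk : ∀ x, π x = 1 ↔ x ∈ Subgroup.center Γ := fun x => QuotientGroup.eq_one_iff x
  let X : Subgroup (V ≃ₗ[F] V) := (Z.comap π).map φ
  -- the order of `X`
  have hcopr : ∀ Y : Subgroup Γ, (∀ z ∈ Y, ∃ a : F, ∀ v, φ z v = a • v) → ¬ r ∣ Nat.card Y := by
    intro Y hY hd
    obtain ⟨z, hz⟩ := exists_prime_orderOf_dvd_card' r hd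
    have h1 : (z : Γ) = 1 := coprime_scalars r φ hφ Y hY z z.2 1 (by
      rw [pow_one, ← Subgroup.coe_pow, ← hz, pow_orderOf_eq_one, Subgroup.coe_one])
    have h2 : z = 1 := Subtype.ext h1
    rw [h2, orderOf_one] at hz
    exact (Fact.out : r.Prime).one_lt.ne hz
  have hXr : (Nat.card X).Coprime r := by
    have h1 : Nat.card X = Nat.card (Z.comap π) := Nat.card_congr ((Z.comap π).equivMapOfInjective φ hφ).toEquiv.symm
    have h2 : Nat.card (Z.comap π) = Nat.card Z * Nat.card (Subgroup.center Γ) := by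
      have h3 : Subgroup.center Γ ≤ Z.comap π := by
        intro z hz
        rw [Subgroup.mem_comap, (hπk z).2 hz]
        exact Z.one_mem
      have h4 := Subgroup.card_mul_index ((Subgroup.center Γ).subgroupOf (Z.comap π))
      have h5 : Nat.card ((Subgroup.center Γ).subgroupOf (Z.comap π)) = Nat.card (Subgroup.center Γ) :=
        Nat.card_congr (Subgroup.subgroupOfEquivOfLe h3).toEquiv
      have h6 : ((Subgroup.center Γ).subgroupOf (Z.comap π)).index = Nat.card Z := by
        have h7 : (Z.comap π).map π = Z := Subgroup.map_comap_eq_self_of_surjective hπs Z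
        have h8 := Subgroup.relIndex_ker π (K := Z.comap π)
        rw [h7, QuotientGroup.ker_mk'] at h8
        exact h8
      rw [← h4, h5, h6, mul_comm]
    rw [h1, h2]
    exact Nat.Coprime.mul_left hZr (((Nat.Prime.coprime_iff_not_dvd (Fact.out : r.Prime)).2 (hcopr _ hcen)).symm)
  -- the representatives
  have hsec : ∀ z : Z, ∃ x : Γ, π x = z := fun z => hπs z
  choose sec hsecp using hsec
  have hZfin : Fintype Z := Fintype.ofFinite Z
  let T : Finset (V ≃ₗ[F] V) := Finset.univ.image fun z : Z => φ (sec z)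
  have hTX : (T : Set (V ≃ₗ[F] V)) ⊆ X := by
    intro t ht
    obtain ⟨z, -, rfl⟩ := Finset.mem_image.1 (Finset.mem_coe.1 ht)
    refine Subgroup.mem_map_of_mem φ ?_
    rw [Subgroup.mem_comap, hsecp]
    exact z.2
  have hTK : T.card ≤ K := by
    refine (Finset.card_image_le).trans ?_
    rw [Finset.card_univ, ← Nat.card_eq_fintype_card]
    exact hZK
  have hT : ∀ x ∈ X, ∃ t ∈ T, ∃ a : F, ∀ v, x v = a • t v := by
    rintro x ⟨y, hy, rfl⟩
    refine ⟨φ (sec ⟨π y, hy⟩), Finset.mem_image_of_mem _ (Finset.mem_univ _), ?_⟩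
    have h1 : y * (sec ⟨π y, hy⟩)⁻¹ ∈ Subgroup.center Γ := by
      rw [← hπk, map_mul, map_inv, hsecp, mul_inv_cancel]
    obtain ⟨a, ha⟩ := hcen _ h1
    refine ⟨a, fun v => ?_⟩
    rw [← ha, ← LinearEquiv.mul_apply, ← map_mul, inv_mul_cancel_right]
  have hXle : X ≤ D.isom := by
    rintro x ⟨y, -, rfl⟩
    exact hle ⟨y, rfl⟩
  obtain ⟨E, hE1, hE2, hE3, hE4⟩ := hn₀ F V r D X hn hXle hXr ⟨T, hTX, hTK, hT⟩ (by
    intro W hWX hWd
    obtain ⟨v, hvW, hv0, hv1, hv2⟩ := cw r D B hB K T hTK W hWd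
    refine ⟨v, hvW, hv0, fun x hx y hy => ?_⟩
    obtain ⟨s, hs, a, ha⟩ := hT x hx
    obtain ⟨t, ht, b, hb⟩ := hT y hy
    refine ⟨?_, ?_⟩
    · rw [ha, hb, D.smul_left, D.smul_right, hv1 s hs t ht, mul_zero, mul_zero]
    · rw [ha]
      exact D.Q_smul a _ (hv2 s hs))
  let E0 : Subgroup Γ := E.comap φ
  have hE0 : E0.map φ = E := by
    rw [Subgroup.map_comap_eq]
    exact inf_eq_right.2 (hE1.trans hge)
  have hE0p : IsPGroup r E0 := hE3.comap_of_injective φ hφ
  refine ⟨E0.map π, ?_, hE0p.map π, ?_⟩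
  · rintro e ⟨e0, he0, rfl⟩
    rw [Subgroup.mem_centralizer_iff]
    intro z hz
    obtain ⟨z0, rfl⟩ := hπs z
    have h1 : φ z0 ∈ X := Subgroup.mem_map_of_mem φ hz
    have h2 : φ z0 * φ e0 = φ e0 * φ z0 := Subgroup.mem_centralizer_iff.1 (hE2 he0) _ h1
    rw [← map_mul, ← map_mul] at h2
    have h3 : z0 * e0 = e0 * z0 := hφ h2
    rw [← map_mul, h3, map_mul]
  · have h1 : Function.Injective (π.comp E0.subtype) := by
      rw [← MonoidHom.ker_eq_bot_iff, eq_bot_iff]
      intro e he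
      have h2 : (e : Γ) ∈ Subgroup.center Γ := (hπk _).1 he
      obtain ⟨k, hk⟩ := hE0p e
      have h3 : (e : Γ) = 1 := coprime_scalars r φ hφ _ hcen e h2 k (by
        rw [← Subgroup.coe_pow, hk, Subgroup.coe_one])
      exact Subgroup.mem_bot.2 (Subtype.ext h3)
    have h4 : Nat.card (E0.map π) = Nat.card E0 := by
      have h5 : E0.map π = (π.comp E0.subtype).range := by
        rw [MonoidHom.range_comp, Subgroup.range_subtype]
      rw [h5]
      exact Nat.card_congr (MonoidHom.ofInjective h1).toEquiv.symm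
    have h6 : Nat.card E = Nat.card E0 := by
      rw [← hE0]
      exact Nat.card_congr (E0.equivMapOfInjective φ hφ).toEquiv.symm
    rw [h4, ← h6]
    exact hE4

end Cfsg.Agent.H957.Sims
end

-- part: H957/SimsOmega
section
/-!
# S3386, the orthogonal groups of large rank in cross characteristic (helper957, task 450)
-/

set_option autoImplicit false

namespace Cfsg.Agent.H957.Sims

open Module Cfsg.Agent.H851.Sims Matrix Cfsg

/-- matrices as linear equivalences -/
def gle (ι : Type) [Fintype ι] [DecidableEq ι] (F : Type) [Field F] :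
    Matrix.GeneralLinearGroup ι F ≃* ((ι → F) ≃ₗ[F] (ι → F)) :=
  Matrix.GeneralLinearGroup.toLin.trans (LinearMap.GeneralLinearGroup.generalLinearEquiv F (ι → F))

/-- the form data of a non-degenerate quadratic form -/
def quadData {ι : Type} [Fintype ι] {F : Type} [Field F] (Q : QuadraticForm F (ι → F))
    (hQ : LieClassical.OrthCore.Nondeg Q) : FormData F (ι → F) where
  σ := RingHom.id F
  f := QuadraticMap.polar Q
  Q := Q
  θ := AddMonoidHom.id F
  add_left u v w := QuadraticMap.polar_add_left Q u v w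
  smul_left a u w := by rw [QuadraticMap.polar_smul_left, smul_eq_mul]
  add_right u v w := QuadraticMap.polar_add_right Q u v w
  smul_right a u w := by rw [QuadraticMap.polar_smul_right, smul_eq_mul, RingHom.id_apply]
  refl u v h := by rw [QuadraticMap.polar_comm, h]
  nondeg := hQ
  Q_add u v := by
    rw [QuadraticMap.polar, AddMonoidHom.id_apply]
    ring
  Q_smul a v h := by rw [QuadraticMap.map_smul, h, smul_zero]

theorem isom_quadData {ι : Type} [Fintype ι] [DecidableEq ι] {F : Type} [Field F] (Q : QuadraticForm F (ι → F))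
    (hQ : LieClassical.OrthCore.Nondeg Q) :
    (quadData Q hQ).isom = (isometryGroup F ⇑Q).map (gle ι F).toMonoidHom := by
  ext g
  constructor
  · intro hg
    refine ⟨(gle ι F).symm g, ?_, (gle ι F).apply_symm_apply g⟩
    intro u _
    change Q (gle ι F ((gle ι F).symm g) u) = Q u
    rw [(gle ι F).apply_symm_apply]
    exact hg.2 u
  · rintro ⟨h, hh, rfl⟩
    have h1 : ∀ v, Q (gle ι F h v) = Q v := fun v => hh v v
    refine ⟨fun u v => ?_, h1⟩
    change QuadraticMap.polar Q (gle ι F h u) (gle ι F h v) = QuadraticMap.polar Q u v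
    rw [QuadraticMap.polar, QuadraticMap.polar, ← map_add, h1, h1, h1]

theorem range_rOm {ι : Type} [Fintype ι] [DecidableEq ι] {F : Type} [Field F] (Q : (ι → F) → F) :
    (H708.RFam.rOm Q).range = ⁅isometryGroup F Q, isometryGroup F Q⁆ := by
  have h1 : (H708.RFam.rOm Q).range = (Omega F Q).map (isometryGroup F Q).subtype := by
    rw [H708.RFam.rOm, MonoidHom.range_comp, Subgroup.range_subtype]
  rw [h1, Omega, commutator_def, Subgroup.map_commutator, ← MonoidHom.range_eq_map, Subgroup.range_subtype]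

/-- the general orthogonal case -/
theorem large_quad (hC : FormsCore) (c K : ℕ) : ∃ n₀ : ℕ, ∀ (ι : Type) [Fintype ι] [DecidableEq ι], n₀ ≤ Fintype.card ι →
    ∀ (F : Type) [Field F] [Finite F] (r : ℕ) [Fact r.Prime] [CharP F r] (Q : QuadraticForm F (ι → F)),
    LieClassical.OrthCore.Nondeg Q →
    (∀ z ∈ Subgroup.center (Omega F ⇑Q), ∃ l : F, ((H708.RFam.rOm ⇑Q z : GL ι F) : Matrix ι ι F) = l • 1) →
    ∀ (Z : Subgroup (POmega F ⇑Q)), Nat.card Z ≤ K → (Nat.card Z).Coprime r →
    ∃ E : Subgroup (POmega F ⇑Q), E ≤ Subgroup.centralizer (Z : Set _) ∧ IsPGroup r E ∧ c < Nat.card E := by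
  obtain ⟨n₀, hn₀⟩ := large_abs hC c K
  refine ⟨n₀, ?_⟩
  intro ι _ _ hn F _ _ r _ _ Q hQ hcen Z hZ hZr
  obtain ⟨B, hB⟩ := LinearMap.BilinMap.toQuadraticMap_surjective (R := F) (M := ι → F) (N := F) Q
  refine hn₀ F (ι → F) r (quadData Q hQ) B (fun v => ?_) (Omega F ⇑Q)
    ((gle ι F).toMonoidHom.comp (H708.RFam.rOm ⇑Q)) ?_ ?_ ?_ ?_ ?_ Z hZ hZr
  · change Q v = B v v
    rw [← hB]
    rfl
  · rw [Module.finrank_fintype_fun_eq_card]
    exact hn
  · exact (gle ι F).injective.comp (H708.RFam.rOm_injective ⇑Q)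
  · rw [MonoidHom.range_comp, range_rOm, isom_quadData]
    exact Subgroup.map_mono (Subgroup.commutator_le_self _)
  · rw [MonoidHom.range_comp, range_rOm, isom_quadData, Subgroup.map_commutator]
  · intro z hz
    obtain ⟨l, hl⟩ := hcen z hz
    refine ⟨l, fun v => ?_⟩
    change ((H708.RFam.rOm ⇑Q z : GL ι F) : Matrix ι ι F) *ᵥ v = l • v
    rw [hl, Matrix.smul_mulVec, Matrix.one_mulVec]

theorem large_pomega_odd (hC : Cfsg.Agent.H851.Sims.FormsCore) (c K : ℕ) : ∃ n₀ : ℕ, ∀ m : ℕ, n₀ ≤ m →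
    ∀ (F : Type) [Field F] [Finite F] (r : ℕ) [Fact r.Prime] [CharP F r],
    r ≠ 2 → ∀ (Z : Subgroup (Cfsg.POmega F (Cfsg.quadFormOdd m F))), Nat.card Z ≤ K → (Nat.card Z).Coprime r →
    ∃ E : Subgroup (Cfsg.POmega F (Cfsg.quadFormOdd m F)), E ≤ Subgroup.centralizer (Z : Set _) ∧ IsPGroup r E ∧
      c < Nat.card E := by
  obtain ⟨n₀, hn₀⟩ := large_quad hC c K
  refine ⟨n₀ + 2, ?_⟩
  intro m hm F _ _ r _ _ hr
  have h2 : (2 : F) ≠ 0 := by
    intro h
    have h1 : ((2 : ℕ) : F) = 0 := by exact_mod_cast h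
    have h3 := (CharP.cast_eq_zero_iff F r 2).1 h1
    exact hr ((Nat.prime_dvd_prime_iff_eq Fact.out Nat.prime_two).1 h3)
  have h := hn₀ (Unit ⊕ (Fin m ⊕ Fin m)) (by simp only [_root_.Fintype.card_sum, _root_.Fintype.card_unique, _root_.Fintype.card_fin]; omega) F r (LieClassical.OrthForms.oddForm m F)
    (LieClassical.OrthForms.nondeg_oddForm m F h2)
  rw [LieClassical.OrthForms.coe_oddForm] at h
  exact h fun z hz => H708.RFam.center_odd F h2 m (by omega) z hz

theorem large_pomega_plus (hC : Cfsg.Agent.H851.Sims.FormsCore) (c K : ℕ) : ∃ n₀ : ℕ, ∀ m : ℕ, n₀ ≤ m →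
    ∀ (F : Type) [Field F] [Finite F] (r : ℕ) [Fact r.Prime] [CharP F r]
    (Z : Subgroup (Cfsg.POmega F (Cfsg.quadFormPlus m F))), Nat.card Z ≤ K → (Nat.card Z).Coprime r →
    ∃ E : Subgroup (Cfsg.POmega F (Cfsg.quadFormPlus m F)), E ≤ Subgroup.centralizer (Z : Set _) ∧ IsPGroup r E ∧
      c < Nat.card E := by
  obtain ⟨n₀, hn₀⟩ := large_quad hC c K
  refine ⟨n₀ + 2, ?_⟩
  intro m hm F _ _ r _ _
  have h := hn₀ (Fin m ⊕ Fin m) (by simp only [_root_.Fintype.card_sum, _root_.Fintype.card_fin]; omega) F r (LieClassical.OrthForms.plusForm m F)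
    (LieClassical.OrthForms.nondeg_plusForm m F)
  rw [LieClassical.OrthForms.coe_plusForm] at h
  exact h fun z hz => H708.RFam.center_plus F m (by omega) z hz

theorem large_pomega_minus (hC : Cfsg.Agent.H851.Sims.FormsCore) (c K : ℕ) : ∃ n₀ : ℕ, ∀ m : ℕ, n₀ ≤ m →
    ∀ (F : Type) [Field F] [Finite F] (r : ℕ) [Fact r.Prime] [CharP F r]
    (a b : F), (∀ z₁ z₂ : F, z₁ ^ 2 + a * z₁ * z₂ + b * z₂ ^ 2 = 0 → z₁ = 0 ∧ z₂ = 0) → ∀
    (Z : Subgroup (Cfsg.POmega F (Cfsg.quadFormMinus m F a b))), Nat.card Z ≤ K → (Nat.card Z).Coprime r →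
    ∃ E : Subgroup (Cfsg.POmega F (Cfsg.quadFormMinus m F a b)), E ≤ Subgroup.centralizer (Z : Set _) ∧ IsPGroup r E ∧
      c < Nat.card E := by
  obtain ⟨n₀, hn₀⟩ := large_quad hC c K
  refine ⟨n₀ + 2, ?_⟩
  intro m hm F _ _ r _ _ a b hab
  have h := hn₀ ((Fin m ⊕ Fin m) ⊕ Fin 2) (by simp only [_root_.Fintype.card_sum, _root_.Fintype.card_fin]; omega) F r (LieClassical.OrthForms.minusForm m F a b)
    (LieClassical.OrthForms.nondeg_minusForm m F a b hab)
  rw [LieClassical.OrthForms.coe_minusForm] at h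
  exact h fun z hz => H708.RFam.center_minus F m (by omega) a b hab z hz

end Cfsg.Agent.H957.Sims
end

-- part: H957/SimsUnit
section
/-!
# S3386, the unitary groups of large rank in cross characteristic (helper957, task 449)
-/

set_option autoImplicit false

namespace Cfsg.Agent.H957.Sims

open Module Cfsg.Agent.H851.Sims Matrix Cfsg

section

variable {F : Type} [Field F] {r k : ℕ} [Fact r.Prime] [CharP F r]

/-- the form data of the hermitian form -/
def hermData (n : ℕ) (hF : ∀ x : F, (x ^ r ^ k) ^ r ^ k = x) : FormData F (Fin n → F) where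
  σ := iterateFrobenius F r k
  f := hermForm n F (r ^ k)
  Q _ := 0
  θ := 0
  add_left u v w := by
    simp only [hermForm, Pi.add_apply, add_mul, Finset.sum_add_distrib]
  smul_left a u w := by
    simp only [hermForm, Pi.smul_apply, smul_eq_mul, Finset.mul_sum, mul_assoc]
  add_right u v w := by
    simp only [hermForm, Pi.add_apply, add_pow_char_pow, mul_add, Finset.sum_add_distrib]
  smul_right a u w := by
    simp only [hermForm, Pi.smul_apply, smul_eq_mul, mul_pow, Finset.mul_sum, iterateFrobenius_def]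
    exact Finset.sum_congr rfl fun i _ => by ring
  refl u v h := by
    have h1 : (hermForm n F (r ^ k) u v) ^ r ^ k = hermForm n F (r ^ k) v u := by
      simp only [hermForm, sum_pow_char_pow, mul_pow, hF]
      exact Finset.sum_congr rfl fun i _ => by ring
    rw [← h1, h, zero_pow (pow_ne_zero _ (Fact.out : r.Prime).ne_zero)]
  nondeg u h := by
    funext i
    have h1 := h (Pi.single i 1)
    have h2 : hermForm n F (r ^ k) u (Pi.single i 1) = u i := by
      rw [hermForm, Finset.sum_eq_single i]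
      · rw [Pi.single_eq_same, one_pow, mul_one]
      · intro j _ hj
        rw [Pi.single_eq_of_ne hj, zero_pow (pow_ne_zero _ (Fact.out : r.Prime).ne_zero), mul_zero]
      · intro hi
        exact absurd (Finset.mem_univ i) hi
    rw [← h2, h1, Pi.zero_apply]
  Q_add _ _ := by simp
  Q_smul _ _ _ := rfl

end

theorem large_psu (hC : Cfsg.Agent.H851.Sims.FormsCore) (c K : ℕ) : ∃ n₀ : ℕ, ∀ n : ℕ, n₀ ≤ n →
    ∀ (F : Type) [Field F] [Finite F] (r : ℕ) [Fact r.Prime] [CharP F r] (q : ℕ),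
    Nat.card F = q ^ 2 → ∀ (Z : Subgroup (Cfsg.PSU n F q)), Nat.card Z ≤ K → (Nat.card Z).Coprime r →
    ∃ E : Subgroup (Cfsg.PSU n F q), E ≤ Subgroup.centralizer (Z : Set _) ∧ IsPGroup r E ∧ c < Nat.card E := by
  obtain ⟨n₀, hn₀⟩ := large_abs hC c K
  refine ⟨n₀ + 3, ?_⟩
  intro n hn F _ _ r _ _ q hq Z hZ hZr
  have hfin : Fintype F := Fintype.ofFinite F
  have hF : Fintype.card F = q ^ 2 := by rw [← Nat.card_eq_fintype_card, hq]
  obtain ⟨k, hk⟩ : ∃ k, q = r ^ k := by
    obtain ⟨a, ha⟩ := FiniteField.card F r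
    obtain ⟨b, hb, hb2⟩ := (Nat.dvd_prime_pow (Fact.out : r.Prime)).1
      (show q ∣ r ^ (a : ℕ) by rw [← ha.2, hF]; exact dvd_pow_self q two_ne_zero)
    exact ⟨b, hb2⟩
  subst hk
  have hFq : ∀ x : F, (x ^ r ^ k) ^ r ^ k = x := by
    intro x
    rw [← pow_mul, ← sq, ← hF]
    exact FiniteField.pow_card x
  let D : FormData F (Fin n → F) := hermData n hFq
  have hmem : ∀ g : GL (Fin n) F, gle (Fin n) F g ∈ D.isom ↔
      ∀ u v, hermForm n F (r ^ k) ((g : Matrix (Fin n) (Fin n) F) *ᵥ u) ((g : Matrix (Fin n) (Fin n) F) *ᵥ v) =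
        hermForm n F (r ^ k) u v := fun g => ⟨fun h => h.1, fun h => ⟨h, fun _ => rfl⟩⟩
  refine hn₀ F (Fin n → F) r D 0 (fun v => rfl) (SU n F (r ^ k))
    ((gle (Fin n) F).toMonoidHom.comp (H708.RFam.rSU n (r ^ k))) ?_ ?_ ?_ ?_ ?_ Z hZ hZr
  · rw [Module.finrank_fintype_fun_eq_card, Fintype.card_fin]
    omega
  · exact (gle (Fin n) F).injective.comp (H708.RFam.rSU_injective n (r ^ k))
  · rintro g ⟨x, rfl⟩
    exact (hmem _).2 x.2
  · have h1 : ∀ g ∈ ⁅D.isom, D.isom⁆, g ∈ D.isom ∧ Matrix.det (((gle (Fin n) F).symm g : GL (Fin n) F) :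
        Matrix (Fin n) (Fin n) F) = 1 := by
      intro g hg
      refine ⟨Subgroup.commutator_le_self _ hg, ?_⟩
      let δ : ((Fin n → F) ≃ₗ[F] (Fin n → F)) →* Fˣ := Matrix.GeneralLinearGroup.det.comp (gle (Fin n) F).symm.toMonoidHom
      have h2 : g ∈ δ.ker := by
        have h3 : ⁅D.isom, D.isom⁆ ≤ δ.ker := by
          rw [Subgroup.commutator_le]
          intro a _ b _
          rw [MonoidHom.mem_ker, map_commutatorElement, commutatorElement_eq_one_iff_mul_comm, mul_comm]
        exact h3 hg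
      have h4 : δ g = 1 := h2
      have h5 := congrArg (fun x : Fˣ => (x : F)) h4
      exact h5
    intro g hg
    obtain ⟨hg1, hg2⟩ := h1 g hg
    have h3 : gle (Fin n) F ((gle (Fin n) F).symm g) = g := (gle (Fin n) F).apply_symm_apply g
    rw [← h3] at hg1
    refine ⟨⟨⟨(((gle (Fin n) F).symm g : GL (Fin n) F) : Matrix (Fin n) (Fin n) F), hg2⟩, (hmem _).1 hg1⟩, ?_⟩
    refine LinearEquiv.ext fun v => ?_
    conv_rhs => rw [← h3]
    rfl
  · intro z hz
    obtain ⟨l, hl⟩ := H708.RFam.rSU_center hF (by omega) z hz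
    refine ⟨l, fun v => ?_⟩
    change ((H708.RFam.rSU n (r ^ k) z : GL (Fin n) F) : Matrix (Fin n) (Fin n) F) *ᵥ v = l • v
    rw [hl, Matrix.smul_mulVec, Matrix.one_mulVec]

end Cfsg.Agent.H957.Sims
end

-- part: H36/Sims/Isotypic
section
/-!
# Large semisimple modules over algebras which act through few operators (helper36, task 444 for S3386)

`exists_isotypic` : if `R` acts on the semisimple module `V` through a space of operators spanned by at most `K`
of them and `dim V > K²m` then `V` contains the sum of `m` copies of a simple module of dimension at most `K`.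
-/

set_option autoImplicit false

namespace Cfsg.Agent.H36.Sims

open Submodule

variable {F R V : Type} [Field F] [Ring R] [Algebra F R] [AddCommGroup V] [Module F V] [Module R V]
    [IsScalarTower F R V]

/-- `R` acts through a space of operators spanned by at most `K` of them. -/
def Few (F R V : Type) [Field F] [Ring R] [Algebra F R] [AddCommGroup V] [Module F V] [Module R V]
    (K : ℕ) : Prop :=
  ∃ T : Finset R, T.card ≤ K ∧ ∀ x : R, ∃ y ∈ Submodule.span F (T : Set R), ∀ v : V, x • v = y • v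

/-- cyclic modules are small -/
theorem finrank_cyclic [Module.Finite F V] {K : ℕ} (hK : Few F R V K) (v : V) :
    Module.finrank F ↥(span R {v}) ≤ K := by
  classical
  obtain ⟨T, hT, h⟩ := hK
  let g : R →ₗ[F] V := (LinearMap.toSpanSingleton R V v).restrictScalars F
  have h1 : (span R {v}).restrictScalars F ≤ span F ((T.image g : Finset V) : Set V) := by
    intro w hw
    obtain ⟨x, rfl⟩ := mem_span_singleton.1 (show w ∈ span R {v} from hw)
    obtain ⟨y, hy, hxy⟩ := h x
    rw [hxy v, Finset.coe_image, ← Submodule.map_span]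
    exact ⟨y, hy, rfl⟩
  calc Module.finrank F ↥(span R {v}) = Module.finrank F ↥((span R {v}).restrictScalars F) := rfl
    _ ≤ Module.finrank F ↥(span F ((T.image g : Finset V) : Set V)) := Submodule.finrank_mono h1
    _ ≤ (T.image g).card := finrank_span_finset_le_card _
    _ ≤ T.card := Finset.card_image_le
    _ ≤ K := hT

theorem internal [IsSemisimpleModule R V] :
    iSupIndep (fun c : isotypicComponents R V => (c : Submodule R V)) ∧
      ⨆ c : isotypicComponents R V, (c : Submodule R V) = ⊤ :=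
  ⟨(sSupIndep_iff _).1 (sSupIndep_isotypicComponents R V),
    (sSup_eq_iSup' _).symm.trans (sSup_isotypicComponents R V)⟩

/-- few isotypic components -/
theorem card_components [Module.Finite F V] [IsSemisimpleModule R V] [Fintype (isotypicComponents R V)] {K : ℕ}
    (hK : Few F R V K) : Fintype.card (isotypicComponents R V) ≤ K := by
  classical
  obtain ⟨hind, -⟩ := internal (R := R) (V := V)
  have hne : ∀ c : isotypicComponents R V, ∃ v ∈ (c : Submodule R V), v ≠ 0 := fun c =>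
    Submodule.exists_mem_ne_zero_of_ne_bot (bot_lt_isotypicComponents c.2).ne'
  choose w hw hw0 using hne
  let s : V := ∑ c : isotypicComponents R V, w c
  obtain ⟨P, hP⟩ := _root_.ComplementedLattice.exists_isCompl (span R {s})
  let f : V →ₗ[R] V := (span R {s}).projection P hP
  have hfs : f s = s := Submodule.projection_apply_left hP ⟨s, mem_span_singleton_self s⟩
  have hfc : ∀ c : isotypicComponents R V, f (w c) ∈ (c : Submodule R V) := by
    intro c
    have h2 : ∀ c' : Submodule R V, c' ∈ isotypicComponents R V → c' ≤ c'.comap f := by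
      rintro c' ⟨S, hS, rfl⟩
      exact LinearMap.le_comap_isotypicComponent S f
    exact h2 c.1 c.2 (hw c)
  have hfr : ∀ x, f x ∈ span R {s} := fun x => Submodule.projection_apply_mem hP x
  have heq : ∀ c, f (w c) = w c := fun c =>
    (iSupIndep_iff_finsetSum_eq_imp_eq _).1 hind Finset.univ (fun c => f (w c)) w (fun c _ => ⟨hfc c, hw c⟩)
      (by rw [← map_sum]; exact hfs) c (Finset.mem_univ c)
  have hmem : ∀ c, w c ∈ span R {s} := fun c => heq c ▸ hfr (w c)
  have hli : LinearIndependent F (fun c => (⟨w c, hmem c⟩ : ↥(span R {s}))) := by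
    rw [Fintype.linearIndependent_iff]
    intro a ha c
    have h1 : ∑ c, a c • w c = 0 := by
      have := congrArg (Subtype.val : ↥(span R {s}) → V) ha
      simpa only [_root_.SetLike.mk_smul_of_tower_mk, _root_.AddSubmonoidClass.coe_finsetSum, _root_.ZeroMemClass.coe_zero] using this
    have h2 := (iSupIndep_iff_finsetSum_eq_imp_eq _).1 hind Finset.univ (fun c => a c • w c) (fun _ => 0)
      (fun c _ => ⟨Submodule.smul_of_tower_mem _ _ (hw c), Submodule.zero_mem _⟩) (by simpa only [_root_.Finset.sum_const_zero] using h1) c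
      (Finset.mem_univ c)
    exact (smul_eq_zero.1 h2).resolve_right (hw0 c)
  have hfin : Module.Finite F ↥(span R {s}) :=
    (inferInstance : Module.Finite F ↥((span R {s}).restrictScalars F))
  exact hli.fintype_card_le_finrank.trans (finrank_cyclic hK s)

theorem exists_isotypic {F R V : Type} [Field F] [Ring R] [Algebra F R] [AddCommGroup V] [Module F V] [Module R V]
    [IsScalarTower F R V] [Module.Finite F V] [IsSemisimpleModule R V] (K m : ℕ)
    (hK : ∃ T : Finset R, T.card ≤ K ∧ ∀ x : R, ∃ y ∈ Submodule.span F (T : Set R), ∀ v : V, x • v = y • v)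
    (hdim : K * K * m < Module.finrank F V) :
    ∃ U : Submodule R V, IsSimpleModule R U ∧ Module.finrank F U ≤ K ∧
      ∃ W : Submodule R V, Nonempty (W ≃ₗ[R] (Fin m → U)) := by
  classical
  have hN : IsNoetherian R V := isNoetherian_of_tower F inferInstance
  have : Fintype (isotypicComponents R V) := Fintype.ofFinite _
  have hc := card_components (F := F) (R := R) (V := V) hK
  obtain ⟨hind, htop⟩ := internal (R := R) (V := V)
  have hint : DirectSum.IsInternal (fun c : isotypicComponents R V => (c : Submodule R V)) :=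
    DirectSum.isInternal_submodule_of_iSupIndep_of_iSup_eq_top hind htop
  have hint' : DirectSum.IsInternal (fun c : isotypicComponents R V => (c : Submodule R V).restrictScalars F) :=
    hint
  have hsum : Module.finrank F V = ∑ c : isotypicComponents R V, Module.finrank F ↥((c : Submodule R V).restrictScalars F) := by
    rw [← Module.finrank_directSum]
    exact (LinearEquiv.ofBijective (DirectSum.coeLinearMap _) hint').finrank_eq.symm
  obtain ⟨c, hcm⟩ : ∃ c : isotypicComponents R V, K * m < Module.finrank F ↥((c : Submodule R V).restrictScalars F) := by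
    by_contra hcon
    push Not at hcon
    have h1 : Module.finrank F V ≤ ∑ _c : isotypicComponents R V, K * m := by
      rw [hsum]
      exact Finset.sum_le_sum fun c _ => hcon c
    rw [Finset.sum_const, Finset.card_univ, smul_eq_mul] at h1
    have h2 : Fintype.card (isotypicComponents R V) * (K * m) ≤ K * (K * m) := Nat.mul_le_mul_right _ hc
    have h3 : K * (K * m) = K * K * m := by ring
    omega
  obtain ⟨n, -, U, -, hU, ⟨e⟩⟩ := (IsIsotypic.isotypicComponents c.2).submodule_linearEquiv_fun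
  have hUK : Module.finrank F U ≤ K := by
    obtain ⟨u, hu, hu0⟩ := Submodule.exists_mem_ne_zero_of_ne_bot (isSimpleModule_iff_isAtom.1 hU).1
    have h1 : U = span R {u} := by
      refine (((isSimpleModule_iff_isAtom.1 hU).le_iff_eq ?_).1 ?_).symm
      · intro h
        exact hu0 ((Submodule.span_singleton_eq_bot).1 h)
      · rw [Submodule.span_singleton_le_iff_mem]; exact hu
    rw [h1]
    exact finrank_cyclic hK u
  have hnm : m ≤ n := by
    have h1 : Module.finrank F ↥((c : Submodule R V).restrictScalars F) = n * Module.finrank F U := by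
      have h2 : Module.finrank F ↥((c : Submodule R V).restrictScalars F) = Module.finrank F (Fin n → U) :=
        (e.restrictScalars F).finrank_eq
      have hfin : Module.Finite F U := (inferInstance : Module.Finite F ↥(U.restrictScalars F))
      rw [h2, Module.finrank_pi_fintype, Finset.sum_const, Finset.card_univ, Fintype.card_fin, smul_eq_mul]
    rw [h1] at hcm
    by_contra hlt
    have h2 : n * Module.finrank F U ≤ m * K := Nat.mul_le_mul (by omega) hUK
    rw [mul_comm m K] at h2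
    omega
  refine ⟨U, hU, hUK, ?_⟩
  let i : (Fin m → U) →ₗ[R] (Fin n → U) :=
    LinearMap.pi fun k => if h : (k : ℕ) < m then LinearMap.proj (⟨k, h⟩ : Fin m) else 0
  have hi : Function.Injective i := by
    intro x y hxy
    funext k
    have h1 := congrFun hxy (Fin.castLE hnm k)
    simpa [i] using h1
  let j : (Fin m → U) →ₗ[R] V := (c : Submodule R V).subtype ∘ₗ e.symm.toLinearMap ∘ₗ i
  have hj : Function.Injective j :=
    (Submodule.subtype_injective _).comp (e.symm.injective.comp hi)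
  exact ⟨LinearMap.range j, ⟨(LinearEquiv.ofInjective j hj).symm⟩⟩

end Cfsg.Agent.H36.Sims
end

private theorem dce_56f6a2fae8e3 : _root_.True := by
  try have : _root_.True := by simp only [_root_.Cfsg.Agent.H708.RFam.rOm.eq_1]
  exact _root_.True.intro
end

-- part: H851/SimsMain_mg
section
set_option linter.all false
open scoped Cfsg.Agent.FastGrp

-- part: H851/SimsBase
section
/-!
# S3386: basic facts on the almost simple configuration

* `Cfg.normalizer_eq` : `N_G(Y) = A` for `1 ≠ Y ⊴ A`;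
* `Cfg.disj`, `Cfg.cop` : `|E| ≤ c` for `E ≤ A`, `E ∩ Q = 1`;
* `Cfg.inter_ne_bot` : `Q ∩ S ≠ 1` if `A ∩ S ≠ 1`;
* `Cfg.exists_Z` : a normal subgroup `Z ≠ 1` of `A` in `Q ∩ S` with `|Z| ≤ c ^ c`, `C_G(Z) ≤ A`;
* `Cfg.exists_s` : an element `s ∈ S \ A` with `|A : A ∩ sAs⁻¹| ≤ c`;
* `Cfg.bound_of_large` : no such configuration exists if small `r'`-subgroups of `S` centralise big `r`-subgroups.
-/

set_option autoImplicit false
set_option linter.unusedSectionVars false

namespace Cfsg.Agent.H851.Sims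

/-! ### elementary abelian groups with few generators -/

theorem card_closure_le {M : Type*} [CommGroup M] [Finite M] {p : ℕ} (hp : 0 < p) (s : Finset M)
    (hs : ∀ x ∈ s, x ^ p = 1) : Nat.card (Subgroup.closure (s : Set M)) ≤ p ^ s.card := by
  classical
  induction s using Finset.induction_on with
  | empty => simp
  | insert x s hx ih =>
    have ih' := ih fun y hy => hs y (Finset.mem_insert_of_mem hy)
    have h1 : Subgroup.closure ((insert x s : Finset M) : Set M) = Subgroup.zpowers x ⊔ Subgroup.closure (s : Set M) := by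
      rw [Finset.coe_insert, Set.insert_eq, Subgroup.closure_union, Subgroup.zpowers_eq_closure]
    rw [h1, Finset.card_insert_of_notMem hx, pow_succ]
    have h2 : Nat.card (Subgroup.zpowers x ⊔ Subgroup.closure (s : Set M) : Subgroup M) ≤
        Nat.card (Subgroup.zpowers x) * Nat.card (Subgroup.closure (s : Set M)) := by
      have h3 : (Subgroup.closure (s : Set M)).relIndex (Subgroup.zpowers x ⊔ Subgroup.closure (s : Set M)) =
          (Subgroup.closure (s : Set M)).relIndex (Subgroup.zpowers x) := Subgroup.relIndex_sup_right _ _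
      have h4 : (Subgroup.closure (s : Set M)).relIndex (Subgroup.zpowers x) ≤ Nat.card (Subgroup.zpowers x) := by
        unfold Subgroup.relIndex
        exact Nat.le_of_dvd Nat.card_pos (Subgroup.index_dvd_card _)
      have h5 := Subgroup.relIndex_mul_relIndex ⊥ (Subgroup.closure (s : Set M))
        (Subgroup.zpowers x ⊔ Subgroup.closure (s : Set M)) bot_le le_sup_right
      rw [Subgroup.relIndex_bot_left, Subgroup.relIndex_bot_left, h3] at h5
      rw [← h5, mul_comm]
      exact Nat.mul_le_mul_right _ h4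
    refine le_trans h2 ?_
    have h6 : Nat.card (Subgroup.zpowers x) ≤ p := by
      rw [Nat.card_zpowers]
      exact Nat.le_of_dvd hp (orderOf_dvd_of_pow_eq_one (hs x (Finset.mem_insert_self _ _)))
    rw [mul_comm]
    exact Nat.mul_le_mul ih' h6

variable {G : Type*} [Group G] [Finite G] {c p : ℕ} {S A Q : Subgroup G} {g : G}

theorem Cfg.normalizer_eq (h : Cfg c p S A Q g) {Y : Subgroup G} (h1 : Y ≠ ⊥) (h2 : Y ≤ A)
    (h3 : A ≤ Subgroup.normalizer (Y : Set G)) : Subgroup.normalizer (Y : Set G) = A := by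
  have hS := h.norm
  have hs := h.simple
  by_contra hne
  have h4 : Subgroup.normalizer (Y : Set G) = ⊤ := h.coatom.2 _ (lt_of_le_of_ne h3 (Ne.symm hne))
  have hY : Y.Normal := Subgroup.normalizer_eq_top_iff.1 h4
  have h5 : (Y.subgroupOf S).Normal := inferInstance
  rcases h5.eq_bot_or_eq_top with h6 | h6
  · rw [Subgroup.subgroupOf_eq_bot] at h6
    apply h1
    rw [eq_bot_iff, ← h.cent]
    intro y hy
    rw [Subgroup.mem_centralizer_iff]
    intro s hs'
    have h7 : y * s * y⁻¹ * s⁻¹ ∈ Y := by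
      have : y * s * y⁻¹ * s⁻¹ = y * (s * y⁻¹ * s⁻¹) := by group
      rw [this]
      exact mul_mem hy (hY.conj_mem _ (inv_mem hy) _)
    have h8 : y * s * y⁻¹ * s⁻¹ ∈ S := mul_mem (hS.conj_mem _ hs' _) (inv_mem hs')
    have h9 : y * s * y⁻¹ * s⁻¹ = 1 := Subgroup.disjoint_def.1 h6 h7 h8
    have h10 : y * s * y⁻¹ = s := mul_inv_eq_one.1 h9
    exact (mul_inv_eq_iff_eq_mul.1 h10).symm
  · rw [Subgroup.subgroupOf_eq_top] at h6
    exact h.notle (le_trans h6 h2)

theorem Cfg.relIndex_le (h : Cfg c p S A Q g) {E : Subgroup G} (hE : E ≤ A) : Q.relIndex E ≤ c := by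
  refine le_trans (Subgroup.relIndex_le_of_le_right hE ?_) h.Qidx
  exact Subgroup.index_ne_zero_of_finite

theorem Cfg.disj (h : Cfg c p S A Q g) {E : Subgroup G} (hE : E ≤ A) (hQ : E ⊓ Q = ⊥) : Nat.card E ≤ c := by
  refine le_trans (le_of_eq ?_) (h.relIndex_le hE)
  rw [← Subgroup.inf_relIndex_left, hQ, Subgroup.relIndex_bot_left]

theorem Cfg.cop (h : Cfg c p S A Q g) {r : ℕ} (hr : r.Prime) (hrp : r ≠ p) {E : Subgroup G} (hE : E ≤ A)
    (hEp : IsPGroup r E) : Nat.card E ≤ c := by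
  have := Fact.mk hr
  have := Fact.mk h.prime
  apply h.disj hE
  have h1 : IsPGroup r ↥(E ⊓ Q) := hEp.to_le inf_le_left
  have h2 : IsPGroup p ↥(E ⊓ Q) := h.Qp.to_le inf_le_right
  have h3 := IsPGroup.disjoint_of_ne r p hrp _ _ h1 h2
  rwa [disjoint_self] at h3

theorem Cfg.inter_ne_bot (h : Cfg c p S A Q g) (hAS : A ⊓ S ≠ ⊥) : Q ⊓ S ≠ ⊥ := by
  have hS := h.norm
  intro h0
  apply hAS
  have h1 : A ⊓ S ≤ Q := by
    refine le_trans (fun x hx => Subgroup.mem_inf.2 ⟨?_, hx.1⟩) h.Qcent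
    rw [Subgroup.mem_centralizer_iff]
    intro q hq
    have h2 : x * q * x⁻¹ ∈ Q := (Subgroup.mem_normalizer_iff.1 (h.Qnorm hx.1) q).1 hq
    have h3 : x * q * x⁻¹ * q⁻¹ ∈ Q ⊓ S := by
      refine Subgroup.mem_inf.2 ⟨mul_mem h2 (Q.inv_mem hq), ?_⟩
      have h4 : x * q * x⁻¹ * q⁻¹ = x * (q * x⁻¹ * q⁻¹) := by group
      rw [h4]
      exact mul_mem hx.2 (hS.conj_mem _ (inv_mem hx.2) _)
    rw [h0, Subgroup.mem_bot, mul_inv_eq_one] at h3
    exact (mul_inv_eq_iff_eq_mul.1 h3).symm
  rw [eq_bot_iff, ← h0]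
  exact le_inf h1 inf_le_right

/-- A small normal subgroup of `A`. -/
theorem Cfg.exists_Z (h : Cfg c p S A Q g) (hAS : A ⊓ S ≠ ⊥) : ∃ Z : Subgroup G, Z ≠ ⊥ ∧ Z ≤ Q ⊓ S ∧
    A ≤ Subgroup.normalizer (Z : Set G) ∧ Nat.card Z ≤ c ^ c ∧ Subgroup.centralizer (Z : Set G) ≤ A := by
  classical
  have hS := h.norm
  have := Fact.mk h.prime
  have h0 := h.inter_ne_bot hAS
  -- a central element of order p of `Q` in `S`
  let N : Subgroup ↥Q := S.subgroupOf Q
  have hN : N.Normal := inferInstance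
  have hN1 : N ≠ ⊥ := by
    intro h1
    rw [Subgroup.subgroupOf_eq_bot] at h1
    apply h0
    rw [inf_comm]
    exact disjoint_iff.1 h1
  obtain ⟨w, hwN, hwc, hwo⟩ := Cfsg.Agent.Transfer.PGroupNormal.exists_mem_inf_center_orderOf h.Qp N hN1
  have hw1 : w ≠ 1 := by
    rintro rfl
    rw [orderOf_one] at hwo
    exact h.prime.one_lt.ne hwo
  have hw : w ∈ N ⊓ Subgroup.center ↥Q := ⟨hwN, hwc⟩
  have hwp : w ^ p = 1 := by rw [← hwo, pow_orderOf_eq_one]
  -- the conjugates
  let C : Subgroup G := (Subgroup.center ↥Q).map Q.subtype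
  have hwC : (w : G) ∈ C := ⟨w, hw.2, rfl⟩
  have hwS : (w : G) ∈ S := hw.1
  have hCmem : ∀ {x : G}, x ∈ C ↔ x ∈ Q ∧ ∀ q ∈ Q, q * x = x * q := by
    intro x
    constructor
    · rintro ⟨y, hy, rfl⟩
      exact ⟨y.2, fun q hq => congrArg Subtype.val (Subgroup.mem_center_iff.1 hy ⟨q, hq⟩)⟩
    · rintro ⟨h1, h2⟩
      exact ⟨⟨x, h1⟩, Subgroup.mem_center_iff.2 fun q => Subtype.ext (h2 q q.2), rfl⟩
  have hCA : ∀ a ∈ A, ∀ x ∈ C, a * x * a⁻¹ ∈ C := by
    intro a ha x hx
    rw [hCmem] at hx ⊢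
    have h1 := fun q => Subgroup.mem_normalizer_iff.1 (h.Qnorm ha) q
    refine ⟨(h1 x).1 hx.1, fun q hq => ?_⟩
    have h2 : a⁻¹ * q * a ∈ Q := by
      rw [h1]
      convert hq using 1
      group
    have h3 := hx.2 _ h2
    calc q * (a * x * a⁻¹) = a * (a⁻¹ * q * a * x) * a⁻¹ := by group
      _ = a * (x * (a⁻¹ * q * a)) * a⁻¹ := by rw [h3]
      _ = _ := by group
  have hCcomm : ∀ x y : ↥C, x * y = y * x := by
    intro x y
    apply Subtype.ext
    exact (hCmem.1 y.2).2 x (hCmem.1 x.2).1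
  let _ : CommGroup ↥C := { (inferInstance : Group ↥C) with mul_comm := hCcomm }
  have hfin : Finite ↥A := inferInstance
  let f : ↥A → ↥C := fun a => ⟨a * w * (a : G)⁻¹, hCA a a.2 w hwC⟩
  let O : Finset ↥C := (Set.toFinite (Set.range f)).toFinset
  have hO : ∀ x, x ∈ O ↔ ∃ a : ↥A, f a = x := by
    intro x
    simp only [O, Set.Finite.mem_toFinset, Set.mem_range]
  have hOcard : O.card ≤ c := by
    have h1 : O.card = Nat.card (Set.range f) := by
      rw [← Set.ncard_coe_finset]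
      have : (O : Set ↥C) = Set.range f := by
        ext x
        exact hO x
      rw [this]
      rfl
    rw [h1]
    have h2 : Nat.card (Set.range f) ≤ Nat.card (↥A ⧸ Q.subgroupOf A) := by
      have hwd : ∀ a b : ↥A, (QuotientGroup.leftRel (Q.subgroupOf A)) a b → f a = f b := by
        intro a b hab
        rw [QuotientGroup.leftRel_apply] at hab
        have hab' : (a : G)⁻¹ * b ∈ Q := hab
        apply Subtype.ext
        show (a : G) * w * (a : G)⁻¹ = b * w * (b : G)⁻¹
        have h3 := (hCmem.1 hwC).2 _ hab'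
        calc (a : G) * w * (a : G)⁻¹ = a * (w * ((a : G)⁻¹ * b)) * (b : G)⁻¹ := by group
          _ = a * ((a : G)⁻¹ * b * w) * (b : G)⁻¹ := by rw [h3]
          _ = _ := by group
      let F : (↥A ⧸ Q.subgroupOf A) → Set.range f := Quotient.lift (fun a => (⟨f a, a, rfl⟩ : Set.range f))
        fun a b hab => Subtype.ext (hwd a b hab)
      refine Nat.card_le_card_of_surjective F ?_
      rintro ⟨_, a, rfl⟩
      exact ⟨Quotient.mk'' a, rfl⟩
    exact le_trans h2 h.Qidx
  have hOp : ∀ x ∈ O, x ^ p = 1 := by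
    intro x hx
    obtain ⟨a, rfl⟩ := (hO x).1 hx
    apply Subtype.ext
    show ((a : G) * w * (a : G)⁻¹) ^ p = 1
    rw [conj_pow]
    have : (w : G) ^ p = 1 := by
      have := congrArg Subtype.val hwp
      simpa only [_root_.SubmonoidClass.coe_pow, _root_.OneMemClass.coe_one] using this
    rw [this, mul_one, mul_inv_cancel]
  have hcard := card_closure_le (M := ↥C) h.prime.pos O hOp
  let Z : Subgroup G := (Subgroup.closure (O : Set ↥C)).map C.subtype
  have hwZ : (w : G) ∈ Z := by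
    refine ⟨f 1, Subgroup.subset_closure ((hO _).2 ⟨1, rfl⟩), ?_⟩
    show ((1 : ↥A) : G) * w * ((1 : ↥A) : G)⁻¹ = w
    simp
  have hZle : Z ≤ Q ⊓ S := by
    rw [Subgroup.map_le_iff_le_comap, Subgroup.closure_le]
    intro x hx
    obtain ⟨a, rfl⟩ := (hO x).1 hx
    refine ⟨(hCmem.1 (f a).2).1, ?_⟩
    exact hS.conj_mem _ hwS _
  have hZA : A ≤ Subgroup.normalizer (Z : Set G) := by
    have key : ∀ a ∈ A, ∀ x ∈ Z, a * x * a⁻¹ ∈ Z := by
      intro a ha
      have h1 : Z = Subgroup.closure (C.subtype '' (O : Set ↥C)) := MonoidHom.map_closure _ _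
      have h2 : Z ≤ Z.comap (MulAut.conj a).toMonoidHom := by
        conv_lhs => rw [h1]
        rw [Subgroup.closure_le]
        rintro _ ⟨x, hx, rfl⟩
        obtain ⟨b, rfl⟩ := (hO x).1 hx
        show a * ((b : G) * w * (b : G)⁻¹) * a⁻¹ ∈ Z
        rw [h1]
        apply Subgroup.subset_closure
        refine ⟨f (⟨a, ha⟩ * b), (hO _).2 ⟨_, rfl⟩, ?_⟩
        show (a * (b : G)) * w * (a * (b : G))⁻¹ = _
        group
      intro x hx
      exact h2 hx
    intro a ha
    rw [Subgroup.mem_normalizer_iff]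
    intro x
    refine ⟨key a ha x, fun hx => ?_⟩
    have := key a⁻¹ (inv_mem ha) _ hx
    convert this using 1
    group
  have hZ1 : Z ≠ ⊥ := by
    intro h1
    rw [h1, Subgroup.mem_bot] at hwZ
    exact hw1 (Subtype.ext hwZ)
  refine ⟨Z, hZ1, hZle, hZA, ?_, ?_⟩
  · have h1 : Nat.card Z = Nat.card (Subgroup.closure (O : Set ↥C)) :=
      (Nat.card_congr ((Subgroup.closure (O : Set ↥C)).equivMapOfInjective _ C.subtype_injective).toEquiv).symm
    rw [h1]
    refine le_trans hcard ?_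
    have h2 : 1 ≤ p := h.prime.one_le
    exact le_trans (Nat.pow_le_pow_left h.ple _) (Nat.pow_le_pow_right (le_trans h2 h.ple) hOcard)
  · have h1 := h.normalizer_eq hZ1 (le_trans hZle (le_trans inf_le_left h.Qle)) hZA
    rw [← h1]
    exact Subgroup.centralizer_le_normalizer _

theorem Cfg.sup_eq_top (h : Cfg c p S A Q g) : S ⊔ A = ⊤ := by
  refine h.coatom.2 _ (lt_of_le_of_ne le_sup_right fun h1 => h.notle ?_)
  rw [h1]
  exact le_sup_left

/-- A representative in `S` of the short suborbit. -/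
theorem Cfg.exists_s (h : Cfg c p S A Q g) : ∃ s ∈ S, s ∉ A ∧ (cjS s A).relIndex A ≤ c := by
  have hS := h.norm
  have h1 : g ∈ S ⊔ A := by rw [h.sup_eq_top]; trivial
  obtain ⟨s, hs, a, ha, rfl⟩ := Subgroup.mem_sup_of_normal_left.1 h1
  refine ⟨s, hs, fun h2 => h.notmem (mul_mem h2 ha), ?_⟩
  have h2 : cjS (s * a) A = cjS s A := by
    ext x
    simp only [cjS, Subgroup.mem_map, MulEquiv.coe_toMonoidHom, MulAut.conj_apply]
    constructor
    · rintro ⟨y, hy, rfl⟩
      exact ⟨a * y * a⁻¹, mul_mem (mul_mem ha hy) (inv_mem ha), by group⟩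
    · rintro ⟨y, hy, rfl⟩
      exact ⟨a⁻¹ * y * a, mul_mem (mul_mem (inv_mem ha) hy) ha, by group⟩
  have h3 := h.idx
  rwa [h2] at h3

/-- `r`-subgroups of `S` centralising the small subgroup `Z` are small. -/
theorem Cfg.bound_of_large (h : Cfg c p S A Q g) (hAS : A ⊓ S ≠ ⊥) (K : ℕ) (hK : c ^ c ≤ K)
    (hl : ∀ Z : Subgroup ↥S, Nat.card Z ≤ K → IsPGroup p Z → ∃ (r : ℕ) (E : Subgroup ↥S), r.Prime ∧ r ≠ p ∧
      E ≤ Subgroup.centralizer (Z : Set ↥S) ∧ IsPGroup r E ∧ c < Nat.card E) : False := by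
  obtain ⟨Z, h1, h2, h3, h4, h5⟩ := h.exists_Z hAS
  have hZS : Z ≤ S := le_trans h2 inf_le_right
  have hZQ : Z ≤ Q := le_trans h2 inf_le_left
  obtain ⟨r, E, hr, hrp, hE, hEp, hEc⟩ := hl (Z.subgroupOf S) (by
      rw [Nat.card_congr (Subgroup.subgroupOfEquivOfLe hZS).toEquiv]
      exact le_trans h4 hK)
    ((h.Qp.to_le hZQ).of_equiv (Subgroup.subgroupOfEquivOfLe hZS).symm)
  have h6 : E.map S.subtype ≤ A := by
    refine le_trans ?_ h5
    rintro _ ⟨e, he, rfl⟩
    rw [Subgroup.mem_centralizer_iff]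
    intro z hz
    have := Subgroup.mem_centralizer_iff.1 (hE he) ⟨z, hZS hz⟩ (Subgroup.mem_subgroupOf.2 hz)
    exact congrArg Subtype.val this
  have h7 : IsPGroup r ↥(E.map S.subtype) := hEp.map _
  have h8 := h.cop hr hrp h6 h7
  rw [← Nat.card_congr (E.equivMapOfInjective _ S.subtype_injective).toEquiv] at h8
  omega

end Cfsg.Agent.H851.Sims
end

-- part: H851/SimsFilt
section
/-!
# S3386: defining characteristic, the bound on `|S|`
-/

set_option autoImplicit false
set_option linter.unusedSectionVars false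

namespace Cfsg.Agent.H851.Sims

open Cfsg.Agent.Nodes.Reps Cfsg.Agent.Nodes.BNOf Cfsg.Agent.Nodes.Bruhat Cfsg.Agent.Nodes.LeviDec
  Cfsg.Agent.KFacts.RgdAut Cfsg.Agent.KFacts.RgdDiag Cfsg.Agent.KFacts.RgdCharP

universe u

section

variable {G : Type*} [Group G] [Finite G]

/-- `N(D)` normalises `O_p(D)`. -/
theorem normalizer_pCore_le (p : ℕ) [Fact p.Prime] (D : Subgroup G) :
    Subgroup.normalizer (D : Set G) ≤ Subgroup.normalizer (((pCore p D).map D.subtype : Subgroup G) : Set G) := by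
  set O : Subgroup G := (pCore p D).map D.subtype with hO
  have hOD : O ≤ D := Subgroup.map_subtype_le _
  have hOp : IsPGroup p O := (Lib.Cores.pCore_isPGroup p).map _
  have hDO : D ≤ Subgroup.normalizer (O : Set G) := Lib.LocalCore.le_normalizer_map_pCore p D
  have key : ∀ a ∈ Subgroup.normalizer (D : Set G), ∀ x ∈ O, a * x * a⁻¹ ∈ O := by
    intro a ha x hx
    have hD : ∀ y, a * y * a⁻¹ ∈ D ↔ y ∈ D := fun y => (Subgroup.mem_normalizer_iff.1 ha y).symm
    have h1 : cjS a O ≤ D := by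
      rintro _ ⟨y, hy, rfl⟩
      exact (hD y).2 (hOD hy)
    have h2 : IsPGroup p (cjS a O) := hOp.map _
    have h3 : D ≤ Subgroup.normalizer ((cjS a O : Subgroup G) : Set G) := by
      intro d hd
      have hd' : a⁻¹ * d * a ∈ D := by
        rw [← hD]
        convert hd using 1
        group
      have h4 := Subgroup.mem_normalizer_iff.1 (hDO hd')
      rw [Subgroup.mem_normalizer_iff]
      intro y
      have h5 : ∀ z, z ∈ cjS a O ↔ a⁻¹ * z * a ∈ O := by
        intro z
        constructor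
        · rintro ⟨w, hw, rfl⟩
          have : a⁻¹ * (MulAut.conj a).toMonoidHom w * a = w := by
            show a⁻¹ * (a * w * a⁻¹) * a = w
            group
          rwa [this]
        · intro hz
          exact ⟨_, hz, by show a * (a⁻¹ * z * a) * a⁻¹ = z; group⟩
      rw [h5, h5, h4]
      have : a⁻¹ * d * a * (a⁻¹ * y * a) * (a⁻¹ * d * a)⁻¹ = a⁻¹ * (d * y * d⁻¹) * a := by group
      rw [this]
    exact Lib.LocalCore.le_map_pCore h1 h2 h3 ⟨x, hx, rfl⟩
  intro a ha
  rw [Subgroup.mem_normalizer_iff]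
  intro x
  refine ⟨key a ha x, fun hx => ?_⟩
  have := key a⁻¹ (inv_mem ha) _ hx
  convert this using 1
  group

variable {c p : ℕ} {S A Q : Subgroup G} {g : G}

theorem Cfg.le_norm_inter (h : Cfg c p S A Q g) : A ≤ Subgroup.normalizer ((A ⊓ S : Subgroup G) : Set G) := by
  have hS := h.norm
  intro a ha
  rw [Subgroup.mem_normalizer_iff]
  intro x
  rw [Subgroup.mem_inf, Subgroup.mem_inf]
  have h1 := Subgroup.mem_normalizer_iff.1 (Subgroup.le_normalizer ha) x
  have h2 : x ∈ S ↔ a * x * a⁻¹ ∈ S := by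
    refine ⟨fun h3 => hS.conj_mem _ h3 _, fun h3 => ?_⟩
    have := hS.conj_mem _ h3 a⁻¹
    convert this using 1
    group
  rw [h1, h2]

theorem Cfg.le_norm_QS (h : Cfg c p S A Q g) : A ≤ Subgroup.normalizer ((Q ⊓ S : Subgroup G) : Set G) := by
  have hS := h.norm
  intro a ha
  rw [Subgroup.mem_normalizer_iff]
  intro x
  rw [Subgroup.mem_inf, Subgroup.mem_inf]
  have h1 := Subgroup.mem_normalizer_iff.1 (h.Qnorm ha) x
  have h2 : x ∈ S ↔ a * x * a⁻¹ ∈ S := by
    refine ⟨fun h3 => hS.conj_mem _ h3 _, fun h3 => ?_⟩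
    have := hS.conj_mem _ h3 a⁻¹
    convert this using 1
    group
  rw [h1, h2]

/-- Normal `p`-subgroups of `A ∩ S` lie in `Q ∩ S`. -/
theorem Cfg.le_QS (h : Cfg c p S A Q g) {N : Subgroup G} (hN : N ≤ A ⊓ S) (hp : IsPGroup p N)
    (hn : A ⊓ S ≤ Subgroup.normalizer (N : Set G)) : N ≤ Q ⊓ S := by
  have := Fact.mk h.prime
  refine le_inf ?_ (le_trans hN inf_le_right)
  refine le_trans (Lib.LocalCore.le_map_pCore hN hp hn) ?_
  refine h.Qmax _ (le_trans (Subgroup.map_subtype_le _) inf_le_left)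
    (le_trans h.le_norm_inter (normalizer_pCore_le p _)) ((Lib.Cores.pCore_isPGroup p).map _)

end

theorem filt_bound (c : ℕ) : ∃ F : ℕ, ∀ {G : Type u} [Group G] [Finite G] (p : ℕ) (S A Q : Subgroup G) (g : G),
    Cfg c p S A Q g → A ⊓ S ≠ ⊥ → KFacts.RgdFilt.HasFilt p S → Nat.card S ≤ F := by
  obtain ⟨F, hF⟩ := SimsCount.exists_bound.{u} (4 * c + 2) c
  refine ⟨F, ?_⟩
  intro G _ _ p S A Q g h hAS hfilt
  have hSn := h.norm
  have hSs := h.simple
  have := Fact.mk h.prime
  have hnonab : ∃ a b : ↥S, a * b ≠ b * a := by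
    obtain ⟨a, ha, b, hb, hab⟩ := h.nonab
    exact ⟨⟨a, ha⟩, ⟨b, hb⟩, fun h1 => hab (congrArg Subtype.val h1)⟩
  obtain ⟨l, M, A', hA', T, n, X, R, hW, hBT, hGG, hNC, hconn, hSup, hl⟩ := hfilt.data hnonab
  -- the point stabiliser in `S`
  set! R₀ : Subgroup ↥S := (Q ⊓ S).subgroupOf S with hR₀
  set! M₀ : Subgroup ↥S := (A ⊓ S).subgroupOf S with hM₀
  have hQS := h.inter_ne_bot hAS
  have hR₀1 : R₀ ≠ ⊥ := by
    intro h1
    rw [hR₀, Subgroup.subgroupOf_eq_bot] at h1
    exact hQS (by rw [← disjoint_self]; exact h1.mono_right inf_le_right)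
  have hR₀p : IsPGroup p R₀ :=
    (h.Qp.to_le inf_le_left).of_equiv (Subgroup.subgroupOfEquivOfLe (inf_le_right : Q ⊓ S ≤ S)).symm
  have hNQS : Subgroup.normalizer ((Q ⊓ S : Subgroup G) : Set G) = A :=
    h.normalizer_eq hQS (le_trans inf_le_left h.Qle) h.le_norm_QS
  have hnorm : Subgroup.normalizer (R₀ : Set ↥S) = M₀ := by
    ext y
    rw [Subgroup.mem_subgroupOf, Subgroup.mem_inf, ← hNQS, Subgroup.mem_normalizer_iff, Subgroup.mem_normalizer_iff]
    constructor
    · intro h1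
      refine ⟨fun x => ?_, y.2⟩
      constructor
      · intro hx
        exact (h1 ⟨x, hx.2⟩).1 hx
      · intro hx
        have hxS : x ∈ S := by
          have := hSn.conj_mem _ hx.2 (y : G)⁻¹
          convert this using 1
          group
        exact (h1 ⟨x, hxS⟩).2 hx
    · rintro ⟨h1, -⟩ x
      exact h1 x
  have hmaxp : ∀ N : Subgroup ↥S, N ≤ Subgroup.normalizer (R₀ : Set ↥S) →
      Subgroup.normalizer (R₀ : Set ↥S) ≤ Subgroup.normalizer (N : Set ↥S) → IsPGroup p N → N ≤ R₀ := by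
    intro N hN hNn hNp
    rw [hnorm] at hN hNn
    have h1 : N.map S.subtype ≤ Q ⊓ S := by
      apply h.le_QS
      · rintro _ ⟨y, hy, rfl⟩
        exact hN hy
      · exact hNp.map _
      · intro m hm
        have h2 := Subgroup.mem_normalizer_iff.1 (hNn (show (⟨m, hm.2⟩ : ↥S) ∈ M₀ from hm))
        rw [Subgroup.mem_normalizer_iff]
        intro x
        constructor
        · rintro ⟨y, hy, rfl⟩
          exact ⟨_, (h2 y).1 hy, rfl⟩
        · rintro ⟨y, hy, e⟩
          have hxS : x ∈ S := by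
            have h3 : m⁻¹ * (y : G) * m⁻¹⁻¹ ∈ S := hSn.conj_mem _ y.2 _
            have h4 : x = m⁻¹ * (y : G) * m⁻¹⁻¹ := by
              have e' : (y : G) = m * x * m⁻¹ := e
              rw [e']; group
            rwa [h4]
          refine ⟨⟨x, hxS⟩, (h2 _).2 ?_, rfl⟩
          have h5 : (⟨m, hm.2⟩ : ↥S) * ⟨x, hxS⟩ * (⟨m, hm.2⟩ : ↥S)⁻¹ = y := Subtype.ext e.symm
          rw [h5]
          exact hy
    intro y hy
    exact h1 ⟨y, hy, rfl⟩
  obtain ⟨y₀, J, hJ, hRV, hMP⟩ := SimsRgd.exists_par R hBT hR₀1 hR₀p hmaxp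
  -- change the datum
  have hMeq : M₀ = cj y₀ (PJ M.toCoxeterSystem hA' T X J) := by
    apply le_antisymm
    · rw [← hnorm]; exact hMP
    · rw [← hnorm, hRV, Nodes.NormX.normalizer_cj]
      exact cj_mono y₀ (PJ_le_normalizer_VJ R J)
  have R' := SimsRgd.rgd_cj R y₀
  rw [SimsRgd.cj_PJ'] at hMeq
  rw [SimsRgd.cj_VJ'] at hRV
  have hGG' : GG M.toCoxeterSystem hA' (cj y₀ T) (fun x => cj y₀ (X x)) = ⊤ := by
    rw [← SimsRgd.cj_GG', hGG, eq_top_iff]
    intro y _
    rw [mem_cj]
    trivial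
  generalize cj y₀ T = T' at *
  generalize (fun x => cj y₀ (X x)) = X' at *
  generalize (fun i => y₀ * n i * y₀⁻¹) = n' at *
  obtain ⟨J', hJ'⟩ : ∃ J' : Finset (Fin l), (J' : Set (Fin l)) = J := ⟨(Set.toFinite J).toFinset, by simp⟩
  subst hJ'
  -- the group of automorphisms
  let φ : G →* MulAut ↥S := MulAut.conjNormal
  have hφ : ∀ (x : G) (y : ↥S), ((φ x y : ↥S) : G) = x * y * x⁻¹ := fun x y => MulAut.conjNormal_apply x y
  have hφS : ∀ y : ↥S, φ y = MulAut.conj y := by
    intro y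
    ext z
    rw [hφ]
    rfl
  have hAM : ∀ a : G, a ∈ A ↔ _root_.Cfsg.Agent.KFacts.RgdAut.Fix (φ a) M₀ := by
    have h1 : Subgroup.normalizer ((A ⊓ S : Subgroup G) : Set G) = A := h.normalizer_eq hAS inf_le_left h.le_norm_inter
    intro a
    conv_lhs => rw [← h1]
    rw [Subgroup.mem_normalizer_iff]
    constructor
    · intro h2 x
      rw [Subgroup.mem_subgroupOf, Subgroup.mem_subgroupOf, hφ]
      exact (h2 x).symm
    · intro h2 x
      constructor
      · intro hx
        have := (h2 ⟨x, hx.2⟩).2 hx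
        rwa [Subgroup.mem_subgroupOf, hφ] at this
      · intro hx
        have hxS : x ∈ S := by
          have := hSn.conj_mem _ hx.2 a⁻¹
          convert this using 1
          group
        have := (h2 ⟨x, hxS⟩).1 (by rw [Subgroup.mem_subgroupOf, hφ]; exact hx)
        exact this
  have hprod : ∀ β ∈ φ.range, ∃ y : ↥S, _root_.Cfsg.Agent.KFacts.RgdAut.Fix (MulAut.conj y * β) M₀ := by
    rintro _ ⟨x, rfl⟩
    have h1 : x⁻¹ ∈ S ⊔ A := by rw [h.sup_eq_top]; trivial
    obtain ⟨s, hs, a, ha, e⟩ := Subgroup.mem_sup_of_normal_left.1 h1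
    -- x = a⁻¹ s⁻¹ = (a⁻¹ s⁻¹ a) a⁻¹
    refine ⟨⟨a⁻¹ * s * a, ?_⟩, ?_⟩
    · have := hSn.conj_mem _ hs a⁻¹
      rwa [inv_inv] at this
    · rw [← hφS, ← map_mul, ← hAM]
      show a⁻¹ * s * a * x ∈ A
      have h2 : x = a⁻¹ * s⁻¹ := by
        rw [← inv_inv x, ← e]; group
      rw [h2]
      have : a⁻¹ * s * a * (a⁻¹ * s⁻¹) = a⁻¹ := by group
      rw [this]
      exact inv_mem ha
  have hmax : ∀ P : Subgroup ↥S, M₀ ≤ P → P ≠ ⊤ → (∀ α ∈ φ.range, _root_.Cfsg.Agent.KFacts.RgdAut.Fix α M₀ → _root_.Cfsg.Agent.KFacts.RgdAut.Fix α P) → P = M₀ := by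
    intro P hMP' hP hfix
    have hM1 : M₀ ≠ ⊥ := by
      intro h1
      rw [hM₀, Subgroup.subgroupOf_eq_bot] at h1
      exact hAS (by rw [← disjoint_self]; exact h1.mono_right inf_le_right)
    have hP1 : P ≠ ⊥ := fun h1 => hM1 (eq_bot_iff.2 (h1 ▸ hMP'))
    have hAP : A ≤ Subgroup.normalizer ((P.map S.subtype : Subgroup G) : Set G) := by
      intro a ha
      have h1 := hfix (φ a) ⟨a, rfl⟩ ((hAM a).1 ha)
      rw [Subgroup.mem_normalizer_iff]
      intro x
      constructor
      · rintro ⟨y, hy, rfl⟩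
        exact ⟨φ a y, (h1 y).2 hy, hφ a y⟩
      · rintro ⟨y, hy, e⟩
        refine ⟨(φ a).symm y, ?_, ?_⟩
        · rw [SetLike.mem_coe, ← h1]
          rw [MulEquiv.apply_symm_apply]
          exact hy
        · have h2 := hφ a ((φ a).symm y)
          rw [MulEquiv.apply_symm_apply] at h2
          have e' : (y : G) = a * x * a⁻¹ := e
          rw [e'] at h2
          exact (mul_left_cancel (mul_right_cancel h2)).symm
    have hN : Subgroup.normalizer ((P.map S.subtype : Subgroup G) : Set G) = A := by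
      rcases h.coatom.le_iff.1 hAP with h1 | h1
      · exfalso
        have h2 : (P.map S.subtype).Normal := Subgroup.normalizer_eq_top_iff.1 h1
        have h3 : P.Normal := by
          refine ⟨fun y hy z => ?_⟩
          obtain ⟨w, hw, e⟩ := h2.conj_mem (y : G) ⟨y, hy, rfl⟩ (z : G)
          have : w = z * y * z⁻¹ := Subtype.ext e
          rwa [← this]
        rcases h3.eq_bot_or_eq_top with h4 | h4
        · exact hP1 h4
        · exact hP h4
      · exact h1
    apply le_antisymm _ hMP'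
    intro y hy
    refine ⟨?_, y.2⟩
    rw [← hN]
    exact Subgroup.le_normalizer ⟨y, hy, rfl⟩
  -- indices
  have hidx : R₀.relIndex M₀ ≤ c := by
    have h1 : R₀.relIndex M₀ = (Q ⊓ S).relIndex (A ⊓ S) := by
      rw [hR₀, hM₀, Subgroup.relIndex_subgroupOf inf_le_right]
    rw [h1]
    have h2 : (Q ⊓ S).relIndex (A ⊓ S) = Q.relIndex (A ⊓ S) := by
      rw [← Subgroup.inf_relIndex_right (Q ⊓ S), ← Subgroup.inf_relIndex_right Q]
      congr 1
      exact le_antisymm (inf_le_inf_right _ inf_le_left)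
        (le_inf (le_inf inf_le_left (le_trans inf_le_right inf_le_right)) inf_le_right)
    rw [h2]
    exact h.relIndex_le inf_le_left
  have hs : ∃ s : ↥S, s ∉ M₀ ∧ (cj s M₀).relIndex M₀ ≤ c := by
    obtain ⟨s, hsS, hsA, hsc⟩ := h.exists_s
    refine ⟨⟨s, hsS⟩, fun h1 => hsA h1.1, ?_⟩
    have h1 : (cj (⟨s, hsS⟩ : ↥S) M₀) = ((cjS s A) ⊓ S).subgroupOf S := by
      ext y
      rw [mem_cj, Subgroup.mem_subgroupOf, Subgroup.mem_subgroupOf, Subgroup.mem_inf, Subgroup.mem_inf]
      constructor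
      · rintro ⟨h2, -⟩
        refine ⟨⟨_, h2, ?_⟩, y.2⟩
        show s * (s⁻¹ * (y : G) * s) * s⁻¹ = y
        group
      · rintro ⟨⟨a, ha, e⟩, -⟩
        refine ⟨?_, (((⟨s, hsS⟩ : ↥S)⁻¹ * y * ⟨s, hsS⟩ : ↥S)).2⟩
        show s⁻¹ * (y : G) * s ∈ A
        have e' : (y : G) = s * a * s⁻¹ := e.symm
        rw [e']
        have : s⁻¹ * (s * a * s⁻¹) * s = a := by group
        rwa [this]
    rw [h1, hM₀, Subgroup.relIndex_subgroupOf inf_le_right]
    have h2 : (cjS s A ⊓ S).relIndex (A ⊓ S) = (cjS s A).relIndex (A ⊓ S) := by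
      rw [← Subgroup.inf_relIndex_right (cjS s A ⊓ S), ← Subgroup.inf_relIndex_right (cjS s A)]
      congr 1
      exact le_antisymm (inf_le_inf_right _ inf_le_left)
        (le_inf (le_inf inf_le_left (le_trans inf_le_right inf_le_right)) inf_le_right)
    rw [h2]
    exact le_trans (Subgroup.relIndex_le_of_le_right inf_le_left Subgroup.index_ne_zero_of_finite) hsc
  rw [hMeq] at hprod hmax hidx hs
  rw [hRV] at hidx
  obtain ⟨h1, h2, h3⟩ := SimsRgd.rank_le R' hGG' hconn hJ φ.range (fun y => ⟨y, hφS y⟩) hprod hmax hs hidx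
  rw [Fintype.card_fin] at h1
  exact hF l h1 M A' hA' p T' n' X' R' hW hGG' h2 h3

end Cfsg.Agent.H851.Sims
end

-- part: H717/SimsAlt
section
/-!
# Large `r`-subgroups in centralizers of small subgroups of `A_n` (helper717, for S3386)
-/

set_option autoImplicit false

namespace Cfsg.Agent.H717.Sims

/-- A subgroup of bounded order of a permutation group of large degree has many orbits with the same stabilizer. -/
theorem exists_reps (K L : ℕ) [NeZero L] (n : ℕ) (hn : 2 ^ K * (K * L) < n) (Z : Subgroup (Equiv.Perm (Fin n)))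
    (hZ : Nat.card Z ≤ K) :
    ∃ (H : Subgroup Z) (x : ZMod L → Fin n), (∀ i, MulAction.stabilizer Z (x i) = H) ∧
      ∀ i j, (∃ z : Z, z • x i = x j) → i = j := by
  classical
  have : Fintype Z := Fintype.ofFinite _
  have : Fintype (Subgroup Z) := Fintype.ofFinite _
  have hc : Fintype.card (Subgroup Z) ≤ 2 ^ K := by
    calc Fintype.card (Subgroup Z) ≤ Fintype.card (Set Z) :=
          Fintype.card_le_of_injective (fun H : Subgroup Z => (H : Set Z)) SetLike.coe_injective
      _ = 2 ^ Fintype.card Z := Fintype.card_set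
      _ ≤ 2 ^ K := Nat.pow_le_pow_right (by norm_num) (by rwa [← Nat.card_eq_fintype_card])
  obtain ⟨H, hH⟩ := Fintype.exists_lt_card_fiber_of_mul_lt_card (fun x : Fin n => MulAction.stabilizer Z x)
    (n := K * L) (by
      rw [Fintype.card_fin]
      exact lt_of_le_of_lt (Nat.mul_le_mul_right _ hc) hn)
  set F : Finset (Fin n) := Finset.univ.filter fun x => MulAction.stabilizer Z x = H with hF
  let q : Fin n → MulAction.orbitRel.Quotient Z (Fin n) := fun x => Quotient.mk _ x
  have hq : ∀ x y, q x = q y ↔ ∃ z : Z, z • y = x := by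
    intro x y
    constructor
    · intro h
      obtain ⟨z, hz⟩ := MulAction.orbitRel_apply.1 (Quotient.exact h)
      exact ⟨z, hz⟩
    · rintro ⟨z, hz⟩
      apply Quotient.sound
      change (MulAction.orbitRel Z (Fin n)) x y
      rw [MulAction.orbitRel_apply]
      exact ⟨z, hz⟩
  have hfib : F.card ≤ K * (F.image q).card := by
    apply Finset.card_le_mul_card_image
    intro a ha
    obtain ⟨x0, hx0, rfl⟩ := Finset.mem_image.1 ha
    calc (F.filter fun x => q x = q x0).card ≤ (Finset.univ.image fun z : Z => z • x0).card := by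
          apply Finset.card_le_card
          intro x hx
          obtain ⟨z, hz⟩ := (hq x x0).1 (Finset.mem_filter.1 hx).2
          exact Finset.mem_image.2 ⟨z, Finset.mem_univ _, hz⟩
      _ ≤ Fintype.card Z := Finset.card_image_le
      _ ≤ K := by rwa [← Nat.card_eq_fintype_card]
  have hL : L ≤ (F.image q).card := by
    have h1 : K * L < K * (F.image q).card := lt_of_lt_of_le hH hfib
    exact le_of_lt (Nat.lt_of_mul_lt_mul_left h1)
  have hcardL : Fintype.card (ZMod L) ≤ Fintype.card (F.image q) := by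
    rw [ZMod.card, Fintype.card_coe]; exact hL
  obtain ⟨e⟩ := Function.Embedding.nonempty_of_card_le hcardL
  have hex : ∀ i : ZMod L, ∃ x : Fin n, x ∈ F ∧ q x = (e i).1 := fun i => Finset.mem_image.1 (e i).2
  choose x hx hx' using hex
  refine ⟨H, x, fun i => (Finset.mem_filter.1 (hx i)).2, ?_⟩
  intro i j hij
  have : q (x j) = q (x i) := (hq _ _).2 hij
  rw [hx', hx'] at this
  exact (e.injective (Subtype.ext this)).symm

/-- A subgroup of bounded order of `S_n`, `n` large, is centralized by a permutation of given order `L`. -/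
theorem exists_perm (K L : ℕ) [NeZero L] (n : ℕ) (hn : 2 ^ K * (K * L) < n) (Z : Subgroup (Equiv.Perm (Fin n)))
    (hZ : Nat.card Z ≤ K) : ∃ π : Equiv.Perm (Fin n), orderOf π = L ∧ ∀ z ∈ Z, z * π = π * z := by
  classical
  obtain ⟨H, x, hH, hx⟩ := exists_reps K L n hn Z hZ
  -- the embedding
  have hstab : ∀ i (z w : Z), z • x i = w • x i ↔ (QuotientGroup.mk z : Z ⧸ H) = QuotientGroup.mk w := by
    intro i z w
    rw [QuotientGroup.eq, ← hH i, MulAction.mem_stabilizer_iff, mul_smul, inv_smul_eq_iff, eq_comm]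
  let f : (Z ⧸ H) × ZMod L → Fin n := fun w =>
    Quotient.liftOn' w.1 (fun z => z • x w.2) (fun a b hab => by
      have : (QuotientGroup.mk a : Z ⧸ H) = QuotientGroup.mk b := Quotient.sound' hab
      exact (hstab w.2 a b).2 this)
  have hf : ∀ (z : Z) (i : ZMod L), f (QuotientGroup.mk z, i) = z • x i := fun z i => rfl
  have hinj : Function.Injective f := by
    rintro ⟨a, i⟩ ⟨b, j⟩ h
    induction a using QuotientGroup.induction_on with | _ a => ?_
    induction b using QuotientGroup.induction_on with | _ b => ?_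
    rw [hf, hf] at h
    have hij : i = j := by
      apply hx i j
      exact ⟨b⁻¹ * a, by rw [mul_smul, h, inv_smul_smul]⟩
    subst hij
    rw [(hstab i a b).1 h]
  let ι : (Z ⧸ H) × ZMod L ↪ Fin n := ⟨f, hinj⟩
  have hι : ∀ (z : Z) (i : ZMod L), ι (QuotientGroup.mk z, i) = z • x i := fun z i => rfl
  have hsm : ∀ (z : Z) (w : (Z ⧸ H) × ZMod L), z • ι w = ι (z • w.1, w.2) := by
    rintro z ⟨a, i⟩
    induction a using QuotientGroup.induction_on with | _ a => ?_
    rw [hι]
    change z • a • x i = ι (QuotientGroup.mk (z * a), i)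
    rw [hι, mul_smul]
  let σ : Equiv.Perm ((Z ⧸ H) × ZMod L) := Equiv.prodCongr (Equiv.refl _) (Equiv.addRight 1)
  have hσ : ∀ w, σ w = (w.1, w.2 + 1) := fun w => rfl
  have hσk : ∀ (k : ℕ) w, (σ ^ k) w = (w.1, w.2 + (k : ZMod L)) := by
    intro k
    induction k with
    | zero => intro w; simp only [_root_.pow_zero, _root_.Equiv.Perm.coe_one, _root_.id_eq, _root_.Nat.cast_zero, _root_.add_zero, _root_.Prod.mk.eta]
    | succ k ih =>
      intro w
      rw [pow_succ', Equiv.Perm.mul_apply, ih, hσ]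
      simp [add_assoc]
  have hσo : orderOf σ = L := by
    rw [orderOf_eq_iff (Nat.pos_of_ne_zero (NeZero.ne L))]
    refine ⟨?_, ?_⟩
    · ext w
      · rw [hσk]; simp only [_root_.Equiv.Perm.coe_one, _root_.id_eq]
      · rw [hσk]; simp only [_root_.CharP.cast_eq_zero, _root_.add_zero, _root_.Equiv.Perm.coe_one, _root_.id_eq]
    · intro m hm hm0 h
      have h1 := congrArg (fun τ : Equiv.Perm ((Z ⧸ H) × ZMod L) => (τ (QuotientGroup.mk 1, 0)).2) h
      simp only [hσk, zero_add, Equiv.Perm.coe_one, id_eq] at h1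
      rw [ZMod.natCast_eq_zero_iff] at h1
      exact absurd (Nat.le_of_dvd hm0 h1) (not_le.2 hm)
  refine ⟨σ.viaEmbedding ι, ?_, ?_⟩
  · have h1 := orderOf_injective (Equiv.Perm.viaEmbeddingHom ι) (Equiv.Perm.viaEmbeddingHom_injective ι) σ
    rw [Equiv.Perm.viaEmbeddingHom_apply] at h1
    rw [h1, hσo]
  · intro z hz
    ext y : 1
    rw [Equiv.Perm.mul_apply, Equiv.Perm.mul_apply]
    have hzy : ∀ y : Fin n, z y = (⟨z, hz⟩ : Z) • y := fun y => rfl
    by_cases hy : y ∈ Set.range ι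
    · obtain ⟨w, rfl⟩ := hy
      rw [Equiv.Perm.viaEmbedding_apply, hzy, hzy, hsm, hsm, Equiv.Perm.viaEmbedding_apply]
      rfl
    · rw [Equiv.Perm.viaEmbedding_apply_of_notMem _ _ _ hy]
      have hy' : z y ∉ Set.range ι := by
        rintro ⟨w, hw⟩
        apply hy
        refine ⟨((⟨z, hz⟩ : Z)⁻¹ • w.1, w.2), ?_⟩
        rw [← hsm, hw, hzy, inv_smul_smul]
      rw [Equiv.Perm.viaEmbedding_apply_of_notMem _ _ _ hy']

/-- **Alternating case.** -/
theorem large_alt (c K p : ℕ) (hp : p.Prime) : ∃ n₀ : ℕ, ∀ n : ℕ, n₀ ≤ n →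
    ∀ Z : Subgroup (alternatingGroup (Fin n)), Nat.card Z ≤ K →
      ∃ (r : ℕ) (E : Subgroup (alternatingGroup (Fin n))), r.Prime ∧ r ≠ p ∧
        E ≤ Subgroup.centralizer (Z : Set (alternatingGroup (Fin n))) ∧ IsPGroup r E ∧ c < Nat.card E := by
  classical
  obtain ⟨r, hr, hrp, hr3⟩ : ∃ r : ℕ, r.Prime ∧ r ≠ p ∧ Odd r := by
    by_cases h : p = 3
    · exact ⟨5, by norm_num, by omega, by decide⟩
    · exact ⟨3, by norm_num, fun h' => h h'.symm, by decide⟩
  have hrpos : 0 < r := hr.pos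
  have : NeZero (r ^ (c + 1)) := ⟨(pow_pos hrpos _).ne'⟩
  refine ⟨2 ^ K * (K * r ^ (c + 1)) + 1, fun n hn Z hZ => ?_⟩
  let A := alternatingGroup (Fin n)
  let Z' : Subgroup (Equiv.Perm (Fin n)) := Z.map A.subtype
  have hZ' : Nat.card Z' ≤ K := by
    have : Nat.card Z' = Nat.card Z :=
      (Nat.card_congr (Z.equivMapOfInjective A.subtype (Subgroup.subtype_injective A)).toEquiv).symm
    omega
  obtain ⟨π, hπ, hcomm⟩ := exists_perm K (r ^ (c + 1)) n (by omega) Z' hZ'
  have hsign : π ∈ A := by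
    rw [Equiv.Perm.mem_alternatingGroup]
    have h1 : Equiv.Perm.sign π ^ (r ^ (c + 1)) = 1 := by
      rw [← map_pow, ← hπ, pow_orderOf_eq_one, map_one]
    rcases Int.units_eq_one_or (Equiv.Perm.sign π) with h | h
    · exact h
    · rw [h, (hr3.pow).neg_one_pow] at h1
      exact absurd h1 (by decide)
  refine ⟨r, Subgroup.zpowers (⟨π, hsign⟩ : A), hr, hrp, ?_, ?_, ?_⟩
  · rw [Subgroup.zpowers_le, Subgroup.mem_centralizer_iff]
    intro z hz
    apply Subtype.ext
    exact hcomm z.1 (Subgroup.mem_map_of_mem A.subtype hz)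
  · have : Fact r.Prime := ⟨hr⟩
    rw [IsPGroup.iff_card]
    exact ⟨c + 1, by rw [Nat.card_zpowers, Subgroup.orderOf_mk, hπ]⟩
  · rw [Nat.card_zpowers, Subgroup.orderOf_mk, hπ]
    calc c < 2 ^ c := Nat.lt_two_pow_self
      _ ≤ r ^ c := Nat.pow_le_pow_left hr.two_le _
      _ ≤ r ^ (c + 1) := Nat.pow_le_pow_right hrpos (Nat.le_succ _)

end Cfsg.Agent.H717.Sims
end

-- part: H978/SimsRed
section
/-!
# S3386: reduction of the classical groups `Y / Z(Y)` to `FormsCore` (helper978)

`large_of_core`: `Φ : Y →* (V ≃ₗ[F] V)` injective, `[isom, isom] ≤ Φ(Y) ≤ isom`, the centre of `Y` acts by scalars; the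
hypothesis on totally singular vectors has to be checked for sets `T` of at most `K` isometries only.
-/

set_option autoImplicit false

namespace Cfsg.Agent.H978.SimsRed

open Cfsg.Agent.H851.Sims Subgroup

section scal

variable {F V Y : Type} [Field F] [AddCommGroup V] [Module F V] [Group Y] {r : ℕ} [Fact r.Prime] [CharP F r]
  {Φ : Y →* (V ≃ₗ[F] V)}

theorem scal_pow {z : Y} {a : F} (h : ∀ v, Φ z v = a • v) (n : ℕ) : ∀ v, Φ (z ^ n) v = a ^ n • v := by
  induction n with
  | zero => intro v; simp only [_root_.pow_zero, _root_.map_one, _root_.LinearEquiv.coe_one, _root_.id_eq, _root_.one_smul]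
  | succ n ih =>
    intro v
    rw [pow_succ, map_mul, LinearEquiv.mul_apply, h, map_smul, ih, smul_smul, pow_succ, mul_comm]

theorem scal_eq_one (hΦ : Function.Injective Φ) {z : Y} {a : F} (h : ∀ v, Φ z v = a • v) {k : ℕ}
    (hz : z ^ r ^ k = 1) : z = 1 := by
  apply hΦ
  rw [map_one]
  apply LinearEquiv.ext
  intro v
  change Φ z v = v
  rw [h]
  by_cases hv : v = 0
  · rw [hv, smul_zero]
  · have h1 := scal_pow h (r ^ k) v
    rw [hz, map_one] at h1
    have h2 : (1 : F) • v = a ^ r ^ k • v := by rw [one_smul]; exact h1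
    have h3 : (1 : F) = a ^ r ^ k := smul_left_injective F hv h2
    have h4 : (a - 1) ^ r ^ k = 0 := by
      rw [sub_pow_char_pow, one_pow, ← h3, sub_self]
    have h5 : a = 1 := sub_eq_zero.1 (pow_eq_zero_iff (pow_ne_zero _ (Fact.out : r.Prime).ne_zero) |>.1 h4)
    rw [h5, one_smul]

end scal

theorem large_of_core (hC : FormsCore) (c K d : ℕ) : ∃ n₀ : ℕ, ∀ (F V : Type) [Field F] [Finite F] [AddCommGroup V]
    [Module F V] [Module.Finite F V] (r : ℕ) [Fact r.Prime] [CharP F r] (D : FormData F V) (Y : Type) [Group Y] [Finite Y]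
    (Φ : Y →* (V ≃ₗ[F] V)), n₀ ≤ Module.finrank F V → Function.Injective Φ → Φ.range ≤ D.isom →
    ⁅D.isom, D.isom⁆ ≤ Φ.range → (∀ z ∈ Subgroup.center Y, ∃ a : F, ∀ v, Φ z v = a • v) →
    (∀ T : Finset (V ≃ₗ[F] V), T.card ≤ K → (T : Set (V ≃ₗ[F] V)) ⊆ D.isom → ∀ W : Submodule F V,
      (∀ t ∈ T, ∀ w ∈ W, t w ∈ W) → d ≤ Module.finrank F W →
      ∃ v ∈ W, v ≠ 0 ∧ ∀ s ∈ T, ∀ t ∈ T, D.f (s v) (t v) = 0 ∧ D.Q (s v) = 0) →
    ∀ Z : Subgroup (Y ⧸ Subgroup.center Y), Nat.card Z ≤ K → (Nat.card Z).Coprime r →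
    ∃ E : Subgroup (Y ⧸ Subgroup.center Y), E ≤ Subgroup.centralizer (Z : Set _) ∧ IsPGroup r E ∧ c < Nat.card E := by
  obtain ⟨n₀, H⟩ := hC c K d
  refine ⟨n₀, ?_⟩
  intro F V _ _ _ _ _ r hr _ D Y _ _ Φ hn hΦ h1 h2 hcen hCW Z hZK hZr
  classical
  have : Fintype Z := Fintype.ofFinite Z
  set! π := QuotientGroup.mk' (Subgroup.center Y) with hπ
  set! X : Subgroup (V ≃ₗ[F] V) := (Z.comap π).map Φ with hX
  -- the set of representatives
  let lift : Y ⧸ Subgroup.center Y → Y := fun z => Quotient.out z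
  have hlift : ∀ z, π (lift z) = z := fun z => QuotientGroup.out_eq' z
  let T : Finset (V ≃ₗ[F] V) := Finset.univ.image fun z : Z => Φ (lift z.1)
  have hTX : (T : Set (V ≃ₗ[F] V)) ⊆ X := by
    intro t ht
    rw [Finset.mem_coe, Finset.mem_image] at ht
    obtain ⟨z, -, rfl⟩ := ht
    refine ⟨lift z.1, ?_, rfl⟩
    change π (lift z.1) ∈ Z
    rw [hlift]
    exact z.2
  have hTK : T.card ≤ K := by
    refine le_trans Finset.card_image_le ?_
    rw [Finset.card_univ, ← Nat.card_eq_fintype_card]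
    exact hZK
  have hrep : ∀ x ∈ X, ∃ t ∈ T, ∃ a : F, ∀ v, x v = a • t v := by
    rintro _ ⟨y, hy, rfl⟩
    refine ⟨Φ (lift (π y)), ?_, ?_⟩
    · rw [Finset.mem_image]
      exact ⟨⟨π y, hy⟩, Finset.mem_univ _, rfl⟩
    · have h3 : (lift (π y))⁻¹ * y ∈ Subgroup.center Y := by
        rw [← QuotientGroup.eq]
        exact hlift _
      obtain ⟨a, ha⟩ := hcen _ h3
      refine ⟨a, fun v => ?_⟩
      have h4 : y = lift (π y) * ((lift (π y))⁻¹ * y) := by group
      conv_lhs => rw [h4, map_mul]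
      rw [LinearEquiv.mul_apply, ha, map_smul]
  have hXi : X ≤ D.isom := by
    rintro _ ⟨y, -, rfl⟩
    exact h1 ⟨y, rfl⟩
  have hXfin : Finite X := Set.Finite.to_subtype ((Set.toFinite ((Z.comap π : Subgroup Y) : Set Y)).image Φ)
  have hXr : (Nat.card X).Coprime r := by
    rw [Nat.coprime_comm, Nat.Prime.coprime_iff_not_dvd hr.out]
    intro hd
    obtain ⟨⟨x, y, hy, rfl⟩, hx⟩ := exists_prime_orderOf_dvd_card' r hd
    have h3 : (Φ y) ^ r = 1 := by
      have := pow_orderOf_eq_one (⟨Φ y, y, hy, rfl⟩ : X)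
      rw [hx] at this
      exact congrArg Subtype.val this
    have h4 : y ^ r = 1 := by
      apply hΦ
      rw [map_pow, h3, map_one]
    have h5 : π y = 1 := by
      have h6 : (⟨π y, hy⟩ : Z) ^ r = 1 := by
        apply Subtype.ext
        change π y ^ r = 1
        rw [← map_pow, h4, map_one]
      have h7 : (⟨π y, hy⟩ : Z) ^ Nat.card Z = 1 := pow_card_eq_one'
      have h8 : (⟨π y, hy⟩ : Z) = 1 := by
        have := pow_gcd_eq_one.2 ⟨h7, h6⟩
        rwa [hZr.gcd_eq_one, pow_one] at this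
      exact congrArg Subtype.val h8
    obtain ⟨a, ha⟩ := hcen y ((QuotientGroup.eq_one_iff y).1 h5)
    have h9 : y = 1 := scal_eq_one (r := r) (k := 1) hΦ ha (by rw [pow_one]; exact h4)
    have h10 : (⟨Φ y, y, hy, rfl⟩ : X) = 1 := by
      apply Subtype.ext
      change Φ y = 1
      rw [h9, map_one]
    rw [h10, orderOf_one] at hx
    exact hr.out.one_lt.ne hx
  obtain ⟨E, hE1, hE2, hE3, hE4⟩ := H F V r D X hn hXi hXr ⟨T, hTX, hTK, hrep⟩ (by
    intro W hW hd
    obtain ⟨v, hv, hv0, hT⟩ := hCW T hTK (hTX.trans hXi) W (fun t ht w hw => hW t (hTX ht) w hw) hd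
    refine ⟨v, hv, hv0, ?_⟩
    intro x hx y hy
    obtain ⟨s, hs, a, ha⟩ := hrep x hx
    obtain ⟨t, ht, b, hb⟩ := hrep y hy
    rw [ha, hb, D.smul_left, D.smul_right, (hT s hs t ht).1, mul_zero, mul_zero]
    exact ⟨rfl, D.Q_smul _ _ (hT s hs t ht).2⟩)
  -- back to `Y`
  have hpE : IsPGroup r (E.comap Φ) := hE3.comap_of_injective Φ hΦ
  refine ⟨(E.comap Φ).map π, ?_, hpE.map π, ?_⟩
  · rintro _ ⟨y, hy, rfl⟩
    rw [Subgroup.mem_centralizer_iff]
    intro z hz
    have h3 : Φ (lift z) ∈ X := ⟨lift z, by change π (lift z) ∈ Z; rw [hlift]; exact hz, rfl⟩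
    have h4 := Subgroup.mem_centralizer_iff.1 (hE2 hy) _ h3
    rw [← map_mul, ← map_mul] at h4
    have h5 := congrArg π (hΦ h4)
    rw [map_mul, map_mul, hlift] at h5
    exact h5
  · have h3 : Nat.card ((E.comap Φ).map π) = Nat.card (E.comap Φ) := by
      refine (Nat.card_congr (Equiv.ofBijective (fun y : E.comap Φ => (⟨π y.1, y.1, y.2, rfl⟩ : (E.comap Φ).map π))
        ⟨?_, ?_⟩)).symm
      · intro x y hxy
        have h4 : π x.1 = π y.1 := congrArg Subtype.val hxy
        have h5 : x.1⁻¹ * y.1 ∈ Subgroup.center Y := QuotientGroup.eq.1 h4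
        obtain ⟨a, ha⟩ := hcen _ h5
        obtain ⟨k, hk⟩ := hpE ⟨x.1⁻¹ * y.1, mul_mem (inv_mem x.2) y.2⟩
        have h6 := scal_eq_one (r := r) (k := k) hΦ ha (congrArg Subtype.val hk)
        exact Subtype.ext (inv_mul_eq_one.1 h6)
      · rintro ⟨_, y, hy, rfl⟩
        exact ⟨⟨y, hy⟩, rfl⟩
    have h4 : Nat.card (E.comap Φ) = Nat.card E := by
      refine Nat.card_congr (Equiv.ofBijective (fun y : E.comap Φ => (⟨Φ y.1, y.2⟩ : E)) ⟨?_, ?_⟩)
      · intro x y hxy
        exact Subtype.ext (hΦ (congrArg Subtype.val hxy))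
      · rintro ⟨e, he⟩
        obtain ⟨y, rfl⟩ := h2 (hE1 he)
        exact ⟨⟨y, he⟩, rfl⟩
    rw [h3, h4]
    exact hE4

end Cfsg.Agent.H978.SimsRed
end

-- part: H978/SimsPSp
section
/-!
# S3386: the symplectic groups (helper978)
-/

set_option autoImplicit false

namespace Cfsg.Agent.H978.SimsPSp

open Cfsg.Agent.H851.Sims Subgroup Matrix

section lin

variable {ι F Y : Type} [Fintype ι] [DecidableEq ι] [Field F] [Group Y]

/-- a homomorphism from a group to the monoid of matrices, as a homomorphism to the group of linear automorphisms -/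
noncomputable def linHom (ρ : Y →* Matrix ι ι F) : Y →* ((ι → F) ≃ₗ[F] (ι → F)) where
  toFun y := LinearEquiv.ofLinearMap (Matrix.toLin' (ρ y)) (Matrix.toLin' (ρ y⁻¹))
    (by rw [← Matrix.toLin'_mul, ← map_mul, mul_inv_cancel, map_one, Matrix.toLin'_one])
    (by rw [← Matrix.toLin'_mul, ← map_mul, inv_mul_cancel, map_one, Matrix.toLin'_one])
  map_one' := by
    apply LinearEquiv.ext
    intro v
    change Matrix.toLin' (ρ 1) v = v
    rw [map_one, Matrix.toLin'_one]
    rfl
  map_mul' x y := by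
    apply LinearEquiv.ext
    intro v
    change Matrix.toLin' (ρ (x * y)) v = Matrix.toLin' (ρ x) (Matrix.toLin' (ρ y) v)
    rw [map_mul, Matrix.toLin'_mul]
    rfl

theorem linHom_apply (ρ : Y →* Matrix ι ι F) (y : Y) (v : ι → F) : linHom ρ y v = ρ y *ᵥ v := Matrix.toLin'_apply _ _

theorem linHom_injective (ρ : Y →* Matrix ι ι F) (h : Function.Injective ρ) : Function.Injective (linHom ρ) := by
  intro x y hxy
  apply h
  apply Matrix.ext_of_mulVec_single
  intro i
  rw [← linHom_apply, ← linHom_apply, hxy]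

/-- a linear automorphism whose matrix is in the image -/
theorem mem_range_linHom (ρ : Y →* Matrix ι ι F) (g : (ι → F) ≃ₗ[F] (ι → F)) (y : Y)
    (h : ρ y = LinearMap.toMatrix' (g : (ι → F) →ₗ[F] (ι → F))) : g ∈ (linHom ρ).range := by
  refine ⟨y, ?_⟩
  apply LinearEquiv.ext
  intro v
  rw [linHom_apply, h]
  exact LinearMap.toMatrix'_mulVec (g : (ι → F) →ₗ[F] (ι → F)) v

theorem ext_dot {A B : Matrix ι ι F} (h : ∀ u v, u ⬝ᵥ (A *ᵥ v) = u ⬝ᵥ (B *ᵥ v)) : A = B := by
  ext i j
  have := h (Pi.single i 1) (Pi.single j 1)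
  simpa only [_root_.Matrix.mulVec_single, _root_.MulOpposite.op_one, _root_.one_smul, _root_.single_dotProduct, _root_.Matrix.col_apply, _root_.one_mul] using this

end lin

variable {m : ℕ} {F : Type} [Field F]

/-- the symplectic form -/
def D (m : ℕ) (F : Type) [Field F] : FormData F (Fin m ⊕ Fin m → F) where
  σ := RingHom.id F
  f u v := u ⬝ᵥ (J (Fin m) F *ᵥ v)
  Q _ := 0
  θ := 0
  add_left u v w := add_dotProduct _ _ _
  smul_left a u w := by rw [smul_dotProduct, smul_eq_mul]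
  add_right u v w := by rw [mulVec_add, dotProduct_add]
  smul_right a u w := by rw [mulVec_smul, dotProduct_smul, smul_eq_mul, RingHom.id_apply]
  refl u v h := by
    rw [dotProduct_comm, ← vecMul_transpose, ← dotProduct_mulVec, J_transpose, neg_mulVec, dotProduct_neg]
    rw [dotProduct_comm] at h
    rw [dotProduct_comm, h, neg_zero]
  nondeg u h := by
    have h1 : ∀ w, u ⬝ᵥ w = 0 := by
      intro w
      have h2 := h (-(J (Fin m) F *ᵥ w))
      rw [mulVec_neg, mulVec_mulVec, J_squared, neg_mulVec, one_mulVec, neg_neg] at h2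
      exact h2
    exact dotProduct_eq_zero u h1
  Q_add _ _ := by simp only [_root_.add_zero, _root_.AddMonoidHom.zero_apply]
  Q_smul _ _ _ := rfl

/-- the natural representation -/
noncomputable abbrev Phi (m : ℕ) (F : Type) [Field F] :
    symplecticGroup (Fin m) F →* ((Fin m ⊕ Fin m → F) ≃ₗ[F] (Fin m ⊕ Fin m → F)) :=
  linHom (Submonoid.subtype (symplecticGroup (Fin m) F))

theorem form_mul (A : Matrix (Fin m ⊕ Fin m) (Fin m ⊕ Fin m) F) (u v : Fin m ⊕ Fin m → F) :
    (A *ᵥ u) ⬝ᵥ (J (Fin m) F *ᵥ (A *ᵥ v)) = u ⬝ᵥ ((Aᵀ * J (Fin m) F * A) *ᵥ v) := by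
  rw [← vecMul_transpose, ← dotProduct_mulVec, mulVec_mulVec, mulVec_mulVec, Matrix.mul_assoc]

theorem range_le : (Phi m F).range ≤ (D m F).isom := by
  rintro _ ⟨A, rfl⟩
  refine ⟨fun u v => ?_, fun v => rfl⟩
  rw [linHom_apply, linHom_apply]
  change (A.1 *ᵥ u) ⬝ᵥ (J (Fin m) F *ᵥ (A.1 *ᵥ v)) = u ⬝ᵥ (J (Fin m) F *ᵥ v)
  rw [form_mul, SymplecticGroup.mem_iff'.1 A.2]

theorem le_range : (D m F).isom ≤ (Phi m F).range := by
  intro g hg
  set M := LinearMap.toMatrix' (g : (Fin m ⊕ Fin m → F) →ₗ[F] (Fin m ⊕ Fin m → F)) with hM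
  have hv : ∀ v, M *ᵥ v = g v := fun v =>
    LinearMap.toMatrix'_mulVec (g : (Fin m ⊕ Fin m → F) →ₗ[F] (Fin m ⊕ Fin m → F)) v
  have h1 : M ∈ symplecticGroup (Fin m) F := by
    rw [SymplecticGroup.mem_iff']
    apply ext_dot
    intro u v
    rw [← form_mul, hv, hv]
    exact hg.1 u v
  exact mem_range_linHom _ g ⟨M, h1⟩ rfl

theorem center_scalar (z : symplecticGroup (Fin m) F) (hz : z ∈ center (symplecticGroup (Fin m) F)) :
    ∃ a : F, ∀ v, Phi m F z v = a • v := by
  obtain ⟨a, ha⟩ := LieClassical.SympCenter.scalar_of_commute m z.1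
    (fun T hT => congrArg Subtype.val (mem_center_iff.1 hz ⟨_, LieClassical.SympCenter.upper_mem m hT⟩).symm)
    (fun T hT => congrArg Subtype.val (mem_center_iff.1 hz ⟨_, LieClassical.SympCenter.lower_mem m hT⟩).symm)
  refine ⟨a, fun v => ?_⟩
  rw [linHom_apply]
  change z.1 *ᵥ v = a • v
  rw [ha, smul_mulVec, one_mulVec]

/-- Chevalley-Warning for the symplectic form -/
theorem warning [Finite F] {K : ℕ} (T : Finset ((Fin m ⊕ Fin m → F) ≃ₗ[F] (Fin m ⊕ Fin m → F))) (hT : T.card ≤ K)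
    (W : Submodule F (Fin m ⊕ Fin m → F)) (hW : 2 * (K * K) + 1 ≤ Module.finrank F W) :
    ∃ v ∈ W, v ≠ 0 ∧ ∀ s ∈ T, ∀ t ∈ T, (D m F).f (s v) (t v) = 0 ∧ (D m F).Q (s v) = 0 := by
  let B : T × T → LinearMap.BilinForm F W := fun st =>
    LinearMap.mk₂ F (fun u w => (D m F).f (st.1.1 u.1) (st.2.1 w.1))
      (fun u v w => by rw [Submodule.coe_add, map_add, (D m F).add_left])
      (fun a u w => by rw [Submodule.coe_smul, map_smul, (D m F).smul_left]; rfl)
      (fun u v w => by rw [Submodule.coe_add, map_add, (D m F).add_right])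
      (fun a u w => by rw [Submodule.coe_smul, map_smul, (D m F).smul_right]; rfl)
  obtain ⟨u, hu, h⟩ := H954.CWarn.exists_common_zero B (by
    rw [Fintype.card_prod, Fintype.card_coe]
    have : T.card * T.card ≤ K * K := Nat.mul_le_mul hT hT
    omega)
  refine ⟨u.1, u.2, fun h0 => hu (Subtype.ext h0), fun s hs t ht => ⟨h (⟨s, hs⟩, ⟨t, ht⟩), rfl⟩⟩

theorem large_psp (hC : Cfsg.Agent.H851.Sims.FormsCore) (c K : ℕ) : ∃ n₀ : ℕ, ∀ m : ℕ, n₀ ≤ m → ∀ (F : Type) [Field F]
    [Finite F] (r : ℕ) [Fact r.Prime] [CharP F r]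
    (Z : Subgroup (Cfsg.PSp m F)), Nat.card Z ≤ K → (Nat.card Z).Coprime r →
    ∃ E : Subgroup (Cfsg.PSp m F), E ≤ Subgroup.centralizer (Z : Set _) ∧ IsPGroup r E ∧ c < Nat.card E := by
  obtain ⟨n₀, H⟩ := SimsRed.large_of_core hC c K (2 * (K * K) + 1)
  refine ⟨n₀, ?_⟩
  intro m hm F _ _ r _ _ Z hZ1 hZ2
  have : Finite (symplecticGroup (Fin m) F) := Subtype.finite
  refine H F (Fin m ⊕ Fin m → F) r (D m F) (symplecticGroup (Fin m) F) (Phi m F) ?_
    (linHom_injective _ Subtype.val_injective) range_le ?_ center_scalar ?_ Z hZ1 hZ2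
  · rw [Module.finrank_pi, Fintype.card_sum, Fintype.card_fin]
    omega
  · refine le_trans ?_ le_range
    rw [Subgroup.commutator_le]
    intro x hx y hy
    exact mul_mem (mul_mem (mul_mem hx hy) (inv_mem hx)) (inv_mem hy)
  · intro T hT _ W _ hW
    exact warning T hT W hW

end Cfsg.Agent.H978.SimsPSp
end

-- part: H973/SimsUni
section
/-!
# S3386: unipotent elements commuting with a small group of operators
-/

set_option autoImplicit false

namespace Cfsg.Agent.H973.SimsUni

open Function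

/-- The isotypic lemma (task 444). -/
def IsoStmt : Prop := ∀ {F R V : Type} [Field F] [Ring R] [Algebra F R] [AddCommGroup V]
    [Module F V] [Module R V] [IsScalarTower F R V] [Module.Finite F V] [IsSemisimpleModule R V]
    (K m : ℕ)
    (_ : ∃ T : Finset R, T.card ≤ K ∧
      ∀ x : R, ∃ y ∈ Submodule.span F (T : Set R), ∀ v : V, x • v = y • v)
    (_ : K * K * m < Module.finrank F V),
    ∃ U : Submodule R V, IsSimpleModule R U ∧ Module.finrank F U ≤ K ∧
      ∃ W : Submodule R V, Nonempty (W ≃ₗ[R] (Fin m → U))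

open scoped MonoidAlgebra in
theorem exists_nilp (hiso : IsoStmt) {F V : Type} [Field F] [AddCommGroup V] [Module F V]
    [Module.Finite F V] {X : Type} [Group X] [Finite X] (ρ : X →* Module.End F V)
    (hX : (Nat.card X : F) ≠ 0) (K c : ℕ)
    (hK : ∃ T : Finset X, T.card ≤ K ∧ ∀ x, ∃ t ∈ T, ∃ a : F, ∀ v, ρ x v = a • ρ t v)
    (hdim : K * K * (c + 1) < Module.finrank F V) :
    ∃ N : (Fin c → F) →ₗ[F] Module.End F V, Injective N ∧ (∀ a b, N a * N b = 0) ∧
      ∀ a x, ρ x * N a = N a * ρ x := by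
  classical
  let R := MonoidAlgebra F X
  let θ : R →ₐ[F] Module.End F V := MonoidAlgebra.lift F (Module.End F V) X ρ
  letI : Module R V := Module.compHom V θ.toRingHom
  have hsm : ∀ (x : R) (v : V), x • v = θ x v := fun x v => rfl
  have hscal : ∀ (a : F) (x : R) (v : V), (a • x) • v = a • (x • v) := by
    intro a x v
    rw [hsm, hsm, map_smul]
    rfl
  haveI : IsScalarTower F R V := ⟨hscal⟩
  haveI : NeZero (Nat.card X : F) := ⟨hX⟩
  haveI : IsSemisimpleModule R V := inferInstance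
  have hθ : ∀ x : X, θ (MonoidAlgebra.single x 1) = ρ x := by
    intro x
    change MonoidAlgebra.lift F (Module.End F V) X ρ (MonoidAlgebra.single x 1) = ρ x
    rw [MonoidAlgebra.lift_single, one_smul]
  obtain ⟨U, hU, -, W, ⟨e⟩⟩ := hiso (F := F) (R := R) (V := V) K (c + 1) (by
    obtain ⟨T, hT, hTx⟩ := hK
    refine ⟨T.image (fun t => MonoidAlgebra.single t 1), Finset.card_image_le.trans hT,
      fun x => ?_⟩
    induction x using MonoidAlgebra.induction_linear with
    | zero => exact ⟨0, Submodule.zero_mem _, fun v => rfl⟩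
    | add x y hx hy =>
      obtain ⟨x', hx', hx2⟩ := hx
      obtain ⟨y', hy', hy2⟩ := hy
      refine ⟨x' + y', Submodule.add_mem _ hx' hy', fun v => ?_⟩
      rw [add_smul, add_smul, hx2, hy2]
    | single x a =>
      obtain ⟨t, ht, b, hb⟩ := hTx x
      refine ⟨(a * b) • MonoidAlgebra.single t 1, Submodule.smul_mem _ _
        (Submodule.subset_span (Finset.mem_coe.mpr (Finset.mem_image_of_mem _ ht))), fun v => ?_⟩
      have h1 : (MonoidAlgebra.single x a : R) = a • MonoidAlgebra.single x 1 := by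
        rw [MonoidAlgebra.smul_single, smul_eq_mul, mul_one]
      rw [h1, hscal, hscal, hsm, hsm, hθ, hθ, hb, mul_smul]) hdim
  obtain ⟨M, hM⟩ := exists_isCompl W
  let pr : V →ₗ[R] W := W.projectionOnto M hM
  have hpr : ∀ w : W, pr (w : V) = w := fun w => Submodule.projectionOnto_apply_left hM w
  let B : Fin c → (V →ₗ[R] V) := fun i => W.subtype ∘ₗ e.symm.toLinearMap ∘ₗ
    LinearMap.single R (fun _ : Fin (c + 1) => U) i.succ ∘ₗ
      LinearMap.proj 0 ∘ₗ e.toLinearMap ∘ₗ pr
  let q : Fin (c + 1) → (V →ₗ[R] U) := fun j => LinearMap.proj j ∘ₗ e.toLinearMap ∘ₗ pr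
  have hB : ∀ i v, B i v = ((e.symm (Pi.single i.succ (q 0 v)) : W) : V) := fun i v => rfl
  have hq : ∀ j (w : Fin (c + 1) → U), q j ((e.symm w : W) : V) = w j := by
    intro j w
    change (e (pr ((e.symm w : W) : V))) j = w j
    rw [hpr, LinearEquiv.apply_symm_apply]
  have hBB : ∀ i j v, B i (B j v) = 0 := by
    intro i j v
    rw [hB i, hB j, hq, Pi.single_eq_of_ne (Fin.succ_ne_zero j).symm, Pi.single_zero, map_zero]
    rfl
  let B' : Fin c → Module.End F V := fun i => (B i).restrictScalars F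
  have hB' : ∀ i v, B' i v = B i v := fun i v => rfl
  refine ⟨Fintype.linearCombination F B', ?_, ?_, ?_⟩
  · rw [← LinearMap.ker_eq_bot, LinearMap.ker_eq_bot']
    intro a ha
    haveI := hU.nontrivial
    obtain ⟨u, hu⟩ := exists_ne (0 : U)
    have h1 : Fintype.linearCombination F B' a ((e.symm (Pi.single 0 u) : W) : V) = 0 := by
      rw [ha]; rfl
    rw [Fintype.linearCombination_apply, LinearMap.sum_apply] at h1
    ext j
    have h2 := congrArg ((q j.succ).restrictScalars F) h1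
    rw [map_zero, map_sum, Finset.sum_eq_single j] at h2
    · rw [LinearMap.smul_apply, map_smul, hB', LinearMap.restrictScalars_apply, hB, hq, hq,
        Pi.single_eq_same, Pi.single_eq_same] at h2
      rcases smul_eq_zero.mp h2 with h3 | h3
      · exact h3
      · exact absurd h3 hu
    · intro i _ hij
      rw [LinearMap.smul_apply, map_smul, hB', LinearMap.restrictScalars_apply, hB, hq,
        Pi.single_eq_of_ne (fun h => hij (Fin.succ_injective _ h).symm), smul_zero]
    · intro h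
      exact absurd (Finset.mem_univ j) h
  · intro a b
    refine LinearMap.ext fun v => ?_
    rw [Module.End.mul_apply, Fintype.linearCombination_apply, Fintype.linearCombination_apply,
      LinearMap.sum_apply, LinearMap.sum_apply, LinearMap.zero_apply]
    refine Finset.sum_eq_zero fun i _ => ?_
    rw [LinearMap.smul_apply, map_sum, Finset.sum_eq_zero (fun j _ => ?_), smul_zero]
    rw [LinearMap.smul_apply, map_smul, hB', hB', hBB, smul_zero]
  · intro a x
    refine LinearMap.ext fun v => ?_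
    rw [Module.End.mul_apply, Module.End.mul_apply, Fintype.linearCombination_apply,
      LinearMap.sum_apply, LinearMap.sum_apply, map_sum]
    refine Finset.sum_congr rfl fun i _ => ?_
    rw [LinearMap.smul_apply, LinearMap.smul_apply, map_smul, hB', hB', ← hθ, ← hsm, ← hsm,
      (B i).map_smul]

end Cfsg.Agent.H973.SimsUni
end

-- part: H973/SimsPSL
section
/-!
# S3386: the linear groups (helper973, task 447)
-/

set_option autoImplicit false

namespace Cfsg.Agent.H973.SimsPSL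

open Function Subgroup Matrix

abbrev SL (n : ℕ) (F : Type) [Field F] := Matrix.SpecialLinearGroup (Fin n) F

/-- the natural representation -/
noncomputable def rho (n : ℕ) (F : Type) [Field F] : SL n F →* Module.End F (Fin n → F) where
  toFun g := Matrix.toLin' g.1
  map_one' := by
    rw [Matrix.SpecialLinearGroup.coe_one]
    exact Matrix.toLin'_one
  map_mul' g h := by
    rw [Matrix.SpecialLinearGroup.coe_mul]
    exact Matrix.toLin'_mul _ _

theorem rho_apply {n : ℕ} {F : Type} [Field F] (g : SL n F) (v : Fin n → F) :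
    rho n F g v = g.1 *ᵥ v := Matrix.toLin'_apply _ _

/-- an element of the center killed by `r` in characteristic `r` is trivial -/
theorem center_pow {n : ℕ} {F : Type} [Field F] {r : ℕ} [Fact r.Prime] [CharP F r]
    {g : SL n F} (hg : g ∈ center (SL n F)) (h : g ^ r = 1) : g = 1 := by
  obtain ⟨a, -, ha⟩ := Matrix.SpecialLinearGroup.mem_center_iff.mp hg
  rcases Nat.eq_zero_or_pos n with hn | hn
  · subst hn
    exact Subsingleton.elim _ _
  haveI : Nonempty (Fin n) := ⟨⟨0, hn⟩⟩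
  have h1 : scalar (Fin n) (a ^ r) = scalar (Fin n) (1 : F) := by
    rw [map_pow, map_one, ha, ← Matrix.SpecialLinearGroup.coe_pow, h, Matrix.SpecialLinearGroup.coe_one]
  have h2 : a ^ r = 1 := Matrix.scalar_inj.mp h1
  have h3 : (a - 1) ^ r = 0 := by rw [sub_pow_char, one_pow, h2, sub_self]
  have h4 : a = 1 := sub_eq_zero.mp (pow_eq_zero_iff (Fact.out : r.Prime).ne_zero |>.mp h3)
  apply Subtype.ext
  rw [← ha, h4, map_one, Matrix.SpecialLinearGroup.coe_one]

section hom

variable {n c : ℕ} {F : Type} [Field F]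
  (N : (Fin c → F) →ₗ[F] Module.End F (Fin n → F)) (hN : ∀ a b, N a * N b = 0)

include hN

theorem one_add_mul (a b : Fin c → F) :
    (1 + LinearMap.toMatrix' (N a)) * (1 + LinearMap.toMatrix' (N b)) =
      1 + LinearMap.toMatrix' (N (a + b)) := by
  have h : LinearMap.toMatrix' (N a) * LinearMap.toMatrix' (N b) = 0 := by
    rw [← LinearMap.toMatrix'_mul, hN, map_zero]
  rw [add_mul, mul_add, mul_add, h, map_add, map_add]
  simp only [one_mul, mul_one, add_zero]
  abel

theorem det_one_add {r : ℕ} [Fact r.Prime] [CharP F r] (a : Fin c → F) :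
    (1 + LinearMap.toMatrix' (N a)).det = 1 := by
  have h1 : ∀ k : ℕ, (1 + LinearMap.toMatrix' (N a)) ^ k =
      1 + LinearMap.toMatrix' (N (k • a)) := by
    intro k
    induction k with
    | zero => rw [pow_zero, zero_smul, map_zero, map_zero, add_zero]
    | succ k ih => rw [pow_succ, ih, one_add_mul N hN, succ_nsmul]
  have h2 := congrArg Matrix.det (h1 r)
  rw [← Nat.cast_smul_eq_nsmul F, CharP.cast_eq_zero, zero_smul, map_zero, map_zero, add_zero,
    det_one, det_pow] at h2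
  have h3 : ((1 + LinearMap.toMatrix' (N a)).det - 1) ^ r = 0 := by
    rw [sub_pow_char, one_pow, h2, sub_self]
  exact sub_eq_zero.mp (pow_eq_zero_iff (Fact.out : r.Prime).ne_zero |>.mp h3)

/-- the group of the unipotent elements -/
def tau (r : ℕ) [Fact r.Prime] [CharP F r] : Multiplicative (Fin c → F) →* SL n F where
  toFun a := ⟨1 + LinearMap.toMatrix' (N a.toAdd), det_one_add N hN (r := r) _⟩
  map_one' := by
    apply Subtype.ext
    change 1 + LinearMap.toMatrix' (N 0) = 1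
    rw [map_zero, map_zero, add_zero]
  map_mul' a b := by
    apply Subtype.ext
    exact (one_add_mul N hN _ _).symm

end hom

theorem large_psl_of_iso (hiso : SimsUni.IsoStmt) (c K : ℕ) : ∃ n₀ : ℕ, ∀ n : ℕ, n₀ ≤ n →
    ∀ (F : Type) [Field F] [Finite F] (r : ℕ) [Fact r.Prime] [CharP F r]
    (Z : Subgroup (Matrix.ProjectiveSpecialLinearGroup (Fin n) F)), Nat.card Z ≤ K →
    (Nat.card Z).Coprime r →
    ∃ E : Subgroup (Matrix.ProjectiveSpecialLinearGroup (Fin n) F),
      E ≤ Subgroup.centralizer (Z : Set _) ∧ IsPGroup r E ∧ c < Nat.card E := by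
  refine ⟨K * K * (c + 1) + 1, ?_⟩
  intro n hn F _ _ r _ _ Z hZK hZr
  classical
  have hr : r.Prime := Fact.out
  haveI : Finite (SL n F) := Subtype.finite
  let π : SL n F →* SL n F ⧸ center (SL n F) := QuotientGroup.mk' (center (SL n F))
  have hπ : Surjective π := QuotientGroup.mk'_surjective _
  have hker : ∀ g, π g = 1 ↔ g ∈ center (SL n F) := fun g => QuotientGroup.eq_one_iff g
  let X : Subgroup (SL n F) := Z.comap π
  have hX : (Nat.card X : F) ≠ 0 := by
    intro h0
    have h1 : r ∣ Nat.card X := (CharP.cast_eq_zero_iff F r _).mp h0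
    obtain ⟨x, hx⟩ := exists_prime_orderOf_dvd_card' r h1
    have h2 : (⟨π x.1, x.2⟩ : Z) ^ r = 1 := by
      apply Subtype.ext
      change π x.1 ^ r = 1
      rw [← map_pow, ← SubmonoidClass.coe_pow, ← hx, pow_orderOf_eq_one]
      exact map_one π
    have h3 : (⟨π x.1, x.2⟩ : Z) = 1 := by
      have h4 : orderOf (⟨π x.1, x.2⟩ : Z) ∣ r := orderOf_dvd_of_pow_eq_one h2
      have h5 : orderOf (⟨π x.1, x.2⟩ : Z) ∣ Nat.card Z := _root_.orderOf_dvd_natCard _
      have h6 := Nat.dvd_gcd h5 h4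
      rw [Nat.Coprime.gcd_eq_one hZr, Nat.dvd_one] at h6
      exact orderOf_eq_one_iff.mp h6
    have h4 : x.1 ∈ center (SL n F) := (hker _).mp (congrArg Subtype.val h3)
    have h5 : x.1 ^ r = 1 := by
      rw [← SubmonoidClass.coe_pow, ← hx, pow_orderOf_eq_one]
      rfl
    have h6 : x = 1 := Subtype.ext (center_pow h4 h5)
    rw [h6, orderOf_one] at hx
    exact hr.one_lt.ne hx
  have hT : ∃ T : Finset X, T.card ≤ K ∧ ∀ x, ∃ t ∈ T, ∃ a : F, ∀ v,
      ((rho n F).comp X.subtype) x v = a • ((rho n F).comp X.subtype) t v := by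
    choose s hs using fun z : Z => hπ z.1
    haveI : Fintype Z := Fintype.ofFinite _
    refine ⟨Finset.univ.image (fun z : Z => (⟨s z, by
      change π (s z) ∈ Z
      rw [hs]
      exact z.2⟩ : X)), ?_, ?_⟩
    · refine Finset.card_image_le.trans ?_
      rw [Finset.card_univ, ← Nat.card_eq_fintype_card]
      exact hZK
    · intro x
      refine ⟨_, Finset.mem_image_of_mem _ (Finset.mem_univ (⟨π x.1, x.2⟩ : Z)), ?_⟩
      have h1 : (s ⟨π x.1, x.2⟩)⁻¹ * x.1 ∈ center (SL n F) := by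
        rw [← hker, map_mul, map_inv, hs, inv_mul_cancel]
      obtain ⟨a, -, ha⟩ := Matrix.SpecialLinearGroup.mem_center_iff.mp h1
      refine ⟨a, fun v => ?_⟩
      change rho n F x.1 v = a • rho n F (s ⟨π x.1, x.2⟩) v
      have h2 : x.1.1 = (s ⟨π x.1, x.2⟩).1 * ((s ⟨π x.1, x.2⟩)⁻¹ * x.1).1 := by
        rw [← Matrix.SpecialLinearGroup.coe_mul, mul_inv_cancel_left]
      rw [rho_apply, rho_apply, h2, ← ha, ← mulVec_mulVec, scalar_apply, ← smul_one_eq_diagonal,
        smul_mulVec, one_mulVec, mulVec_smul]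
  have hdim : K * K * (c + 1) < Module.finrank F (Fin n → F) := by
    rw [Module.finrank_pi, Fintype.card_fin]
    omega
  obtain ⟨N, hN1, hN2, hN3⟩ := SimsUni.exists_nilp hiso ((rho n F).comp X.subtype) hX K c hT hdim
  let τ := tau N hN2 r
  have hτ : ∀ a, (τ a).1 = 1 + LinearMap.toMatrix' (N a.toAdd) := fun a => rfl
  have hcomm : ∀ (x : SL n F) (_ : x ∈ X) a, x * τ a = τ a * x := by
    intro x hx a
    apply Subtype.ext
    change x.1 * (τ a).1 = (τ a).1 * x.1
    rw [hτ, mul_add, add_mul, mul_one, one_mul]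
    congr 1
    have h1 := congrArg LinearMap.toMatrix' (hN3 a.toAdd ⟨x, hx⟩)
    rw [LinearMap.toMatrix'_mul, LinearMap.toMatrix'_mul] at h1
    change LinearMap.toMatrix' (Matrix.toLin' x.1) * _ = _ * LinearMap.toMatrix' (Matrix.toLin' x.1)
      at h1
    rw [LinearMap.toMatrix'_toLin'] at h1
    exact h1
  have hn0 : 0 < n := by omega
  haveI : Nonempty (Fin n) := ⟨⟨0, hn0⟩⟩
  have hinj : Injective (π.comp τ) := by
    rw [injective_iff_map_eq_one]
    intro a ha
    have h1 : τ a ∈ center (SL n F) := (hker _).mp ha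
    obtain ⟨b, -, hb⟩ := Matrix.SpecialLinearGroup.mem_center_iff.mp h1
    rw [hτ] at hb
    have h2 : LinearMap.toMatrix' (N a.toAdd) = scalar (Fin n) (b - 1) := by
      rw [map_sub, map_one, hb, add_sub_cancel_left]
    have h3 : scalar (Fin n) ((b - 1) * (b - 1)) = scalar (Fin n) 0 := by
      rw [map_mul, ← h2, ← LinearMap.toMatrix'_mul, hN2, map_zero, map_zero]
    have h4 : b - 1 = 0 := mul_self_eq_zero.mp (Matrix.scalar_inj.mp h3)
    rw [h4, map_zero] at h2
    have h5 : N a.toAdd = 0 := LinearMap.toMatrix'.injective (by rw [h2, map_zero])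
    have h6 : a.toAdd = 0 := hN1 (by rw [h5, map_zero])
    exact Multiplicative.toAdd.injective h6
  refine ⟨(π.comp τ).range, ?_, ?_, ?_⟩
  · rintro _ ⟨a, rfl⟩
    rw [Subgroup.mem_centralizer_iff]
    intro z hz
    obtain ⟨x, rfl⟩ := hπ z
    change π x * π (τ a) = π (τ a) * π x
    rw [← map_mul, ← map_mul, hcomm x hz]
  · rintro ⟨_, a, rfl⟩
    refine ⟨1, ?_⟩
    apply Subtype.ext
    change (π.comp τ a) ^ r ^ 1 = 1
    rw [pow_one, ← map_pow]
    have h1 : a ^ r = 1 := by
      apply Multiplicative.toAdd.injective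
      rw [toAdd_pow, toAdd_one, ← Nat.cast_smul_eq_nsmul F, CharP.cast_eq_zero, zero_smul]
    rw [h1, map_one]
  · haveI : Finite (Multiplicative (Fin c → F)) := Pi.finite
    have h1 : Nat.card (π.comp τ).range = Nat.card (Fin c → F) := by
      rw [← Nat.card_congr (MonoidHom.ofInjective hinj).toEquiv]
      rfl
    rw [h1, Nat.card_fun, Nat.card_eq_fintype_card (α := Fin c), Fintype.card_fin]
    haveI : Nontrivial F := inferInstance
    have h2 : 1 < Nat.card F := Finite.one_lt_card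
    exact Nat.lt_pow_self h2

theorem isoStmt : SimsUni.IsoStmt := fun K m h1 h2 => Cfsg.Agent.H36.Sims.exists_isotypic K m h1 h2

theorem large_psl (c K : ℕ) : ∃ n₀ : ℕ, ∀ n : ℕ, n₀ ≤ n →
    ∀ (F : Type) [Field F] [Finite F] (r : ℕ) [Fact r.Prime] [CharP F r]
    (Z : Subgroup (Matrix.ProjectiveSpecialLinearGroup (Fin n) F)), Nat.card Z ≤ K →
    (Nat.card Z).Coprime r →
    ∃ E : Subgroup (Matrix.ProjectiveSpecialLinearGroup (Fin n) F),
      E ≤ Subgroup.centralizer (Z : Set _) ∧ IsPGroup r E ∧ c < Nat.card E :=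
  large_psl_of_iso isoStmt c K

end Cfsg.Agent.H973.SimsPSL
end

-- part: H973/SimsLin
section
/-!
# S3386: linear representations of bounded degree of the groups of Lie type
-/

set_option autoImplicit false
set_option maxHeartbeats 400000

open Cfsg Cfsg.Agent.H851.Sims

namespace Cfsg.Agent.H973.SimsLin

open Function

universe u

/-- A faithful action on a finite-dimensional space. -/
theorem linDeg_of_hom {S : Type*} [Group S] {F : Type} [Field F] {r : ℕ} [CharP F r]
    {V : Type*} [AddCommGroup V] [Module F V] [Module.Finite F V] (f : S →* (V →ₗ[F] V))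
    (hf : Injective f) {N : ℕ} (hN : Module.finrank F V ≤ N) : LinDeg N r S := by
  let b := Module.finBasis F V
  let g : S →* Matrix (Fin (Module.finrank F V)) (Fin (Module.finrank F V)) F :=
    ((LinearMap.toMatrixAlgEquiv b).toAlgHom : (V →ₗ[F] V) →* _).comp f
  refine ⟨Module.finrank F V, F, inferInstance, inferInstance, g.toHomUnits, hN, ?_⟩
  intro x y hxy
  apply hf
  have h1 : g x = g y := congrArg Units.val hxy
  exact (LinearMap.toMatrixAlgEquiv b).injective h1

/-- The quotient of a linear group by its centre acts faithfully on the span of the group. -/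
theorem linDeg_quot {H : Type*} [Group H] {F : Type} [Field F] {r : ℕ} [CharP F r]
    {ι : Type*} [Fintype ι] [DecidableEq ι] (ρ : H →* Matrix ι ι F) (hρ : Injective ρ) :
    LinDeg (Fintype.card ι ^ 2) r (H ⧸ Subgroup.center H) := by
  let V : Submodule F (Matrix ι ι F) := Submodule.span F (Set.range ρ)
  let c : H → (Matrix ι ι F →ₗ[F] Matrix ι ι F) := fun h =>
    (LinearMap.mulLeft F (ρ h)).comp (LinearMap.mulRight F (ρ h⁻¹))
  have hc : ∀ h A, c h A = ρ h * (A * ρ h⁻¹) := fun h A => rfl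
  have hcV : ∀ h, ∀ A ∈ V, c h A ∈ V := by
    intro h A hA
    have h1 : V ≤ V.comap (c h) := by
      refine Submodule.span_le.mpr ?_
      rintro _ ⟨k, rfl⟩
      change c h (ρ k) ∈ V
      rw [hc, ← map_mul, ← map_mul]
      exact Submodule.subset_span ⟨_, rfl⟩
    exact h1 hA
  let f : H →* (V →ₗ[F] V) :=
    { toFun := fun h => (c h).restrict (hcV h)
      map_one' := by
        ext A
        simp only [LinearMap.restrict_apply, hc, _root_.map_one, _root_.inv_one, _root_.mul_one, _root_.one_mul, _root_.Subtype.coe_eta, _root_.Module.End.one_apply]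
      map_mul' := fun x y => by
        apply LinearMap.ext
        intro A
        apply Subtype.ext
        change c (x * y) A = c x (c y A)
        rw [hc, hc, hc, map_mul, mul_inv_rev, map_mul]
        simp only [mul_assoc] }
  have hf : ∀ h (A : V), ((f h A : V) : Matrix ι ι F) = ρ h * ((A : Matrix ι ι F) * ρ h⁻¹) :=
    fun h A => rfl
  have hinv : ∀ h, ρ h⁻¹ * ρ h = 1 := fun h => by rw [← map_mul, inv_mul_cancel, map_one]
  have hinv' : ∀ h, ρ h * ρ h⁻¹ = 1 := fun h => by rw [← map_mul, mul_inv_cancel, map_one]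
  have hker : Subgroup.center H ≤ f.ker := by
    intro z hz
    rw [MonoidHom.mem_ker]
    apply LinearMap.ext
    intro A
    apply Subtype.ext
    rw [hf]
    change _ = (A : Matrix ι ι F)
    have h1 : ∀ B ∈ V, ρ z * B = B * ρ z := by
      intro B hB
      induction hB using Submodule.span_induction with
      | mem x hx =>
        obtain ⟨k, rfl⟩ := hx
        rw [← map_mul, ← map_mul, Subgroup.mem_center_iff.mp hz]
      | zero => rw [mul_zero, zero_mul]
      | add x y _ _ hx hy => rw [mul_add, add_mul, hx, hy]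
      | smul a x _ hx => rw [mul_smul_comm, smul_mul_assoc, hx]
    rw [← mul_assoc, h1 A A.2, mul_assoc, hinv', mul_one]
  refine linDeg_of_hom (QuotientGroup.lift (Subgroup.center H) f hker) ?_ ?_
  · rw [injective_iff_map_eq_one]
    intro y
    induction y using QuotientGroup.induction_on with
    | H h =>
      intro hh
      rw [QuotientGroup.eq_one_iff, Subgroup.mem_center_iff]
      intro k
      apply hρ
      have h1 : f h = 1 := hh
      have h2 := congrArg (fun l : V →ₗ[F] V => ((l ⟨ρ k, Submodule.subset_span ⟨k, rfl⟩⟩ : V) :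
        Matrix ι ι F)) h1
      have h3 : ρ h * (ρ k * ρ h⁻¹) = ρ k := h2
      rw [map_mul, map_mul]
      calc ρ k * ρ h = ρ h * (ρ k * ρ h⁻¹) * ρ h := by rw [h3]
        _ = ρ h * ρ k := by rw [← mul_assoc, mul_assoc, hinv, mul_one]
  · calc Module.finrank F V ≤ Module.finrank F (Matrix ι ι F) := Submodule.finrank_le V
      _ = Fintype.card ι ^ 2 := by
        rw [Module.finrank_matrix, Module.finrank_self, mul_one, pow_two]

theorem linDeg_congr {N r : ℕ} {S T : Type*} [Group S] [Group T] (e : S ≃* T)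
    (h : LinDeg N r T) : LinDeg N r S := by
  obtain ⟨n, k, ik, ic, ρ, hn, hρ⟩ := h
  exact ⟨n, k, ik, ic, ρ.comp e.toMonoidHom, hn, hρ.comp e.injective⟩

theorem linDeg_mono {N M r : ℕ} (hNM : N ≤ M) {S : Type*} [Group S] (h : LinDeg N r S) :
    LinDeg M r S := by
  obtain ⟨n, k, ik, ic, ρ, hn, hρ⟩ := h
  exact ⟨n, k, ik, ic, ρ, hn.trans hNM, hρ⟩

/-- A subgroup of `GL_ι(F)`. -/
theorem linDeg_subgroup {F : Type} [Field F] {r : ℕ} [CharP F r] {ι : Type*} [Fintype ι]
    [DecidableEq ι] (A : Subgroup (Matrix.GeneralLinearGroup ι F)) :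
    LinDeg (Fintype.card ι) r A := by
  let f : A →* ((ι → F) →ₗ[F] (ι → F)) :=
    ((Matrix.toLinAlgEquiv' : Matrix ι ι F ≃ₐ[F] _).toAlgHom : Matrix ι ι F →* _).comp
      ((Units.coeHom (Matrix ι ι F)).comp A.subtype)
  refine linDeg_of_hom f ?_ ?_
  · intro x y hxy
    apply Subtype.ext
    apply Units.ext
    exact (Matrix.toLinAlgEquiv' : Matrix ι ι F ≃ₐ[F] _).injective hxy
  · rw [Module.finrank_fintype_fun_eq_card]

theorem linDeg_psl (n : ℕ) (F : Type) [Field F] [Finite F] (r : ℕ) [CharP F r] :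
    LinDeg (n ^ 2) r (Matrix.ProjectiveSpecialLinearGroup (Fin n) F) := by
  have h := linDeg_quot (r := r) (slToMat n F) (fun x y h => Matrix.SpecialLinearGroup.ext _ _
    fun i j => congrFun (congrFun h i) j)
  rwa [Fintype.card_fin] at h

theorem linDeg_psp (m : ℕ) (F : Type) [Field F] [Finite F] (r : ℕ) [CharP F r] :
    LinDeg ((2 * m) ^ 2) r (PSp m F) := by
  have h := linDeg_quot (r := r) ((Matrix.symplecticGroup (Fin m) F).subtype)
    Subtype.val_injective
  rw [Fintype.card_sum, Fintype.card_fin, ← two_mul] at h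
  exact h

theorem linDeg_psu (n q : ℕ) (F : Type) [Field F] [Finite F] (r : ℕ) [CharP F r] :
    LinDeg (n ^ 2) r (PSU n F q) := by
  have h := linDeg_quot (r := r) ((slToMat n F).comp (SU n F q).subtype) (fun x y h => by
    apply Subtype.ext
    exact Matrix.SpecialLinearGroup.ext _ _ fun i j => congrFun (congrFun h i) j)
  rwa [Fintype.card_fin] at h

theorem linDeg_pomega {ι : Type} [Fintype ι] [DecidableEq ι] (F : Type) [Field F] [Finite F]
    (r : ℕ) [CharP F r] (Q : (ι → F) → F) : LinDeg (Fintype.card ι ^ 2) r (POmega F Q) :=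
  linDeg_quot (r := r) ((Units.coeHom (Matrix ι ι F)).comp
    ((isometryGroup F Q).subtype.comp (Omega F Q).subtype)) (fun x y h => by
    apply Subtype.ext
    apply Subtype.ext
    exact Units.ext h)

/-! ### the exceptional groups -/

theorem linDeg_gl {N : ℕ} {F : Type} [Field F] {r : ℕ} [CharP F r] {ι : Type*} [Fintype ι]
    [DecidableEq ι] (A : Subgroup (Matrix.GeneralLinearGroup ι F)) {S : Type*} [Group S]
    (e : Nonempty (S ≃* A)) (hN : Fintype.card ι ≤ N) : LinDeg N r S := by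
  obtain ⟨e⟩ := e
  exact linDeg_congr e (linDeg_mono hN (linDeg_subgroup A))

theorem card_G2 : Fintype.card Lie.chevG2.Idx ≤ 248 := by
  rw [Fintype.card_sum, Fintype.card_fin, Fintype.card_fin]; decide
theorem card_F4 : Fintype.card Lie.chevF4.Idx ≤ 248 := by
  rw [Fintype.card_sum, Fintype.card_fin, Fintype.card_fin]; decide
theorem card_D4 : Fintype.card Lie.chevD4.Idx ≤ 248 := by
  rw [Fintype.card_sum, Fintype.card_fin, Fintype.card_fin]; decide
theorem card_E6 : Fintype.card Lie.chevE6.Idx ≤ 248 := by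
  rw [Fintype.card_sum, Fintype.card_fin, Fintype.card_fin]; decide
theorem card_E7 : Fintype.card Lie.chevE7.Idx ≤ 248 := by
  rw [Fintype.card_sum, Fintype.card_fin, Fintype.card_fin]; decide
theorem card_E8 : Fintype.card Lie.chevE8.Idx ≤ 248 := by
  rw [Fintype.card_sum, Fintype.card_fin, Fintype.card_fin]; decide

theorem exists_char (F : Type) [Field F] [Fintype F] : ∃ r : ℕ, r.Prime ∧ CharP F r := by
  obtain ⟨r, hr⟩ := CharP.exists F
  exact ⟨r, CharP.char_is_prime F r, hr⟩

theorem linDeg_exc {S : Type u} [Group S] (h : IsExceptionalLieType S) (hT : ¬ Lie.IsoTits S) :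
    ∃ r : ℕ, r.Prime ∧ IsLieTypeChar r S ∧ LinDeg 248 r S := by
  rcases h with h | h | h | h | h | h | h | h | h | h | h
  · obtain ⟨F, iF, iF', h3, he⟩ := h
    obtain ⟨r, hr, hc⟩ := exists_char F
    refine ⟨r, hr, ?_, linDeg_gl _ he card_G2⟩
    exact Or.inr (Or.inr (Or.inr (Or.inr (Or.inr (Or.inr (Or.inl
      ⟨F, iF, iF', hc, Or.inl ⟨h3, he⟩⟩))))))
  · obtain ⟨F, iF, iF', he⟩ := h
    obtain ⟨r, hr, hc⟩ := exists_char F
    refine ⟨r, hr, ?_, linDeg_gl _ he card_F4⟩
    exact Or.inr (Or.inr (Or.inr (Or.inr (Or.inr (Or.inr (Or.inl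
      ⟨F, iF, iF', hc, Or.inr (Or.inl he)⟩))))))
  · obtain ⟨F, iF, iF', he⟩ := h
    obtain ⟨r, hr, hc⟩ := exists_char F
    refine ⟨r, hr, ?_, linDeg_gl _ he card_E6⟩
    exact Or.inr (Or.inr (Or.inr (Or.inr (Or.inr (Or.inr (Or.inl
      ⟨F, iF, iF', hc, Or.inr (Or.inr (Or.inl he))⟩))))))
  · obtain ⟨F, iF, iF', he⟩ := h
    obtain ⟨r, hr, hc⟩ := exists_char F
    refine ⟨r, hr, ?_, linDeg_gl _ he card_E7⟩
    exact Or.inr (Or.inr (Or.inr (Or.inr (Or.inr (Or.inr (Or.inl
      ⟨F, iF, iF', hc, Or.inr (Or.inr (Or.inr (Or.inl he)))⟩))))))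
  · obtain ⟨F, iF, iF', he⟩ := h
    obtain ⟨r, hr, hc⟩ := exists_char F
    refine ⟨r, hr, ?_, linDeg_gl _ he card_E8⟩
    exact Or.inr (Or.inr (Or.inr (Or.inr (Or.inr (Or.inr (Or.inl
      ⟨F, iF, iF', hc, Or.inr (Or.inr (Or.inr (Or.inr he)))⟩))))))
  · obtain ⟨F, iF, iF', q, hq, hcard, he⟩ := h
    obtain ⟨r, hr, hc⟩ := exists_char F
    refine ⟨r, hr, ?_, linDeg_gl _ he card_E6⟩
    exact Or.inr (Or.inr (Or.inr (Or.inr (Or.inr (Or.inr (Or.inr (Or.inl
      ⟨F, iF, iF', hc, q, hq, Or.inl ⟨hcard, he⟩⟩)))))))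
  · obtain ⟨F, iF, iF', q, hq, hcard, he⟩ := h
    obtain ⟨r, hr, hc⟩ := exists_char F
    refine ⟨r, hr, ?_, linDeg_gl _ he card_D4⟩
    exact Or.inr (Or.inr (Or.inr (Or.inr (Or.inr (Or.inr (Or.inr (Or.inl
      ⟨F, iF, iF', hc, q, hq, Or.inr ⟨hcard, he⟩⟩)))))))
  · refine ⟨2, Nat.prime_two, Or.inr (Or.inr (Or.inr (Or.inr (Or.inr (Or.inr (Or.inr (Or.inr
      (Or.inl ⟨rfl, h⟩)))))))), ?_⟩
    obtain ⟨F, iF, iF', m, hm, hcard, he⟩ := h
    have : Fact (Nat.Prime 2) := ⟨Nat.prime_two⟩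
    have hc : CharP F 2 := charP_of_card_eq_prime_pow hcard
    exact linDeg_gl _ he (by rw [Fintype.card_fin]; norm_num)
  · refine ⟨3, Nat.prime_three, Or.inr (Or.inr (Or.inr (Or.inr (Or.inr (Or.inr (Or.inr (Or.inr
      (Or.inr (Or.inr ⟨rfl, h⟩))))))))), ?_⟩
    obtain ⟨F, iF, iF', m, hm, hcard, he⟩ := h
    have : Fact (Nat.Prime 3) := ⟨Nat.prime_three⟩
    have hc : CharP F 3 := charP_of_card_eq_prime_pow hcard
    exact linDeg_gl _ he card_G2
  · refine ⟨2, Nat.prime_two, Or.inr (Or.inr (Or.inr (Or.inr (Or.inr (Or.inr (Or.inr (Or.inr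
      (Or.inr (Or.inl ⟨rfl, h⟩))))))))), ?_⟩
    obtain ⟨F, iF, iF', m, hm, hcard, he⟩ := h
    have : Fact (Nat.Prime 2) := ⟨Nat.prime_two⟩
    have hc : CharP F 2 := charP_of_card_eq_prime_pow hcard
    exact linDeg_gl _ he card_F4
  · exact absurd h hT

end Cfsg.Agent.H973.SimsLin
end

-- part: H415/SimsRk
section
/-!
# The Sims conjecture (S3386): Suzuki and Ree groups (helper415)

* `bound_of_ti` : in the configuration `Cfg c p S A Q g` with `A ⊓ S ≠ 1` and `S ≅ Y` with a Sylow `p`-subgroup `U` of `Y` which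
  is a TI set and is normalised by a subgroup `B ≥ U` of order `|U| k`: `k ≤ c`;
* `sz_bound`, `ree_bound`.
-/

set_option autoImplicit false

namespace Cfsg.Agent.H415.SimsRk

open Subgroup Cfsg Cfsg.Agent.H851.Sims

universe u v

/-- in the configuration, `Q ⊓ S ≠ 1` -/
theorem inf_ne_bot {G : Type u} [Group G] {c p : ℕ} {S A Q : Subgroup G} {g : G} (h : Cfg c p S A Q g)
    (hAS : A ⊓ S ≠ ⊥) : Q ⊓ S ≠ ⊥ := by
  intro h0
  apply hAS
  rw [eq_bot_iff]
  intro x hx
  obtain ⟨hxA, hxS⟩ := mem_inf.1 hx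
  have h1 : x ∈ centralizer (Q : Set G) := by
    rw [mem_centralizer_iff]
    intro y hy
    have e1 : y * x * y⁻¹ * x⁻¹ ∈ S := mul_mem (h.norm.conj_mem x hxS y) (inv_mem hxS)
    have e2 : y * x * y⁻¹ * x⁻¹ ∈ Q := by
      have e3 : x * y⁻¹ * x⁻¹ ∈ Q := (mem_normalizer_iff.1 (h.Qnorm hxA) y⁻¹).1 (inv_mem hy)
      have e4 := mul_mem hy e3
      rwa [show y * (x * y⁻¹ * x⁻¹) = y * x * y⁻¹ * x⁻¹ by group] at e4
    have e5 : y * x * y⁻¹ * x⁻¹ ∈ Q ⊓ S := mem_inf.2 ⟨e2, e1⟩
    rw [h0, mem_bot] at e5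
    exact mul_inv_eq_iff_eq_mul.1 (mul_inv_eq_one.1 e5)
  have h2 : x ∈ Q ⊓ S := mem_inf.2 ⟨h.Qcent (mem_inf.2 ⟨h1, hxA⟩), hxS⟩
  rwa [h0] at h2

/-- a nontrivial subgroup of `S` which is a `p`-group is not normal in `G` -/
theorem normalizer_eq {G : Type u} [Group G] [Finite G] {c p : ℕ} {S A Q : Subgroup G} {g : G} (h : Cfg c p S A Q g)
    {V : Subgroup G} (hV : V ≤ S) (hV1 : V ≠ ⊥) (hVp : IsPGroup p V) (hA : A ≤ normalizer (V : Set G)) :
    normalizer (V : Set G) = A := by
  rcases h.coatom.le_iff.1 hA with h1 | h1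
  · exfalso
    have hVn : V.Normal := normalizer_eq_top_iff.1 h1
    have : IsSimpleGroup S := h.simple
    have hn : (V.subgroupOf S).Normal := hVn.subgroupOf S
    have hfact : Fact p.Prime := ⟨h.prime⟩
    have hVS : V = S := by
      rcases hn.eq_bot_or_eq_top with h2 | h2
      · exfalso
        apply hV1
        rw [subgroupOf_eq_bot, disjoint_iff, inf_eq_left.2 hV] at h2
        exact h2
      · rw [subgroupOf_eq_top] at h2
        exact le_antisymm hV h2
    rw [hVS] at hVp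
    have hnt : Nontrivial S := inferInstance
    have hc := hVp.center_nontrivial
    rcases (inferInstance : (center S).Normal).eq_bot_or_eq_top with h2 | h2
    · rw [h2] at hc
      exact absurd hc (not_nontrivial _)
    · obtain ⟨a, ha, b, hb, hab⟩ := h.nonab
      apply hab
      have h3 : (⟨b, hb⟩ : S) ∈ center S := by rw [h2]; trivial
      exact congrArg Subtype.val (mem_center_iff.1 h3 ⟨a, ha⟩)
  · exact h1

/-- **The abstract bound.** -/
theorem bound_of_ti {G : Type u} [Group G] [Finite G] {c p : ℕ} {S A Q : Subgroup G} {g : G} (h : Cfg c p S A Q g)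
    (hAS : A ⊓ S ≠ ⊥) {Y : Type v} [Group Y] [Finite Y] (e : S ≃* Y) {U B : Subgroup Y} (hU : IsPGroup p U)
    (hidx : ¬ p ∣ U.index) (hUB : U ≤ B) (hB : ∀ b ∈ B, ∀ u ∈ U, b * u * b⁻¹ ∈ U)
    (hti : ∀ x ∈ U, x ≠ 1 → ∀ y : Y, y * x * y⁻¹ ∈ U → ∀ z ∈ U, y * z * y⁻¹ ∈ U) {k : ℕ}
    (hk : Nat.card B = Nat.card U * k) : k ≤ c := by
  have hfact : Fact p.Prime := ⟨h.prime⟩
  have hR1 : Q ⊓ S ≠ ⊥ := inf_ne_bot h hAS
  -- the embedding `j₀ : Y → G`
  let j₀ : Y →* G := S.subtype.comp e.symm.toMonoidHom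
  have hj₀ : Function.Injective j₀ := S.subtype_injective.comp e.symm.injective
  have hj₀S : ∀ x ∈ S, ∃ y, j₀ y = x := fun x hx => ⟨e ⟨x, hx⟩, by
    show ((e.symm (e ⟨x, hx⟩) : S) : G) = x
    rw [e.symm_apply_apply]⟩
  -- adjust such that `Q ⊓ S` is in the image of `U`
  have hRp : IsPGroup p ((Q ⊓ S).comap j₀) := (h.Qp.to_le inf_le_left).comap_of_injective j₀ hj₀
  obtain ⟨y, hy⟩ := ClosedTwo.Elem.exists_conj_le (hU.toSylow hidx) hRp
  obtain ⟨j, hj⟩ : ∃ j : Y →* G, j = j₀.comp (MulAut.conj y⁻¹).toMonoidHom := ⟨_, rfl⟩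
  have hjj : ∀ x, j x = j₀ (y⁻¹ * x * y) := by
    intro x
    rw [hj, MonoidHom.comp_apply]
    show j₀ (y⁻¹ * x * y⁻¹⁻¹) = _
    rw [inv_inv]
  have hjinj : Function.Injective j := by
    rw [hj]
    exact hj₀.comp (MulAut.conj y⁻¹).injective
  have hjS : ∀ x, j x ∈ S := fun x => by
    rw [hjj]
    exact (e.symm (y⁻¹ * x * y)).2
  have hjsurj : ∀ x ∈ S, ∃ z, j z = x := fun x hx => by
    obtain ⟨z, hz⟩ := hj₀S x hx
    exact ⟨y * z * y⁻¹, by rw [hjj, ← hz]; congr 1; group⟩
  have hRU : ∀ r ∈ Q ⊓ S, ∃ u ∈ U, j u = r := by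
    intro r hr
    obtain ⟨z, hz⟩ := hj₀S r (mem_inf.1 hr).2
    refine ⟨y * z * y⁻¹, hy z (by rw [mem_comap, hz]; exact hr), ?_⟩
    rw [hjj, ← hz]; congr 1; group
  -- `V = j(U)` is normalised by `A`
  have hAV : A ≤ normalizer ((U.map j : Subgroup G) : Set G) := by
    intro a ha
    refine Transfer.FusionBasic.mem_normalizer_of_conj_mem ?_
    rintro _ ⟨u, hu, rfl⟩
    -- `φ` : the automorphism of `Y` induced by `a`
    have hφ : ∀ z : Y, ∃ w : Y, j w = a * j z * a⁻¹ := fun z => hjsurj _ (h.norm.conj_mem _ (hjS z) a)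
    choose φ hφ using hφ
    have hφm : ∀ z w, φ (z * w) = φ z * φ w := fun z w => hjinj (by
      rw [hφ, map_mul, map_mul, hφ, hφ]; group)
    let Φ : Y →* Y := MonoidHom.mk' φ hφm
    obtain ⟨t, ht⟩ := ClosedTwo.Elem.exists_conj_le (hU.toSylow hidx) (hU.map Φ)
    have ht' : ∀ u ∈ U, t * φ u * t⁻¹ ∈ U := fun u hu => ht (φ u) ⟨u, hu, rfl⟩
    -- a nontrivial element of `R`
    obtain ⟨⟨r, hr⟩, hr1⟩ := Subgroup.ne_bot_iff_exists_ne_one.1 hR1
    have hr1' : r ≠ 1 := fun h0 => hr1 (Subtype.ext h0)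
    have hra : a⁻¹ * r * a ∈ Q ⊓ S := by
      refine mem_inf.2 ⟨?_, ?_⟩
      · have := (mem_normalizer_iff.1 (h.Qnorm (inv_mem ha)) r).1 (mem_inf.1 hr).1
        rwa [inv_inv] at this
      · have := h.norm.conj_mem r (mem_inf.1 hr).2 a⁻¹
        rwa [inv_inv] at this
    obtain ⟨u₀, hu₀, hu₀r⟩ := hRU r hr
    obtain ⟨u₁, hu₁, hu₁r⟩ := hRU _ hra
    have e1 : φ u₁ = u₀ := hjinj (by rw [hφ, hu₁r, hu₀r]; group)
    have hu₀1 : u₀ ≠ 1 := by
      rintro rfl
      rw [map_one] at hu₀r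
      exact hr1' hu₀r.symm
    have e2 : t * u₀ * t⁻¹ ∈ U := by rw [← e1]; exact ht' u₁ hu₁
    have e3 := hti u₀ hu₀ hu₀1 t e2
    have e4 : t ∈ normalizer (U : Set Y) := Transfer.FusionBasic.mem_normalizer_of_conj_mem e3
    have e5 : φ u ∈ U := by
      have e6 := (mem_normalizer_iff.1 (inv_mem e4) _).1 (ht' u hu)
      rwa [show t⁻¹ * (t * φ u * t⁻¹) * t⁻¹⁻¹ = φ u by group] at e6
    rw [← hφ]
    exact ⟨_, e5, rfl⟩
  have hVS : U.map j ≤ S := by
    rintro _ ⟨u, -, rfl⟩
    exact hjS u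
  have hRV : Q ⊓ S ≤ U.map j := fun r hr => by
    obtain ⟨u, hu, e⟩ := hRU r hr
    exact ⟨u, hu, e⟩
  have hV1 : U.map j ≠ ⊥ := fun h0 => hR1 (by rw [eq_bot_iff, ← h0]; exact hRV)
  have hNV := normalizer_eq h hVS hV1 (hU.map j) hAV
  have hVA : U.map j ≤ A := by
    rw [← hNV]
    exact le_normalizer
  have hVQ : U.map j ≤ Q := h.Qmax _ hVA hAV (hU.map j)
  have hBA : B.map j ≤ A := by
    rw [← hNV]
    rintro _ ⟨b, hb, rfl⟩
    refine Transfer.FusionBasic.mem_normalizer_of_conj_mem ?_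
    rintro _ ⟨u, hu, rfl⟩
    exact ⟨b * u * b⁻¹, hB b hb u hu, by rw [map_mul, map_mul, map_inv]⟩
  have hBS : B.map j ≤ S := by
    rintro _ ⟨u, -, rfl⟩
    exact hjS u
  have hQB : Q ⊓ B.map j = U.map j := by
    apply le_antisymm
    · intro x hx
      exact hRV (mem_inf.2 ⟨(mem_inf.1 hx).1, hBS (mem_inf.1 hx).2⟩)
    · exact le_inf hVQ (Subgroup.map_mono hUB)
  have h1 : Q.relIndex (B.map j) ≤ Q.relIndex A := relIndex_le_of_le_right hBA (by
    have := Subgroup.index_ne_zero_of_finite (H := Q.subgroupOf A)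
    exact this)
  rw [← inf_relIndex_right, hQB] at h1
  have h2 : Nat.card (U.map j) * (U.map j).relIndex (B.map j) = Nat.card (B.map j) := by
    rw [← relIndex_bot_left, ← relIndex_bot_left]
    exact relIndex_mul_relIndex _ _ _ bot_le (Subgroup.map_mono hUB)
  rw [Nat.card_congr (U.equivMapOfInjective j hjinj).symm.toEquiv,
    Nat.card_congr (B.equivMapOfInjective j hjinj).symm.toEquiv, hk] at h2
  have h3 : (U.map j).relIndex (B.map j) = k := Nat.eq_of_mul_eq_mul_left Nat.card_pos h2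
  rw [h3] at h1
  exact h1.trans h.Qidx

/-! ### Suzuki groups -/

section suz

open Cfsg.Agent.ThreePrime Cfsg.Agent.ThreePrime.SzRel Cfsg.Agent.LieRecognition.SzMatrix Cfsg.Agent.H70.SzOut

/-- **Suzuki groups.** -/
theorem sz_bound (c : ℕ) : ∃ F : ℕ, ∀ {G : Type u} [Group G] [Finite G] (S A Q : Subgroup G) (g : G), Cfg c 2 S A Q g →
    A ⊓ S ≠ ⊥ → Lie.IsoSuzuki S → Nat.card S ≤ F := by
  refine ⟨(c + 1) ^ 2 * c * ((c + 1) ^ 2 + 1), ?_⟩
  rintro G _ _ S A Q g h hAS ⟨F, iF, iF', m, hm, hF, ⟨e⟩⟩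
  have H := good hF
  obtain ⟨P, hP⟩ := exists_sylow hm hF
  have hT : (ofGood (good hF)).T = (good hF).unip := by
    ext g
    rw [(good hF).mem_unip_iff]
    rfl
  have hfin : Finite ↥(Cfsg.Lie.Sz F (2 ^ (m + 1))) := Finite.of_equiv _ e.toEquiv
  have hcF : Nat.card F = 2 ^ (2 * m + 1) := by rw [Nat.card_eq_fintype_card, hF]
  have hb := bound_of_ti h hAS e (U := H.unip) (B := H.borel) (k := Nat.card F - 1)
    (by rw [← hT, ← hP]; exact P.2) (by rw [← hT, ← hP]; exact P.not_dvd_index) H.unip_le_borel H.borel_normalizes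
    (by
      intro x hx hx1 y hy z hz
      rw [← hT] at hx hy hz ⊢
      exact (mem_normalizer_iff.1 ((ofGood (good hF)).ti hx hx1 hy) z).1 hz)
    (by rw [H.card_borel, H.card_unip])
  have hq : 2 ^ (2 * m + 1) ≤ c + 1 := by
    rw [hcF] at hb
    omega
  rw [Nat.card_congr e.toEquiv, (Cfsg.Agent.S1163.result hm hF).1]
  have h2 : (2 ^ (2 * m + 1)) ^ 2 ≤ (c + 1) ^ 2 := Nat.pow_le_pow_left hq 2
  exact Nat.mul_le_mul (Nat.mul_le_mul h2 (by omega)) (by omega)

end suz

/-! ### Ree groups -/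

section ree

open Cfsg.Lie Cfsg.Agent.ChevalleyStructure.Ree Cfsg.Agent.ChevalleyStructure.Ree.Normal Cfsg.Agent.H71 Cfsg.Agent.LieRecognition
  Cfsg.Agent.LieRecognition.ReeSylowThree Cfsg.Agent.LieRecognition.ReeSplit

/-- **Ree groups.** -/
theorem ree_bound (c : ℕ) : ∃ F : ℕ, ∀ {G : Type u} [Group G] [Finite G] (S A Q : Subgroup G) (g : G), Cfg c 3 S A Q g →
    A ⊓ S ≠ ⊥ → Lie.IsoRee S → Nat.card S ≤ F := by
  refine ⟨(c + 1) ^ 3 * c * ((c + 1) ^ 3 + 1), ?_⟩
  rintro G _ _ S A Q g h hAS ⟨K, iK, iK', m, hm, hK, ⟨e⟩⟩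
  obtain ⟨θ, ctx⟩ := exists_ctx hK
  have D := Data.data ctx
  have hfin : Finite ↥(twistedG2 K (3 ^ m)) := Finite.of_equiv _ e.toEquiv
  obtain ⟨P, hP⟩ := ReeOut.exists_sylow hK D
  have hb := bound_of_ti h hAS e (U := uSub D) (B := bSub D) (k := Fintype.card K - 1)
    (by rw [← hP]; exact P.2) (by
      have : Fact (Nat.Prime 3) := ⟨by norm_num⟩
      rw [← hP]; exact P.not_dvd_index) (uSub_le_bSub D) (fun b hb u hu => conj_mem_uSub D hb hu)
    (by
      intro x hx hx1 y hy z hz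
      exact conj_mem_of D hy hx (by
        intro h0
        exact hx1 (conj_eq_one_iff.1 h0)) (by group) z hz)
    (by rw [card_bSub, card_uSub])
  have hq : Fintype.card K ≤ c + 1 := by omega
  rw [Nat.card_congr e.toEquiv, ReeSylowThree.card_eq D]
  have h2 : (Fintype.card K) ^ 3 ≤ (c + 1) ^ 3 := Nat.pow_le_pow_left hq 3
  exact Nat.mul_le_mul (Nat.mul_le_mul h2 (by omega)) (by omega)

end ree

end Cfsg.Agent.H415.SimsRk
end

-- part: H851/SimsMain
section
/-!
# S3386 (the Sims conjecture): the bound for the almost simple configuration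
-/

set_option autoImplicit false
set_option linter.unusedSectionVars false

namespace Cfsg.Agent.H851.Sims

universe u

open Cfsg Cfsg.Agent.KFacts.RgdLieCharP

/-- small `r'`-subgroups of `S` centralise big `r`-subgroups -/
def LargeC (c K r : ℕ) (S : Type*) [Group S] : Prop :=
  ∀ Z : Subgroup S, Nat.card Z ≤ K → (Nat.card Z).Coprime r →
    ∃ E : Subgroup S, E ≤ Subgroup.centralizer (Z : Set S) ∧ IsPGroup r E ∧ c < Nat.card E

theorem card_map_equiv {S Y : Type*} [Group S] [Group Y] (e : S ≃* Y) (Z : Subgroup S) :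
    Nat.card (Z.map e.toMonoidHom) = Nat.card Z :=
  (Nat.card_congr (Z.equivMapOfInjective _ e.injective).toEquiv).symm

theorem centralizer_of_equiv {S Y : Type*} [Group S] [Group Y] (e : S ≃* Y) {Z : Subgroup S} {E : Subgroup Y}
    (hE : E ≤ Subgroup.centralizer ((Z.map e.toMonoidHom : Subgroup Y) : Set Y)) :
    E.map e.symm.toMonoidHom ≤ Subgroup.centralizer (Z : Set S) := by
  rintro _ ⟨x, hx, rfl⟩
  rw [Subgroup.mem_centralizer_iff]
  intro z hz
  apply e.injective
  have h1 := Subgroup.mem_centralizer_iff.1 (hE hx) (e z) ⟨z, hz, rfl⟩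
  show e (z * e.symm x) = e (e.symm x * z)
  rw [map_mul, map_mul, e.apply_symm_apply]
  exact h1

theorem LargeC.of_equiv {c K r : ℕ} {S Y : Type*} [Group S] [Group Y] (e : S ≃* Y) (h : LargeC c K r Y) :
    LargeC c K r S := by
  intro Z hZ hZr
  rw [← card_map_equiv e Z] at hZ hZr
  obtain ⟨E, hE, hEp, hEc⟩ := h _ hZ hZr
  refine ⟨E.map e.symm.toMonoidHom, centralizer_of_equiv e hE, hEp.map _, ?_⟩
  rwa [card_map_equiv e.symm E]

/-- the classical families, uniformly -/
def Fam (c : ℕ) (P : ∀ (S : Type u) [Group S], Prop) : Prop :=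
  ∃ N : ℕ, ∀ (S : Type u) [Group S], P S → ∃ r : ℕ, r.Prime ∧ IsLieFilt r S ∧ (LinDeg N r S ∨ LargeC c (c ^ c) r S)

theorem prime_of_char (F : Type) [Field F] [Finite F] : ∃ r : ℕ, r.Prime ∧ CharP F r := by
  obtain ⟨r, hr⟩ := CharP.exists F
  exact ⟨r, CharP.char_is_prime F r, hr⟩

section Families

variable (c : ℕ)

theorem fam_psl : Fam.{u} c (fun S _ => IsPSL S) := by
  obtain ⟨n₀, hn₀⟩ := H973.SimsPSL.large_psl c (c ^ c)
  refine ⟨n₀ ^ 2, ?_⟩
  rintro S _ ⟨F, iF, iF', n, hn, hn2, ⟨e⟩⟩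
  obtain ⟨r, hr, hc⟩ := prime_of_char F
  have := Fact.mk hr
  refine ⟨r, hr, Or.inl ⟨F, iF, iF', hc, n, hn, hn2, ⟨e⟩⟩, ?_⟩
  rcases le_or_gt n₀ n with h1 | h1
  · exact Or.inr (LargeC.of_equiv e (hn₀ n h1 F r))
  · exact Or.inl (H973.SimsLin.linDeg_congr e (H973.SimsLin.linDeg_mono (Nat.pow_le_pow_left h1.le 2)
      (H973.SimsLin.linDeg_psl n F r)))

theorem fam_psp (hC : FormsCore) : Fam.{u} c (fun S _ => IsPSp S) := by
  obtain ⟨n₀, hn₀⟩ := H978.SimsPSp.large_psp hC c (c ^ c)
  refine ⟨(2 * n₀) ^ 2, ?_⟩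
  rintro S _ ⟨F, iF, iF', n, hn, hn2, ⟨e⟩⟩
  obtain ⟨r, hr, hc⟩ := prime_of_char F
  have := Fact.mk hr
  refine ⟨r, hr, Or.inr (Or.inl ⟨F, iF, iF', hc, n, hn, hn2, ⟨e⟩⟩), ?_⟩
  rcases le_or_gt n₀ n with h1 | h1
  · exact Or.inr (LargeC.of_equiv e (hn₀ n h1 F r))
  · exact Or.inl (H973.SimsLin.linDeg_congr e (H973.SimsLin.linDeg_mono (Nat.pow_le_pow_left (by omega) 2)
      (H973.SimsLin.linDeg_psp n F r)))

theorem fam_psu (hC : FormsCore) : Fam.{u} c (fun S _ => IsPSU S) := by
  obtain ⟨n₀, hn₀⟩ := H957.Sims.large_psu hC c (c ^ c)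
  refine ⟨n₀ ^ 2, ?_⟩
  rintro S _ ⟨F, iF, iF', n, q, hq, hn, hn2, ⟨e⟩⟩
  obtain ⟨r, hr, hc⟩ := prime_of_char F
  have := Fact.mk hr
  refine ⟨r, hr, Or.inr (Or.inr (Or.inl ⟨F, iF, iF', hc, n, q, hq, hn, hn2, ⟨e⟩⟩)), ?_⟩
  rcases le_or_gt n₀ n with h1 | h1
  · exact Or.inr (LargeC.of_equiv e (hn₀ n h1 F r q (by rw [Nat.card_eq_fintype_card, hq])))
  · exact Or.inl (H973.SimsLin.linDeg_congr e (H973.SimsLin.linDeg_mono (Nat.pow_le_pow_left h1.le 2)
      (H973.SimsLin.linDeg_psu n q F r)))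

theorem fam_odd (hC : FormsCore) : Fam.{u} c (fun S _ => IsPOmegaOdd S) := by
  obtain ⟨n₀, hn₀⟩ := H957.Sims.large_pomega_odd hC c (c ^ c)
  refine ⟨(2 * n₀ + 1) ^ 2, ?_⟩
  rintro S _ ⟨F, iF, iF', n, hn, hn2, ⟨e⟩⟩
  obtain ⟨r, hr, hc⟩ := prime_of_char F
  have := Fact.mk hr
  refine ⟨r, hr, Or.inr (Or.inr (Or.inr (Or.inl ⟨F, iF, iF', hc, n, hn, hn2, ⟨e⟩⟩))), ?_⟩
  rcases le_or_gt n₀ n with h1 | h1
  · refine Or.inr (LargeC.of_equiv e (hn₀ n h1 F r ?_))
    rintro rfl
    obtain ⟨k, hk⟩ := FiniteField.card F 2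
    rw [hk.2] at hn2
    exact Nat.not_even_iff_odd.2 hn2 (even_iff_two_dvd.2 (dvd_pow_self 2 k.pos.ne'))
  · refine Or.inl (H973.SimsLin.linDeg_congr e (H973.SimsLin.linDeg_mono ?_
      (H973.SimsLin.linDeg_pomega F r _)))
    refine Nat.pow_le_pow_left ?_ 2
    simp only [Fintype.card_sum, Fintype.card_fin, Fintype.card_unit]
    omega

theorem fam_plus (hC : FormsCore) : Fam.{u} c (fun S _ => IsPOmegaPlus S) := by
  obtain ⟨n₀, hn₀⟩ := H957.Sims.large_pomega_plus hC c (c ^ c)
  refine ⟨(2 * n₀) ^ 2, ?_⟩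
  rintro S _ ⟨F, iF, iF', n, hn, ⟨e⟩⟩
  obtain ⟨r, hr, hc⟩ := prime_of_char F
  have := Fact.mk hr
  refine ⟨r, hr, Or.inr (Or.inr (Or.inr (Or.inr (Or.inl ⟨F, iF, iF', hc, n, hn, ⟨e⟩⟩)))), ?_⟩
  rcases le_or_gt n₀ n with h1 | h1
  · exact Or.inr (LargeC.of_equiv e (hn₀ n h1 F r))
  · refine Or.inl (H973.SimsLin.linDeg_congr e (H973.SimsLin.linDeg_mono ?_
      (H973.SimsLin.linDeg_pomega F r _)))
    refine Nat.pow_le_pow_left ?_ 2
    simp only [Fintype.card_sum, Fintype.card_fin]
    omega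

theorem fam_minus (hC : FormsCore) : Fam.{u} c (fun S _ => IsPOmegaMinus S) := by
  obtain ⟨n₀, hn₀⟩ := H957.Sims.large_pomega_minus hC c (c ^ c)
  refine ⟨(2 * n₀ + 4) ^ 2, ?_⟩
  rintro S _ ⟨F, iF, iF', n, a, b, hn, hab, ⟨e⟩⟩
  obtain ⟨r, hr, hc⟩ := prime_of_char F
  have := Fact.mk hr
  refine ⟨r, hr, Or.inr (Or.inr (Or.inr (Or.inr (Or.inr (Or.inl ⟨F, iF, iF', hc, n, a, b, hn, hab, ⟨e⟩⟩))))), ?_⟩
  rcases le_or_gt n₀ (n - 1) with h1 | h1
  · exact Or.inr (LargeC.of_equiv e (hn₀ (n - 1) h1 F r a b hab))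
  · refine Or.inl (H973.SimsLin.linDeg_congr e (H973.SimsLin.linDeg_mono ?_
      (H973.SimsLin.linDeg_pomega F r _)))
    refine Nat.pow_le_pow_left ?_ 2
    simp only [Fintype.card_sum, Fintype.card_fin]
    omega

end Families

/-- the conclusion for a class of simple groups -/
def Bd (c : ℕ) (P : ∀ (S : Type u) [Group S], Prop) : Prop :=
  ∃ F : ℕ, ∀ {G : Type u} [Group G] [Finite G] (p : ℕ) (S A Q : Subgroup G) (g : G),
    Cfg c p S A Q g → A ⊓ S ≠ ⊥ → P ↥S → Nat.card (A ⊓ S : Subgroup G) ≤ F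

/-- the cross characteristic bound -/
def Cross : Prop := ∀ (c N : ℕ), ∃ F : ℕ, ∀ {G : Type u} [Group G] [Finite G] (p r : ℕ) (S A Q : Subgroup G) (g : G),
    Cfg c p S A Q g → r.Prime → p ≠ r → LinDeg N r S → Nat.card (A ⊓ S : Subgroup G) ≤ F

theorem card_inf_le {G : Type*} [Group G] [Finite G] (A S : Subgroup G) :
    Nat.card (A ⊓ S : Subgroup G) ≤ Nat.card S := Subgroup.card_le_of_le inf_le_right

theorem Bd.or {c : ℕ} {P P' : ∀ (S : Type u) [Group S], Prop} (h : Bd c P) (h' : Bd c P') :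
    Bd c (fun S _ => P S ∨ P' S) := by
  obtain ⟨F, hF⟩ := h
  obtain ⟨F', hF'⟩ := h'
  refine ⟨max F F', ?_⟩
  intro G _ _ p S A Q g h1 h2 h3
  rcases h3 with h3 | h3
  · exact le_trans (hF p S A Q g h1 h2 h3) (le_max_left _ _)
  · exact le_trans (hF' p S A Q g h1 h2 h3) (le_max_right _ _)

/-- the class given by a class of `IsLieFilt` groups with the dichotomy -/
theorem Bd.of_fam (hX : Cross.{u}) {c : ℕ} {P : ∀ (S : Type u) [Group S], Prop} (h : Fam c P) : Bd c P := by
  obtain ⟨N, hN⟩ := h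
  obtain ⟨F, hF⟩ := filt_bound.{u} c
  obtain ⟨F', hF'⟩ := hX c N
  refine ⟨max F F', ?_⟩
  intro G _ _ p S A Q g h1 h2 h3
  obtain ⟨r, hr, hfilt, hd⟩ := hN S h3
  by_cases hpr : p = r
  · subst hpr
    exact le_trans (card_inf_le A S) (le_trans (hF p S A Q g h1 h2 (hasFilt_of_lie hfilt)) (le_max_left _ _))
  · rcases hd with hd | hd
    · exact le_trans (hF' p r S A Q g h1 hr hpr hd) (le_max_right _ _)
    · exfalso
      refine h1.bound_of_large h2 (c ^ c) le_rfl fun Z hZ hZp => ?_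
      obtain ⟨E, hE, hEr, hEc⟩ := hd Z hZ (by
        have := Fact.mk h1.prime
        obtain ⟨k, hk⟩ := IsPGroup.iff_card.1 hZp
        rw [hk]
        exact Nat.Coprime.pow_left k ((Nat.coprime_primes h1.prime hr).2 hpr))
      exact ⟨r, E, hr, Ne.symm hpr, hE, hEr, hEc⟩

theorem bd_alt (c : ℕ) : Bd.{u} c (fun S _ => IsAlternating S) := by
  have h0 : ∀ p : ℕ, ∃ n₀ : ℕ, p.Prime → ∀ n : ℕ, n₀ ≤ n →
      ∀ Z : Subgroup (alternatingGroup (Fin n)), Nat.card Z ≤ c ^ c →
      ∃ (r : ℕ) (E : Subgroup (alternatingGroup (Fin n))), r.Prime ∧ r ≠ p ∧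
        E ≤ Subgroup.centralizer (Z : Set (alternatingGroup (Fin n))) ∧ IsPGroup r E ∧ c < Nat.card E := by
    intro p
    by_cases hp : p.Prime
    · obtain ⟨n₀, hn₀⟩ := H717.Sims.large_alt c (c ^ c) p hp
      exact ⟨n₀, fun _ => hn₀⟩
    · exact ⟨0, fun h1 => absurd h1 hp⟩
  choose f hf using h0
  refine ⟨(∑ p ∈ Finset.range (c + 1), f p).factorial, ?_⟩
  rintro G _ _ p S A Q g h1 h2 ⟨n, hn, ⟨e⟩⟩
  by_cases hn0 : f p ≤ n
  · exfalso
    refine h1.bound_of_large h2 (c ^ c) le_rfl fun Z hZ _ => ?_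
    rw [← card_map_equiv e Z] at hZ
    obtain ⟨r, E, hr, hrp, hE, hEp, hEc⟩ := hf p h1.prime n hn0 _ hZ
    refine ⟨r, E.map e.symm.toMonoidHom, hr, hrp, centralizer_of_equiv e hE, hEp.map _, ?_⟩
    rwa [card_map_equiv e.symm E]
  · refine le_trans (card_inf_le A S) ?_
    have h3 : Nat.card S = Nat.card (alternatingGroup (Fin n)) := Nat.card_congr e.toEquiv
    have h4 : Nat.card (alternatingGroup (Fin n)) ≤ n.factorial := by
      have h5 : Nat.card (alternatingGroup (Fin n)) ≤ Nat.card (Equiv.Perm (Fin n)) :=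
        Nat.card_le_card_of_injective _ Subtype.val_injective
      rwa [Nat.card_perm, Nat.card_fin] at h5
    rw [h3]
    refine le_trans h4 (Nat.factorial_le ?_)
    have h6 : f p ≤ ∑ p ∈ Finset.range (c + 1), f p :=
      Finset.single_le_sum (f := f) (fun _ _ => Nat.zero_le _) (Finset.mem_range.2 (by have := h1.ple; omega))
    omega

/-- exceptional groups of Lie type and sporadic groups -/
theorem bd_exc (hX : Cross.{u}) (hT : ∀ c : ℕ, ∃ F : ℕ, ∀ {G : Type u} [Group G] [Finite G] (S A Q : Subgroup G) (g : G),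
      Cfg c 2 S A Q g → A ⊓ S ≠ ⊥ → Lie.Iso2F4 S → Nat.card S ≤ F) (c : ℕ) :
    Bd.{u} c (fun S _ => IsExceptionalLieType S ∨ IsSporadicGroup S) := by
  obtain ⟨F₁, hF₁⟩ := filt_bound.{u} c
  obtain ⟨F₂, hF₂⟩ := hX c 248
  obtain ⟨F₃, hF₃⟩ := hT c
  obtain ⟨F₄, hF₄⟩ := H415.SimsRk.sz_bound.{u} c
  obtain ⟨F₅, hF₅⟩ := H415.SimsRk.ree_bound.{u} c
  obtain ⟨F₆, hF₆⟩ := H36.Sims.Spor.spor_bound.{u}
  refine ⟨F₁ + F₂ + F₃ + F₄ + F₅ + F₆, ?_⟩
  intro G _ _ p S A Q g h1 h2 h3
  have hle := card_inf_le A S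
  by_cases h4 : IsSporadicGroup S ∨ Lie.IsoTits S
  · have := hF₆ h4
    omega
  push Not at h4
  obtain ⟨r, hr, hlie, hlin⟩ := H973.SimsLin.linDeg_exc (h3.resolve_right h4.1) h4.2
  by_cases hpr : p = r
  · subst hpr
    have key : IsLieFilt p S → Nat.card (A ⊓ S : Subgroup G) ≤ F₁ + F₂ + F₃ + F₄ + F₅ + F₆ := by
      intro h5
      have := hF₁ p S A Q g h1 h2 (hasFilt_of_lie h5)
      omega
    rcases hlie with h5 | h5 | h5 | h5 | h5 | h5 | h5 | h5 | ⟨rfl, h5⟩ | ⟨rfl, h5⟩ | ⟨rfl, h5⟩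
    · exact key (Or.inl h5)
    · exact key (Or.inr (Or.inl h5))
    · exact key (Or.inr (Or.inr (Or.inl h5)))
    · exact key (Or.inr (Or.inr (Or.inr (Or.inl h5))))
    · exact key (Or.inr (Or.inr (Or.inr (Or.inr (Or.inl h5)))))
    · exact key (Or.inr (Or.inr (Or.inr (Or.inr (Or.inr (Or.inl h5))))))
    · exact key (Or.inr (Or.inr (Or.inr (Or.inr (Or.inr (Or.inr (Or.inl h5)))))))
    · exact key (Or.inr (Or.inr (Or.inr (Or.inr (Or.inr (Or.inr (Or.inr h5)))))))
    · have := hF₄ S A Q g h1 h2 h5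
      omega
    · have := hF₃ S A Q g h1 h2 h5
      omega
    · have := hF₅ S A Q g h1 h2 h5
      omega
  · have := hF₂ p r S A Q g h1 hr hpr hlin
    omega

/-- **The almost simple case.** -/
theorem as_bound (hC : FormsCore) (hX : Cross.{u})
    (hT : ∀ c : ℕ, ∃ F : ℕ, ∀ {G : Type u} [Group G] [Finite G] (S A Q : Subgroup G) (g : G),
      Cfg c 2 S A Q g → A ⊓ S ≠ ⊥ → Lie.Iso2F4 S → Nat.card S ≤ F)
    (hK : ∀ (S : Type u) [Group S] [Finite S] [IsSimpleGroup S], IsKnownSimple' S) (c : ℕ) :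
    ∃ F : ℕ, ∀ {G : Type u} [Group G] [Finite G] (p : ℕ) (S A Q : Subgroup G) (g : G),
      Cfg c p S A Q g → Nat.card (A ⊓ S : Subgroup G) ≤ F := by
  obtain ⟨F, hF⟩ := ((((((((bd_alt.{u} c).or (Bd.of_fam hX (fam_psl c))).or (Bd.of_fam hX (fam_psp c hC))).or
    (Bd.of_fam hX (fam_psu c hC))).or (Bd.of_fam hX (fam_odd c hC))).or (Bd.of_fam hX (fam_plus c hC))).or
    (Bd.of_fam hX (fam_minus c hC))).or (bd_exc hX hT c))
  refine ⟨F + 1, ?_⟩
  intro G _ _ p S A Q g h
  by_cases hAS : A ⊓ S = ⊥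
  · rw [hAS, Subgroup.card_bot]; omega
  refine le_trans (hF p S A Q g h hAS ?_) (Nat.le_succ _)
  have := h.simple
  rcases hK ↥S with h1 | h1 | h1 | h1 | h1 | h1 | h1 | h1 | h1 | h1
  · exfalso
    have hfact : Fact (Nat.Prime (Nat.card ↥S)) := ⟨h1⟩
    obtain ⟨a, ha, b, hb, hab⟩ := h.nonab
    have hcyc : IsCyclic ↥S := isCyclic_of_prime_card (p := Nat.card ↥S) rfl
    let _ : CommGroup ↥S := IsCyclic.commGroup
    exact hab (congrArg Subtype.val (mul_comm (⟨a, ha⟩ : ↥S) ⟨b, hb⟩))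
  · exact Or.inl (Or.inl (Or.inl (Or.inl (Or.inl (Or.inl (Or.inl h1))))))
  · exact Or.inl (Or.inl (Or.inl (Or.inl (Or.inl (Or.inl (Or.inr h1))))))
  · exact Or.inl (Or.inl (Or.inl (Or.inl (Or.inl (Or.inr h1)))))
  · exact Or.inl (Or.inl (Or.inl (Or.inl (Or.inr h1))))
  · exact Or.inl (Or.inl (Or.inl (Or.inr h1)))
  · exact Or.inl (Or.inl (Or.inr h1))
  · exact Or.inl (Or.inr h1)
  · exact Or.inr (Or.inl h1)
  · exact Or.inr (Or.inr h1)

end Cfsg.Agent.H851.Sims
end

-- part: H989/Sims/Base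
section
/-!
# Reflexive sesquilinear forms: the constant `κ`, orthogonal spaces, averaged Siegel elements

`D : FormData F V`, `X` a finite group of isometries.

* `exists_kappa` : `f u v = κ σ(f v u)`, `σ² = 1`, `κ σ(κ) = 1`;
* `TS D M` : `M` is totally singular; `perp D M`, `finrank_perp`;
* `N u w = ∑_{x ∈ X} (f(·, x u) x w - σ(κ) f(·, x w) x u)`; `el` : the isometry `1 + N`.
-/

set_option autoImplicit false

namespace Cfsg.Agent.H989.Sims

open Cfsg.Agent.H851.Sims
open scoped commutatorElement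

variable {F V : Type} [Field F] [AddCommGroup V] [Module F V] (D : FormData F V)

theorem f_zero_left (v : V) : D.f 0 v = 0 := by
  have h := D.smul_left 0 0 v
  rwa [zero_smul, zero_mul] at h

theorem f_zero_right (v : V) : D.f v 0 = 0 := by
  have h := D.smul_right 0 v 0
  rwa [zero_smul, map_zero, zero_mul] at h

/-- `f(·, v)`. -/
def fL (v : V) : V →ₗ[F] F where
  toFun u := D.f u v
  map_add' a b := D.add_left a b v
  map_smul' a b := D.smul_left a b v

theorem fL_apply (u v : V) : fL D v u = D.f u v := rfl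

/-- `f(v, ·)`. -/
def fR (v : V) : V →+ F where
  toFun u := D.f v u
  map_zero' := f_zero_right D v
  map_add' a b := D.add_right v a b

theorem f_sub_left (u v w : V) : D.f (u - v) w = D.f u w - D.f v w := (fL D w).map_sub u v

theorem f_sub_right (u v w : V) : D.f u (v - w) = D.f u v - D.f u w := (fR D u).map_sub v w

theorem f_sum_left {ι : Type*} (s : Finset ι) (g : ι → V) (v : V) :
    D.f (∑ i ∈ s, g i) v = ∑ i ∈ s, D.f (g i) v := map_sum (fL D v) g s

theorem f_sum_right {ι : Type*} (s : Finset ι) (g : ι → V) (v : V) :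
    D.f v (∑ i ∈ s, g i) = ∑ i ∈ s, D.f v (g i) := map_sum (fR D v) g s

theorem nondeg_right {u : V} (h : ∀ v, D.f v u = 0) : u = 0 := D.nondeg u fun v => D.refl v u (h v)

theorem Q_zero : D.Q 0 = 0 := by
  have h := D.Q_add 0 0
  rw [add_zero, f_zero_left, map_zero, add_zero] at h
  exact left_eq_add.1 h

/-- A vector separating `w₁` from an independent `w₂`. -/
theorem exists_sep {w₁ w₂ : V} (h : ∀ a : F, w₁ ≠ a • w₂) : ∃ v, D.f v w₁ = 1 ∧ D.f v w₂ = 0 := by
  -- otherwise `f(·, w₁)` vanishes on the kernel of `f(·, w₂)`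
  by_contra hcon
  push Not at hcon
  have h1 : ∀ v, D.f v w₂ = 0 → D.f v w₁ = 0 := by
    intro v hv
    by_contra hne
    apply hcon ((D.f v w₁)⁻¹ • v)
    · rw [D.smul_left, inv_mul_cancel₀ hne]
    · rw [D.smul_left, hv, mul_zero]
  have h2 : LinearMap.ker (fL D w₂) ≤ LinearMap.ker (fL D w₁) := fun v hv => h1 v hv
  -- `f(·, w₁) = c f(·, w₂)`
  by_cases h0 : ∃ v₀, D.f v₀ w₂ = 1
  · obtain ⟨v₀, hv₀⟩ := h0
    have h3 : ∀ v, D.f v w₁ = D.f v w₂ * D.f v₀ w₁ := by
      intro v
      have h4 : D.f (v - D.f v w₂ • v₀) w₂ = 0 := by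
        rw [f_sub_left, D.smul_left, hv₀, mul_one, sub_self]
      have h5 := h1 _ h4
      rw [f_sub_left, D.smul_left, sub_eq_zero] at h5
      exact h5
    -- `σ` may fail to be onto a priori: use reflexivity
    -- `f(w₁, v) = 0` iff `f(w₂, v) * f(v₀, w₁) = 0`
    have h6 : ∀ v, D.f v (w₁ - D.f w₁ v₀ • (D.f w₂ v₀)⁻¹ • w₂) = 0 := by
      intro v
      have hw2 : D.f w₂ v₀ ≠ 0 := fun h => one_ne_zero (hv₀.symm.trans (D.refl _ _ h))
      have h7 : D.f (w₁ - D.f w₁ v₀ • (D.f w₂ v₀)⁻¹ • w₂) v₀ = 0 := by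
        rw [f_sub_left, D.smul_left, D.smul_left, inv_mul_cancel₀ hw2, mul_one, sub_self]
      have h8 := D.refl _ _ h7
      -- `f(·, w₁ - c w₂)` is a multiple of `f(·, w₂)` vanishing at `v₀`
      rw [f_sub_right, D.smul_right, D.smul_right, h3 v]
      rw [f_sub_right, D.smul_right, D.smul_right, hv₀] at h8
      linear_combination D.f v w₂ * h8
    have h7 := nondeg_right D h6
    rw [sub_eq_zero, smul_smul] at h7
    exact h _ h7
  · push Not at h0
    have h3 : w₂ = 0 := by
      apply nondeg_right D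
      intro v
      by_contra hne
      apply h0 ((D.f v w₂)⁻¹ • v)
      rw [D.smul_left, inv_mul_cancel₀ hne]
    have h4 : w₁ = 0 := nondeg_right D fun v => h1 v (by rw [h3, f_zero_right])
    exact h 0 (by rw [h4, zero_smul])

theorem kappa_one {w : V} (hw : w ≠ 0) : ∃ κ : F, ∀ v, D.f w v = κ * D.σ (D.f v w) := by
  obtain ⟨v₀, hv₀⟩ : ∃ v₀, D.f v₀ w = 1 := by
    by_contra hcon
    push Not at hcon
    apply hw
    apply nondeg_right D
    intro v
    by_contra hne
    apply hcon ((D.f v w)⁻¹ • v)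
    rw [D.smul_left, inv_mul_cancel₀ hne]
  refine ⟨D.f w v₀, fun v => ?_⟩
  have h4 : D.f (v - D.f v w • v₀) w = 0 := by
    rw [f_sub_left, D.smul_left, hv₀, mul_one, sub_self]
  have h5 := D.refl _ _ h4
  rw [f_sub_right, D.smul_right, sub_eq_zero] at h5
  rw [h5, mul_comm]

theorem exists_kappa [Module.Finite F V] (h2 : 2 ≤ Module.finrank F V) :
    ∃ κ : F, κ * D.σ κ = 1 ∧ (∀ u v, D.f u v = κ * D.σ (D.f v u)) ∧ ∀ a, D.σ (D.σ a) = a := by
  -- independent vectors have the same constant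
  have key : ∀ {w₁ w₂ : V} {κ₁ κ₂ : F}, (∀ a : F, w₁ ≠ a • w₂) → (∀ a : F, w₂ ≠ a • w₁) →
      (∀ v, D.f w₁ v = κ₁ * D.σ (D.f v w₁)) → (∀ v, D.f w₂ v = κ₂ * D.σ (D.f v w₂)) → κ₁ = κ₂ := by
    intro w₁ w₂ κ₁ κ₂ h12 h21 h1 h2
    have h3 : w₁ + w₂ ≠ 0 := by
      intro h
      apply h12 (-1)
      rw [neg_one_smul]
      exact eq_neg_of_add_eq_zero_left h
    obtain ⟨κ, hκ⟩ := kappa_one D h3
    obtain ⟨v₁, hv1, hv1'⟩ := exists_sep D h12
    obtain ⟨v₂, hv2, hv2'⟩ := exists_sep D h21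
    have e1 := hκ v₁
    rw [D.add_left, D.add_right, hv1, hv1', add_zero, map_one, mul_one, h1, h2, hv1, hv1', map_one, map_zero, mul_zero,
      add_zero, mul_one] at e1
    have e2 := hκ v₂
    rw [D.add_left, D.add_right, hv2, hv2', zero_add, map_one, mul_one, h1, h2, hv2, hv2', map_one, map_zero, mul_zero,
      zero_add, mul_one] at e2
    rw [e1, e2]
  -- every vector has an independent one
  have hind : ∀ {w : V}, w ≠ 0 → ∃ w', (∀ a : F, w ≠ a • w') ∧ ∀ a : F, w' ≠ a • w := by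
    intro w hw
    by_contra hcon
    push Not at hcon
    have h3 : (⊤ : Submodule F V) ≤ Submodule.span F {w} := by
      intro w' _
      rw [Submodule.mem_span_singleton]
      by_cases h4 : ∀ a : F, w ≠ a • w'
      · obtain ⟨a, ha⟩ := hcon w' h4
        exact ⟨a, ha.symm⟩
      · push Not at h4
        obtain ⟨a, ha⟩ := h4
        have ha0 : a ≠ 0 := by
          rintro rfl
          rw [zero_smul] at ha
          exact hw ha
        exact ⟨a⁻¹, by rw [ha, smul_smul, inv_mul_cancel₀ ha0, one_smul]⟩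
    have h4 := Submodule.finrank_mono h3
    rw [finrank_top] at h4
    have h5 := finrank_span_singleton (K := F) hw
    omega
  have hnt : Nontrivial V := Module.nontrivial_of_finrank_pos (R := F) (by omega)
  obtain ⟨w₀, hw₀⟩ := exists_ne (0 : V)
  obtain ⟨κ, hκ⟩ := kappa_one D hw₀
  have hall : ∀ u v, D.f u v = κ * D.σ (D.f v u) := by
    intro u v
    by_cases hu : u = 0
    · rw [hu, f_zero_left, f_zero_right, map_zero, mul_zero]
    obtain ⟨κ', hκ'⟩ := kappa_one D hu
    have : κ' = κ := by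
      by_cases h1 : (∀ a : F, u ≠ a • w₀) ∧ ∀ a : F, w₀ ≠ a • u
      · exact key h1.1 h1.2 hκ' hκ
      · obtain ⟨w', hw1, hw2⟩ := hind hw₀
        have hw'0 : w' ≠ 0 := by
          rintro rfl
          exact hw2 0 (by rw [zero_smul])
        obtain ⟨κ'', hκ''⟩ := kappa_one D hw'0
        have e1 := key hw1 hw2 hκ hκ''
        have h3 : ∃ c : F, c ≠ 0 ∧ u = c • w₀ := by
          by_contra hcon
          push Not at hcon
          apply h1
          constructor
          · intro a ha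
            by_cases ha0 : a = 0
            · rw [ha0, zero_smul] at ha
              exact hu ha
            · exact hcon a ha0 ha
          · intro a ha
            have ha0 : a ≠ 0 := by
              rintro rfl
              rw [zero_smul] at ha
              exact hw₀ ha
            exact hcon a⁻¹ (inv_ne_zero ha0) (by rw [ha, smul_smul, inv_mul_cancel₀ ha0, one_smul])
        obtain ⟨c, hc, rfl⟩ := h3
        have e2 := key (w₁ := c • w₀) (w₂ := w') (κ₁ := κ') (κ₂ := κ'') (by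
          intro a ha
          apply hw1 (c⁻¹ * a)
          rw [mul_smul, ← ha, smul_smul, inv_mul_cancel₀ hc, one_smul]) (by
          intro a ha
          exact hw2 (a * c) (by rw [mul_smul]; exact ha)) hκ' hκ''
        rw [e2, e1]
    rw [hκ', this]
  obtain ⟨v₀, hv₀⟩ : ∃ v₀, D.f v₀ w₀ = 1 := by
    by_contra hcon
    push Not at hcon
    apply hw₀
    apply nondeg_right D
    intro v
    by_contra hne
    apply hcon ((D.f v w₀)⁻¹ • v)
    rw [D.smul_left, inv_mul_cancel₀ hne]
  have h1 := hall v₀ w₀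
  have h3 := hall w₀ v₀
  rw [hv₀, map_one, mul_one] at h3
  rw [hv₀, h3] at h1
  refine ⟨κ, h1.symm, hall, fun a => ?_⟩
  have h4 := hall (a • v₀) w₀
  rw [hall w₀ (a • v₀), D.smul_left, hv₀, mul_one, map_mul, ← mul_assoc, ← h1, one_mul] at h4
  exact h4.symm

/-! ### Totally singular subspaces and orthogonal spaces -/

/-- Totally singular subspaces. -/
def TS (M : Submodule F V) : Prop := (∀ u ∈ M, ∀ v ∈ M, D.f u v = 0) ∧ ∀ v ∈ M, D.Q v = 0

theorem TS.mono {M N : Submodule F V} (h : TS D N) (hMN : M ≤ N) : TS D M :=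
  ⟨fun u hu v hv => h.1 u (hMN hu) v (hMN hv), fun v hv => h.2 v (hMN hv)⟩

theorem TS.sup {M N : Submodule F V} (hM : TS D M) (hN : TS D N) (h : ∀ u ∈ M, ∀ v ∈ N, D.f u v = 0) :
    TS D (M ⊔ N) := by
  constructor
  · intro u hu v hv
    obtain ⟨a, ha, b, hb, rfl⟩ := Submodule.mem_sup.1 hu
    obtain ⟨a', ha', b', hb', rfl⟩ := Submodule.mem_sup.1 hv
    rw [D.add_left, D.add_right, D.add_right, hM.1 a ha a' ha', hN.1 b hb b' hb', h a ha b' hb',
      D.refl _ _ (h a' ha' b hb)]
    simp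
  · intro v hv
    obtain ⟨a, ha, b, hb, rfl⟩ := Submodule.mem_sup.1 hv
    rw [D.Q_add, hM.2 a ha, hN.2 b hb, h a ha b hb, map_zero]
    simp

/-- The orthogonal space. -/
def perp (M : Submodule F V) : Submodule F V where
  carrier := {v | ∀ u ∈ M, D.f v u = 0}
  add_mem' {a b} ha hb u hu := by rw [D.add_left, ha u hu, hb u hu, add_zero]
  zero_mem' u _ := f_zero_left D u
  smul_mem' c a ha u hu := by rw [D.smul_left, ha u hu, mul_zero]

theorem mem_perp' {M : Submodule F V} {v : V} : v ∈ perp D M ↔ ∀ u ∈ M, D.f u v = 0 :=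
  ⟨fun h u hu => D.refl _ _ (h u hu), fun h u hu => D.refl _ _ (h u hu)⟩

theorem perp_anti {M N : Submodule F V} (h : M ≤ N) : perp D N ≤ perp D M := fun _ hv u hu => hv u (h hu)

theorem TS.le_perp {M : Submodule F V} (h : TS D M) : M ≤ perp D M := fun v hv u hu => h.1 v hv u hu

theorem finrank_le_perp [Module.Finite F V] (M : Submodule F V) :
    Module.finrank F V ≤ Module.finrank F (perp D M) + Module.finrank F M := by
  let b := Module.finBasis F M
  let g : V →ₗ[F] (Fin (Module.finrank F M) → F) := LinearMap.pi fun i => fL D (b i : V)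
  have hker : LinearMap.ker g ≤ perp D M := by
    intro v hv u hu
    have h1 : ∀ i, D.f v (b i : V) = 0 := fun i => congrFun (LinearMap.mem_ker.1 hv) i
    have h2 := b.sum_repr ⟨u, hu⟩
    have h3 : u = ∑ i, (b.repr ⟨u, hu⟩ i) • (b i : V) := by
      have := congrArg Subtype.val h2
      rw [Submodule.coe_sum] at this
      exact this.symm
    rw [h3, f_sum_right]
    exact Finset.sum_eq_zero fun i _ => by rw [D.smul_right, h1, mul_zero]
  have h1 := g.finrank_range_add_finrank_ker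
  have h2 : Module.finrank F (LinearMap.range g) ≤ Module.finrank F M := by
    have := Submodule.finrank_le (LinearMap.range g)
    rwa [Module.finrank_fintype_fun_eq_card, Fintype.card_fin] at this
  have h3 := Submodule.finrank_mono hker
  omega

theorem perp_add_finrank_le [Finite F] [Module.Finite F V] (M : Submodule F V) :
    Module.finrank F (perp D M) + Module.finrank F M ≤ Module.finrank F V := by
  have hfV : Finite V := Module.finite_of_finite F
  -- `M` embeds in the dual of `V / M^⊥`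
  let g : M → Module.Dual F (V ⧸ perp D M) := fun u =>
    (perp D M).liftQ (fL D (u : V)) (fun v hv => hv u u.2)
  have hg : Function.Injective g := by
    intro u u' h
    have h1 : ∀ v, D.f v (u : V) = D.f v (u' : V) := by
      intro v
      have := LinearMap.congr_fun h ((perp D M).mkQ v)
      exact this
    apply Subtype.ext
    rw [← sub_eq_zero]
    apply nondeg_right D
    intro v
    rw [f_sub_right, h1, sub_self]
  have hfd : Finite (Module.Dual F (V ⧸ perp D M)) := Module.finite_of_finite F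
  have h1 := Nat.card_le_card_of_injective g hg
  rw [Module.natCard_eq_pow_finrank (K := F) (V := M),
    Module.natCard_eq_pow_finrank (K := F) (V := Module.Dual F (V ⧸ perp D M)), Subspace.dual_finrank_eq] at h1
  have h2 := (Nat.pow_le_pow_iff_right (Finite.one_lt_card (α := F))).1 h1
  have h3 := (perp D M).finrank_quotient_add_finrank
  omega

theorem finrank_perp [Finite F] [Module.Finite F V] (M : Submodule F V) :
    Module.finrank F (perp D M) + Module.finrank F M = Module.finrank F V :=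
  le_antisymm (perp_add_finrank_le D M) (finrank_le_perp D M)

/-! ### Averaged Siegel elements -/

section El

variable {D} {κ : F} {X : Subgroup (V ≃ₗ[F] V)} [Fintype X]

variable (D κ X) in
/-- The operator `∑ₓ f(·, x u) x w - σ(κ) f(·, x w) x u`. -/
noncomputable def N (u w : V) : V →ₗ[F] V :=
  ∑ x : X, ((fL D (x.1 u)).smulRight (x.1 w) - (D.σ κ) • (fL D (x.1 w)).smulRight (x.1 u))

theorem N_apply (u w v : V) : N D κ X u w v =
    ∑ x : X, (D.f v (x.1 u) • x.1 w - (D.σ κ) • (D.f v (x.1 w) • x.1 u)) := by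
  rw [N, LinearMap.sum_apply]
  rfl

theorem N_add_left (u u' w : V) : N D κ X (u + u') w = N D κ X u w + N D κ X u' w := by
  ext v
  rw [LinearMap.add_apply, N_apply, N_apply, N_apply, ← Finset.sum_add_distrib]
  refine Finset.sum_congr rfl fun x _ => ?_
  rw [map_add, D.add_right]
  module

theorem N_zero_left (w : V) : N D κ X 0 w = 0 := by
  have h := N_add_left (D := D) (κ := κ) (X := X) 0 0 w
  rw [add_zero] at h
  exact left_eq_add.1 h

theorem N_neg_left (u w : V) : N D κ X (-u) w = -N D κ X u w := by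
  have h := N_add_left (D := D) (κ := κ) (X := X) u (-u) w
  rw [add_neg_cancel, N_zero_left] at h
  exact (neg_eq_of_add_eq_zero_right h.symm).symm

/-- Commutation with the elements of `X`. -/
theorem N_comm (hX : X ≤ D.isom) (u w : V) {y : V ≃ₗ[F] V} (hy : y ∈ X) (v : V) :
    N D κ X u w (y v) = y (N D κ X u w v) := by
  rw [N_apply, N_apply, map_sum]
  refine Fintype.sum_equiv (Equiv.mulLeft (⟨y, hy⟩ : X)⁻¹) _ _ fun x => ?_
  have h1 : ∀ z, D.f (y v) (x.1 z) = D.f v ((y⁻¹ * x.1) z) := by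
    intro z
    rw [← (hX hy).1 v]
    congr 1
    exact (y.apply_symm_apply (x.1 z)).symm
  have h2 : ∀ z, x.1 z = y ((y⁻¹ * x.1) z) := fun z => (y.apply_symm_apply (x.1 z)).symm
  rw [map_sub, map_smul, map_smul, map_smul, h1, h1]
  change D.f v ((y⁻¹ * x.1) u) • x.1 w - (D.σ κ) • (D.f v ((y⁻¹ * x.1) w) • x.1 u) =
    D.f v ((y⁻¹ * x.1) u) • y ((y⁻¹ * x.1) w) - (D.σ κ) • (D.f v ((y⁻¹ * x.1) w) • y ((y⁻¹ * x.1) u))
  rw [← h2, ← h2]

/-- The image is in the sum of the spans. -/
theorem N_mem {M : Submodule F V} (hM : ∀ x ∈ X, ∀ v ∈ M, x v ∈ M) {u w : V} (hu : u ∈ M) (hw : w ∈ M) (v : V) :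
    N D κ X u w v ∈ M := by
  rw [N_apply]
  exact M.sum_mem fun x _ => M.sub_mem (M.smul_mem _ (hM x.1 x.2 w hw))
    (M.smul_mem _ (M.smul_mem _ (hM x.1 x.2 u hu)))

/-- Vectors orthogonal to `M` are killed. -/
theorem N_eq_zero {M : Submodule F V} (hM : ∀ x ∈ X, ∀ v ∈ M, x v ∈ M) {u w : V} (hu : u ∈ M) (hw : w ∈ M) {v : V}
    (hv : v ∈ perp D M) : N D κ X u w v = 0 := by
  rw [N_apply]
  refine Finset.sum_eq_zero fun x _ => ?_
  rw [hv _ (hM x.1 x.2 u hu), hv _ (hM x.1 x.2 w hw), zero_smul, zero_smul, smul_zero, sub_zero]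

section skew

variable (hκ : κ * D.σ κ = 1) (hf : ∀ u v, D.f u v = κ * D.σ (D.f v u)) (hσ : ∀ a, D.σ (D.σ a) = a)
include hκ hf hσ

theorem N_skew (u w v v' : V) : D.f (N D κ X u w v) v' + D.f v (N D κ X u w v') = 0 := by
  rw [N_apply, N_apply, f_sum_left, f_sum_right, ← Finset.sum_add_distrib]
  refine Finset.sum_eq_zero fun x _ => ?_
  rw [f_sub_left, f_sub_right, D.smul_left, D.smul_left, D.smul_left, D.smul_right, D.smul_right, D.smul_right, hσ,
    hf (x.1 w) v', hf (x.1 u) v', ← mul_assoc (D.σ κ)]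
  linear_combination (-(D.f v (x.1 w)) * D.σ (D.f v' (x.1 u))) * hκ

omit hκ hσ in
theorem theta_eq (t : F) (h : ∃ v v', D.f v v' = 1) : D.θ t = D.θ (κ * D.σ t) := by
  obtain ⟨v, v', hv⟩ := h
  have h1 := D.Q_add (t • v) v'
  have h2 := D.Q_add v' (t • v)
  rw [add_comm v', h1] at h2
  have h3 : D.θ (D.f (t • v) v') = D.θ (D.f v' (t • v)) := by
    have : D.Q (t • v) + D.Q v' + D.θ (D.f (t • v) v') = D.Q (t • v) + D.Q v' + D.θ (D.f v' (t • v)) := by
      rw [h2]; ring
    exact add_left_cancel this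
  rw [hf v' (t • v), D.smul_left, hv, mul_one] at h3
  exact h3

omit hκ in
theorem theta_N (u w v : V) : D.θ (D.f v (N D κ X u w v)) = 0 := by
  rw [N_apply, f_sum_right, map_sum]
  refine Finset.sum_eq_zero fun x _ => ?_
  rw [f_sub_right, D.smul_right, D.smul_right, D.smul_right, hσ, map_sub, sub_eq_zero]
  by_cases h0 : D.f v (x.1 w) = 0
  · rw [h0]
    simp only [map_zero, mul_zero, zero_mul]
  have h1 : ∃ v v', D.f v v' = 1 :=
    ⟨(D.f v (x.1 w))⁻¹ • v, x.1 w, by rw [D.smul_left, inv_mul_cancel₀ h0]⟩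
  have h2 : κ * D.σ (D.σ (D.f v (x.1 u)) * D.f v (x.1 w)) = κ * (D.σ (D.f v (x.1 w)) * D.f v (x.1 u)) := by
    rw [map_mul D.σ, hσ]
    ring
  rw [theta_eq hf _ h1, h2]

end skew

/-- The isometry `1 + N`. -/
noncomputable def el {M : Submodule F V} (hM : ∀ x ∈ X, ∀ v ∈ M, x v ∈ M) (hTS : TS D M) {u w : V} (hu : u ∈ M)
    (hw : w ∈ M) : V ≃ₗ[F] V where
  toFun v := v + N D κ X u w v
  invFun v := v - N D κ X u w v
  map_add' a b := by rw [map_add]; abel
  map_smul' c a := by rw [map_smul, smul_add]; rfl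
  left_inv v := by
    change v + N D κ X u w v - N D κ X u w (v + N D κ X u w v) = v
    rw [map_add, N_eq_zero hM hu hw (hTS.le_perp D (N_mem hM hu hw v)), add_zero, add_sub_cancel_right]
  right_inv v := by
    change v - N D κ X u w v + N D κ X u w (v - N D κ X u w v) = v
    rw [map_sub, N_eq_zero hM hu hw (hTS.le_perp D (N_mem hM hu hw v)), sub_zero, sub_add_cancel]

section El2

variable {M : Submodule F V} (hM : ∀ x ∈ X, ∀ v ∈ M, x v ∈ M) (hTS : TS D M) {u w : V} (hu : u ∈ M) (hw : w ∈ M)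

theorem el_apply (v : V) : el (κ := κ) hM hTS hu hw v = v + N D κ X u w v := rfl

include hTS in
theorem Q_N_eq_zero (hM : ∀ x ∈ X, ∀ v ∈ M, x v ∈ M) (hu : u ∈ M) (hw : w ∈ M) (v : V) :
    D.Q (N D κ X u w v) = 0 := hTS.2 _ (N_mem hM hu hw v)

theorem el_mem_isom (hκ : κ * D.σ κ = 1) (hf : ∀ u v, D.f u v = κ * D.σ (D.f v u)) (hσ : ∀ a, D.σ (D.σ a) = a) :
    el (κ := κ) hM hTS hu hw ∈ D.isom := by
  refine ⟨fun v v' => ?_, fun v => ?_⟩
  · rw [el_apply, el_apply, D.add_left, D.add_right, D.add_right,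
      hTS.1 _ (N_mem hM hu hw v) _ (N_mem hM hu hw v')]
    linear_combination N_skew (D := D) (X := X) hκ hf hσ u w v v'
  · rw [el_apply, D.Q_add, Q_N_eq_zero (κ := κ) (X := X) hTS hM hu hw, theta_N hf hσ, add_zero, add_zero]

theorem el_comm (hX : X ≤ D.isom) {y : V ≃ₗ[F] V} (hy : y ∈ X) :
    y * el (κ := κ) hM hTS hu hw = el (κ := κ) hM hTS hu hw * y := by
  ext v
  change y (el (κ := κ) hM hTS hu hw v) = el (κ := κ) hM hTS hu hw (y v)
  rw [el_apply, el_apply, map_add, N_comm hX u w hy]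

end El2

/-- Conjugation by an isometry commuting with `X`. -/
theorem conj_N {g : V ≃ₗ[F] V} (hg : g ∈ D.isom) (hgX : ∀ x ∈ X, ∀ v, g (x v) = x (g v)) (u w v : V) :
    g (N D κ X u w v) = N D κ X (g u) (g w) (g v) := by
  rw [N_apply, N_apply, map_sum]
  refine Finset.sum_congr rfl fun x _ => ?_
  rw [map_sub, map_smul, map_smul, map_smul, ← hgX x.1 x.2, ← hgX x.1 x.2, hg.1, hg.1]

/-- The commutator of an isometry fixing `w` with `1 + N(u, w)`. -/
theorem commutator_el {M : Submodule F V} (hM : ∀ x ∈ X, ∀ v ∈ M, x v ∈ M) (hTS : TS D M) {u w : V} (hu : u ∈ M)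
    (hw : w ∈ M) {g : V ≃ₗ[F] V} (hg : g ∈ D.isom) (hgX : ∀ x ∈ X, ∀ v, g (x v) = x (g v)) (hgw : g w = w)
    (hgu : g u - u ∈ M) :
    ⁅g, el (κ := κ) hM hTS hu hw⁆ = el (κ := κ) hM hTS hgu hw := by
  have hgu' : g u ∈ M := by
    have := M.add_mem hgu hu
    rwa [sub_add_cancel] at this
  apply LinearEquiv.ext
  intro v
  have h1 : ⁅g, el (κ := κ) hM hTS hu hw⁆ v =
      g (el (κ := κ) hM hTS hu hw (g⁻¹ ((el (κ := κ) hM hTS hu hw)⁻¹ v))) := rfl
  have h2 : (el (κ := κ) hM hTS hu hw)⁻¹ v = v - N D κ X u w v := rfl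
  have h3 : ∀ y, g (g⁻¹ y) = y := fun y => g.apply_symm_apply y
  rw [h1, h2, el_apply, map_add, conj_N hg hgX, h3, hgw, el_apply, map_sub (N D κ X (g u) w),
    N_eq_zero hM hgu' hw (hTS.le_perp D (N_mem hM hu hw v)), sub_zero, sub_eq_add_neg (g u), N_add_left, N_neg_left,
    LinearMap.add_apply, LinearMap.neg_apply]
  abel

/-- `s ↦ 1 + N(s, w)` is a homomorphism. -/
noncomputable def elHom {M : Submodule F V} (hM : ∀ x ∈ X, ∀ v ∈ M, x v ∈ M) (hTS : TS D M) {w : V} (hw : w ∈ M) :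
    Multiplicative M →* (V ≃ₗ[F] V) where
  toFun s := el (κ := κ) hM hTS s.toAdd.2 hw
  map_one' := by
    apply LinearEquiv.ext
    intro v
    rw [el_apply]
    change v + N D κ X 0 w v = v
    rw [N_zero_left, LinearMap.zero_apply, add_zero]
  map_mul' s t := by
    apply LinearEquiv.ext
    intro v
    change v + N D κ X (s.toAdd.1 + t.toAdd.1) w v =
      (v + N D κ X t.toAdd.1 w v) + N D κ X s.toAdd.1 w (v + N D κ X t.toAdd.1 w v)
    rw [map_add, N_eq_zero hM s.toAdd.2 hw (hTS.le_perp D (N_mem hM t.toAdd.2 hw v)), N_add_left,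
      LinearMap.add_apply]
    abel

end El

end Cfsg.Agent.H989.Sims
end

private theorem dce_4cd7481c600d : _root_.True := by
  try have : _root_.True := by simp only [_root_.Cfsg.Agent.H989.Sims.N.eq_1]
  exact _root_.True.intro
end

-- part: H989/Sims/Maschke_mg
section
prune_inst 0xfdfefbbbfceddfffff7fffa7fccdfdfdbebfffe6fffdfbffe47bffbbdf6b8acff7fbbfebfbd0fe5ff7e33c94e87bc3f9ffefffe26bdc7ffffd5ff45fffff9fffffbd2971f58c3e1ffc6ffe93f07f8e7f000000000000000000000000000000000200000000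
set_option linter.all false
open scoped Cfsg.Agent.FastGrp

-- part: H989/Sims/Maschke
section
/-!
# Invariant subspaces of a finite group of order prime to the characteristic

`X ≤ GL(V)` finite with `|X| ≠ 0` in `F`; `Inv X W` : `W` is `X`-invariant.

* `exists_compl` : an invariant complement of an invariant `A ≤ B` in `B`;
* `exists_iso` : an invariant `M` of large dimension contains many copies of an irreducible `U` (from the statement
  `IsoStmt` of task 444).
-/

set_option autoImplicit false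

namespace Cfsg.Agent.H989.Sims

open Cfsg.Agent.H851.Sims

/-- Invariant subspaces. -/
def Inv {F V : Type} [Field F] [AddCommGroup V] [Module F V] (X : Subgroup (V ≃ₗ[F] V)) (W : Submodule F V) : Prop :=
  ∀ x ∈ X, ∀ w ∈ W, x w ∈ W

/-- The statement of task 444. -/
def IsoStmt : Prop :=
  ∀ {F R V : Type} [Field F] [Ring R] [Algebra F R] [AddCommGroup V] [Module F V] [Module R V]
    [IsScalarTower F R V] [Module.Finite F V] [IsSemisimpleModule R V] (K m : ℕ)
    (_ : ∃ T : Finset R, T.card ≤ K ∧ ∀ x : R, ∃ y ∈ Submodule.span F (T : Set R), ∀ v : V, x • v = y • v)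
    (_ : K * K * m < Module.finrank F V),
    ∃ U : Submodule R V, IsSimpleModule R U ∧ Module.finrank F U ≤ K ∧
      ∃ W : Submodule R V, Nonempty (W ≃ₗ[R] (Fin m → U))

section Abs

variable {F V : Type} [Field F] [AddCommGroup V] [Module F V] {X : Subgroup (V ≃ₗ[F] V)} {R : Type} [Ring R]
  [Algebra F R] [Module R V] [IsScalarTower F R V]

/-- An invariant subspace as a submodule over the group ring. -/
def toR (j : X → R) (hj : ∀ (x : X) (v : V), j x • v = x.1 v) (hs : ∀ r : R, r ∈ Submodule.span F (Set.range j))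
    (W : Submodule F V) (hW : Inv X W) : Submodule R V where
  carrier := W
  add_mem' := W.add_mem
  zero_mem' := W.zero_mem
  smul_mem' r v hv := by
    have hr := hs r
    change r • v ∈ W
    induction hr using Submodule.span_induction with
    | mem r hr =>
      obtain ⟨x, rfl⟩ := hr
      rw [hj]
      exact hW x.1 x.2 v hv
    | zero =>
      rw [zero_smul]
      exact W.zero_mem
    | add f g _ _ hf hg =>
      rw [add_smul]
      exact W.add_mem hf hg
    | smul a f _ hf =>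
      rw [smul_assoc]
      exact W.smul_mem _ hf

variable (j : X → R) (hj : ∀ (x : X) (v : V), j x • v = x.1 v) (hs : ∀ r : R, r ∈ Submodule.span F (Set.range j))

omit [Algebra F R] [IsScalarTower F R V] in
include hj in
theorem act_mem (S : Submodule R V) {x : V ≃ₗ[F] V} (hx : x ∈ X) {w : V} (hw : w ∈ S) : x w ∈ S := by
  have h2 := S.smul_mem (j ⟨x, hx⟩) hw
  rwa [hj] at h2

include hj hs in
theorem exists_compl_abs [IsSemisimpleModule R V] {A B : Submodule F V} (hA : Inv X A) (hB : Inv X B)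
    (hAB : A ≤ B) : ∃ C ≤ B, Inv X C ∧ A ⊓ C = ⊥ ∧ A ⊔ C = B := by
  obtain ⟨C, hC⟩ := exists_isCompl (toR j hj hs A hA)
  have h1 : Inv X (C.restrictScalars F) := fun x hx w hw => act_mem j hj C hx hw
  refine ⟨C.restrictScalars F ⊓ B, inf_le_right, fun x hx w hw => ⟨h1 x hx w hw.1, hB x hx w hw.2⟩, ?_, ?_⟩
  · rw [eq_bot_iff]
    intro v hv
    have h2 : v ∈ toR j hj hs A hA ⊓ C := ⟨hv.1, hv.2.1⟩
    rw [hC.inf_eq_bot] at h2
    exact (Submodule.mem_bot _).2 ((Submodule.mem_bot _).1 h2)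
  · apply le_antisymm (sup_le hAB inf_le_right)
    intro v hv
    have h2 : v ∈ toR j hj hs A hA ⊔ C := by rw [hC.sup_eq_top]; exact Submodule.mem_top
    obtain ⟨a, ha, c, hc, rfl⟩ := Submodule.mem_sup.1 h2
    have ha' : a ∈ A := ha
    exact Submodule.mem_sup.2 ⟨a, ha', c, ⟨hc, by
      have := B.sub_mem hv (hAB ha')
      rwa [add_sub_cancel_left] at this⟩, rfl⟩

include hj hs in
theorem exists_iso_abs (hI : IsoStmt) [IsSemisimpleModule R V] [Module.Finite F V] {K : ℕ} (hK : SmallMod K X)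
    {M : Submodule F V} (hM : Inv X M) (m : ℕ) (hdim : K * K * m < Module.finrank F M) :
    ∃ U : Submodule F V, ∃ hU : Inv X U, U ≠ ⊥ ∧ (∀ W ≤ U, Inv X W → W = ⊥ ∨ W = U) ∧
      ∃ e : Fin m → (U →ₗ[F] V), (∀ i u, e i u ∈ M) ∧
        (∀ i, ∀ x (hx : x ∈ X) (u : U), e i ⟨x u.1, hU x hx u.1 u.2⟩ = x (e i u)) ∧
        ∀ a : Fin m → U, ∑ i, e i (a i) = 0 → a = 0 := by
  classical
  obtain ⟨MR, hMR⟩ : ∃ MR : Submodule R V, MR.restrictScalars F = M := ⟨toR j hj hs M hM, rfl⟩
  obtain ⟨T, hTX, hTK, hT⟩ := hK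
  -- the operators
  let T' : Finset R := T.attach.image fun t => j ⟨t.1, hTX t.2⟩
  have hT'K : T'.card ≤ K := by
    refine Finset.card_image_le.trans ?_
    rwa [Finset.card_attach]
  have hop : ∀ r : R, ∃ y ∈ Submodule.span F (T' : Set R), ∀ v : V, r • v = y • v := by
    intro r
    have hr := hs r
    induction hr using Submodule.span_induction with
    | mem r hr =>
      obtain ⟨x, rfl⟩ := hr
      obtain ⟨t, ht, a, hta⟩ := hT x.1 x.2
      refine ⟨a • j ⟨t, hTX ht⟩, ?_, fun v => ?_⟩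
      · apply Submodule.smul_mem
        apply Submodule.subset_span
        exact Finset.mem_coe.2 (Finset.mem_image.2 ⟨⟨t, ht⟩, Finset.mem_attach _ _, rfl⟩)
      · rw [hj, hta, smul_assoc, hj]
    | zero => exact ⟨0, Submodule.zero_mem _, fun v => rfl⟩
    | add f g _ _ hf hg =>
      obtain ⟨y, hy, h1⟩ := hf
      obtain ⟨z, hz, h2⟩ := hg
      exact ⟨y + z, Submodule.add_mem _ hy hz, fun v => by rw [add_smul, add_smul, h1, h2]⟩
    | smul a f _ hf =>
      obtain ⟨y, hy, h1⟩ := hf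
      exact ⟨a • y, Submodule.smul_mem _ a hy, fun v => by rw [smul_assoc, smul_assoc, h1]⟩
  have hfin : Module.Finite F MR := by
    have : Module.Finite F (MR.restrictScalars F) := by rw [hMR]; infer_instance
    exact this
  have hdim' : K * K * m < Module.finrank F MR := by
    have : Module.finrank F (MR.restrictScalars F) = Module.finrank F M := by rw [hMR]
    rw [← this] at hdim
    exact hdim
  obtain ⟨U, hU, -, W, ⟨φ⟩⟩ := hI (F := F) (R := R) (V := MR) K m
    ⟨T', hT'K, fun r => by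
      obtain ⟨y, hy, h1⟩ := hop r
      exact ⟨y, hy, fun v => Subtype.ext (h1 v.1)⟩⟩ hdim'
  -- the image of `U` in `V`
  let UR : Submodule R V := U.map MR.subtype
  let U' : Submodule F V := UR.restrictScalars F
  have hU' : Inv X U' := fun x hx w hw => act_mem j hj UR hx hw
  let ψ : U ≃ₗ[R] UR := Submodule.equivMapOfInjective MR.subtype MR.subtype_injective U
  have hsimp : IsSimpleModule R UR := IsSimpleModule.congr ψ.symm
  refine ⟨U', hU', ?_, ?_, ?_⟩
  · intro h
    have h1 : UR = ⊥ := by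
      rw [eq_bot_iff]
      intro v hv
      have : v ∈ U' := hv
      rw [h] at this
      exact (Submodule.mem_bot _).2 ((Submodule.mem_bot _).1 this)
    have h2 := IsSimpleModule.nontrivial R UR
    rw [h1] at h2
    exact not_subsingleton (⊥ : Submodule R V) inferInstance
  · intro W' hW'U hW'
    have h1 := (isSimpleModule_iff_isAtom.1 hsimp).le_iff.1 (show toR j hj hs W' hW' ≤ UR from hW'U)
    rcases h1 with h1 | h1
    · left
      rw [eq_bot_iff]
      intro v hv
      have : v ∈ toR j hj hs W' hW' := hv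
      rw [h1] at this
      exact (Submodule.mem_bot _).2 ((Submodule.mem_bot _).1 this)
    · right
      apply le_antisymm hW'U
      intro v hv
      have : v ∈ toR j hj hs W' hW' := by rw [h1]; exact hv
      exact this
  · let g : Fin m → (UR →ₗ[R] V) := fun i =>
      MR.subtype ∘ₗ W.subtype ∘ₗ (φ.symm : (Fin m → U) →ₗ[R] W) ∘ₗ LinearMap.single R (fun _ => U) i ∘ₗ
        (ψ.symm : UR →ₗ[R] U)
    refine ⟨fun i => (g i).restrictScalars F, fun i u => ?_, fun i x hx u => ?_, fun a ha => ?_⟩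
    · rw [← hMR]
      exact (W.subtype (φ.symm (LinearMap.single R (fun _ => U) i (ψ.symm u)))).2
    · have h1 : (⟨x u.1, hU' x hx u.1 u.2⟩ : UR) = j ⟨x, hx⟩ • (⟨u.1, u.2⟩ : UR) := by
        apply Subtype.ext
        change x u.1 = j ⟨x, hx⟩ • u.1
        rw [hj]
      exact ((congrArg (g i) h1).trans ((g i).map_smul (j ⟨x, hx⟩) (⟨u.1, u.2⟩ : UR))).trans (hj _ _)
    · have h1 : ((W.subtype (φ.symm (∑ i, LinearMap.single R (fun _ => U) i (ψ.symm (a i)))) : MR) : V) = 0 := by
        rw [map_sum, map_sum, Submodule.coe_sum, ← ha]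
        rfl
      have h2 : φ.symm (∑ i, LinearMap.single R (fun _ => U) i (ψ.symm (a i))) = 0 := by
        apply Subtype.ext
        apply Subtype.ext
        exact h1
      rw [LinearEquiv.map_eq_zero_iff] at h2
      funext i
      have h3 := congrFun h2 i
      rw [Finset.sum_apply] at h3
      have h4 : ∑ j, (LinearMap.single R (fun _ => U) j (ψ.symm (a j))) i = ψ.symm (a i) := by
        rw [Finset.sum_eq_single i]
        · exact Pi.single_eq_same _ _
        · intro j _ hji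
          exact Pi.single_eq_of_ne (Ne.symm hji) _
        · intro h
          exact absurd (Finset.mem_univ i) h
      rw [h4] at h3
      have h5 := (LinearEquiv.map_eq_zero_iff ψ.symm).1 h3
      exact h5

end Abs

section

variable {F V : Type} [Field F] [AddCommGroup V] [Module F V] {X : Subgroup (V ≃ₗ[F] V)}

/-- The representation. -/
def rep (X : Subgroup (V ≃ₗ[F] V)) : X →* Module.End F V where
  toFun x := (x.1 : V →ₗ[F] V)
  map_one' := rfl
  map_mul' _ _ := rfl

/-- The module structure over the group ring. -/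
@[reducible]
noncomputable def modR (X : Subgroup (V ≃ₗ[F] V)) : Module (MonoidAlgebra F X) V :=
  Module.compHom V (MonoidAlgebra.lift F (Module.End F V) X (rep X)).toRingHom

theorem single_smul (x : X) (a : F) (v : V) :
    letI := modR X; (MonoidAlgebra.single x a : MonoidAlgebra F X) • v = a • x.1 v := by
  let _ := modR X
  change (MonoidAlgebra.lift F (Module.End F V) X (rep X)) (MonoidAlgebra.single x a) v = _
  rw [MonoidAlgebra.lift_single]
  rfl

theorem isScalarTower (X : Subgroup (V ≃ₗ[F] V)) : letI := modR X; IsScalarTower F (MonoidAlgebra F X) V := by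
  let _ := modR X
  refine ⟨fun c r v => ?_⟩
  change (MonoidAlgebra.lift F (Module.End F V) X (rep X)) (c • r) v =
    c • (MonoidAlgebra.lift F (Module.End F V) X (rep X)) r v
  rw [map_smul]
  rfl

theorem mem_span_single (r : MonoidAlgebra F X) :
    r ∈ Submodule.span F (Set.range fun x : X => (MonoidAlgebra.single x 1 : MonoidAlgebra F X)) := by
  induction r using MonoidAlgebra.induction_on with
  | of x => exact Submodule.subset_span ⟨x, rfl⟩
  | add f g hf hg => exact Submodule.add_mem _ hf hg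
  | smul a f hf => exact Submodule.smul_mem _ a hf

/-- Invariant complements. -/
theorem exists_compl [Finite X] (h0 : (Nat.card X : F) ≠ 0) {A B : Submodule F V} (hA : Inv X A) (hB : Inv X B)
    (hAB : A ≤ B) : ∃ C ≤ B, Inv X C ∧ A ⊓ C = ⊥ ∧ A ⊔ C = B := by
  let _ := modR X
  have _ := isScalarTower X
  have _ : NeZero (Nat.card X : F) := ⟨h0⟩
  exact exists_compl_abs (fun x : X => (MonoidAlgebra.single x 1 : MonoidAlgebra F X))
    (fun x v => by rw [single_smul, one_smul]) mem_span_single hA hB hAB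

theorem exists_iso (hI : IsoStmt) [Finite X] [Module.Finite F V] (h0 : (Nat.card X : F) ≠ 0) {K : ℕ} (hK : SmallMod K X)
    {M : Submodule F V} (hM : Inv X M) (m : ℕ) (hdim : K * K * m < Module.finrank F M) :
    ∃ U : Submodule F V, ∃ hU : Inv X U, U ≠ ⊥ ∧ (∀ W ≤ U, Inv X W → W = ⊥ ∨ W = U) ∧
      ∃ e : Fin m → (U →ₗ[F] V), (∀ i u, e i u ∈ M) ∧
        (∀ i, ∀ x (hx : x ∈ X) (u : U), e i ⟨x u.1, hU x hx u.1 u.2⟩ = x (e i u)) ∧
        ∀ a : Fin m → U, ∑ i, e i (a i) = 0 → a = 0 := by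
  let _ := modR X
  have _ := isScalarTower X
  have _ : NeZero (Nat.card X : F) := ⟨h0⟩
  exact exists_iso_abs (fun x : X => (MonoidAlgebra.single x 1 : MonoidAlgebra F X))
    (fun x v => by rw [single_smul, one_smul]) mem_span_single hI hK hM m hdim

end

end Cfsg.Agent.H989.Sims
end

-- part: H717/Push
section
/-!
# Pushing up along paths for a core-free maximal subgroup

`H` is a core-free maximal subgroup of a finite group `G`, `t ∉ H`, and `|H : H ∩ H^t| ≤ d`.
If `E` is a normal subgroup of `H` inside the normal subgroup `S` of `G`, the centralizer of `E` in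
`H ∩ S` has index at most `b` in `H ∩ S`, and every subgroup of `E` of index at most `d * b` contains
a nontrivial normal subgroup of `H`, we get a contradiction.
-/

set_option autoImplicit false
set_option linter.unusedSectionVars false
open scoped Pointwise

namespace Cfsg.Agent.H717.Push

universe u

variable {G : Type u} [Group G] [Finite G]

/-- `H` normalises `N`. -/
def Inv (H N : Subgroup G) : Prop := ∀ h ∈ H, MulAut.conj h • N = N

theorem conj_smul_mem {g x : G} {N : Subgroup G} : x ∈ MulAut.conj g • N ↔ g⁻¹ * x * g ∈ N := by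
  rw [Subgroup.mem_pointwise_smul_iff_inv_smul_mem, ← map_inv]
  simp [MulAut.smul_def]

theorem conj_smul_smul (g h : G) (N : Subgroup G) :
    MulAut.conj g • MulAut.conj h • N = MulAut.conj (g * h) • N := by
  rw [map_mul, mul_smul]

theorem relIndex_conj (g : G) (A B : Subgroup G) :
    (MulAut.conj g • A).relIndex (MulAut.conj g • B) = A.relIndex B :=
  Subgroup.relIndex_pointwise_smul _ _ _

theorem card_conj (g : G) (A : Subgroup G) : Nat.card ↥(MulAut.conj g • A) = Nat.card A :=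
  (Nat.card_congr (Subgroup.equivSMul (MulAut.conj g) A).toEquiv).symm

theorem relIndex_pos (A B : Subgroup G) : 0 < A.relIndex B := by
  rw [Subgroup.relIndex]
  exact Nat.pos_of_ne_zero Subgroup.index_ne_zero_of_finite

theorem relIndex_mono {A B C : Subgroup G} (h : B ≤ C) : A.relIndex B ≤ A.relIndex C :=
  Subgroup.relIndex_le_of_le_right h (relIndex_pos A C).ne'

theorem relIndex_mul_card (A B : Subgroup G) : A.relIndex B * Nat.card ↥(A ⊓ B) = Nat.card B := by
  have h := Subgroup.card_mul_index (A.subgroupOf B)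
  rw [Subgroup.relIndex, mul_comm]
  rw [← h]
  congr 1
  rw [← Subgroup.subgroupOf_map_subtype]
  exact (Nat.card_congr ((A.subgroupOf B).equivMapOfInjective B.subtype B.subtype_injective).toEquiv).symm

theorem relIndex_symm {A B : Subgroup G} (h : Nat.card A = Nat.card B) : A.relIndex B = B.relIndex A := by
  have h1 := relIndex_mul_card A B
  have h2 := relIndex_mul_card B A
  rw [inf_comm B A] at h2
  have h3 : 0 < Nat.card ↥(A ⊓ B) := Nat.card_pos
  exact Nat.eq_of_mul_eq_mul_right h3 (by rw [h1, h2, h])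

theorem centralizer_conj (g : G) (E : Subgroup G) :
    Subgroup.centralizer ((MulAut.conj g • E : Subgroup G) : Set G) =
      MulAut.conj g • Subgroup.centralizer (E : Set G) := by
  ext x
  rw [conj_smul_mem, Subgroup.mem_centralizer_iff, Subgroup.mem_centralizer_iff]
  constructor
  · intro h y hy
    have h1 := h (g * y * g⁻¹) (by
      change g * y * g⁻¹ ∈ MulAut.conj g • E
      rw [conj_smul_mem]
      have : g⁻¹ * (g * y * g⁻¹) * g = y := by group
      rw [this]
      exact hy)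
    calc y * (g⁻¹ * x * g) = g⁻¹ * ((g * y * g⁻¹) * x) * g := by group
      _ = g⁻¹ * (x * (g * y * g⁻¹)) * g := by rw [h1]
      _ = g⁻¹ * x * g * y := by group
  · intro h y hy
    have hy' : g⁻¹ * y * g ∈ E := conj_smul_mem.1 hy
    have h1 := h _ hy'
    calc y * x = g * ((g⁻¹ * y * g) * (g⁻¹ * x * g)) * g⁻¹ := by group
      _ = g * ((g⁻¹ * x * g) * (g⁻¹ * y * g)) * g⁻¹ := by rw [h1]
      _ = x * y := by group

theorem conj_normal (g : G) (S : Subgroup G) [hS : S.Normal] : MulAut.conj g • S = S := by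
  ext x
  rw [conj_smul_mem]
  constructor
  · intro h
    have := hS.conj_mem _ h g
    have e : g * (g⁻¹ * x * g) * g⁻¹ = x := by group
    rwa [e] at this
  · intro h
    have := hS.conj_mem _ h g⁻¹
    rwa [inv_inv] at this

/-- A nontrivial normal subgroup of a core-free maximal subgroup `H` has `H` as its normalizer. -/
theorem mem_of_conj_eq {H N : Subgroup G} (hmax : IsCoatom H) (hcore : H.normalCore = ⊥) (hNH : N ≤ H)
    (hN : N ≠ ⊥) (hinv : Inv H N) {x : G} (hx : MulAut.conj x • N = N) : x ∈ H := by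
  by_contra hxH
  have hle : H ≤ Subgroup.normalizer (N : Set G) := by
    intro h hh
    rw [Subgroup.mem_normalizer_iff]
    intro y
    have h1 := hinv h hh
    constructor
    · intro hy
      have : h * y * h⁻¹ ∈ MulAut.conj h • N := by
        rw [conj_smul_mem]
        have e : h⁻¹ * (h * y * h⁻¹) * h = y := by group
        rwa [e]
      rwa [h1] at this
    · intro hy
      rw [← h1, conj_smul_mem] at hy
      have e : h⁻¹ * (h * y * h⁻¹) * h = y := by group
      rwa [e] at hy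
  have hxn : x ∈ Subgroup.normalizer (N : Set G) := by
    rw [Subgroup.mem_normalizer_iff]
    intro y
    constructor
    · intro hy
      have : x * y * x⁻¹ ∈ MulAut.conj x • N := by
        rw [conj_smul_mem]
        have e : x⁻¹ * (x * y * x⁻¹) * x = y := by group
        rwa [e]
      rwa [hx] at this
    · intro hy
      rw [← hx, conj_smul_mem] at hy
      have e : x⁻¹ * (x * y * x⁻¹) * x = y := by group
      rwa [e] at hy
  have htop : Subgroup.normalizer (N : Set G) = ⊤ := by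
    refine hmax.2 _ (lt_of_le_of_ne hle ?_)
    rintro h
    exact hxH (h ▸ hxn)
  have : N.Normal := Subgroup.normalizer_eq_top_iff.1 htop
  have : N ≤ H.normalCore := Subgroup.normal_le_normalCore.2 hNH
  rw [hcore] at this
  exact hN (le_bot_iff.1 this)

theorem conj_eq_of_commute {N : Subgroup G} {x : G} (h : ∀ n ∈ N, n * x = x * n) : MulAut.conj x • N = N := by
  ext y
  rw [conj_smul_mem]
  constructor
  · intro hy
    have h1 := h _ hy
    have : y = x⁻¹ * y * x := by
      calc y = x * (x⁻¹ * y * x) * x⁻¹ := by group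
        _ = (x⁻¹ * y * x) * x * x⁻¹ := by rw [← h1]
        _ = x⁻¹ * y * x := by group
    rw [this]
    exact hy
  · intro hy
    have h1 := h y hy
    have : x⁻¹ * y * x = y := by rw [mul_assoc, h1]; group
    rw [this]
    exact hy

/-- The main pushing-up theorem. -/
theorem push {H : Subgroup G} (hmax : IsCoatom H) (hcore : H.normalCore = ⊥) {t : G} (ht : t ∉ H) {d : ℕ}
    (hd : (MulAut.conj t • H).relIndex H ≤ d) (S : Subgroup G) [S.Normal] {E : Subgroup G} (hEH : E ≤ H)
    (hES : E ≤ S) {b : ℕ} (hb : (Subgroup.centralizer (E : Set G)).relIndex (H ⊓ S) ≤ b)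
    (rich : ∀ F : Subgroup G, F ≤ E → F.relIndex E ≤ d * b → ∃ N : Subgroup G, N ≤ F ∧ N ≠ ⊥ ∧ Inv H N) : False := by
  have hd0 : 1 ≤ d := (relIndex_pos (MulAut.conj t • H) H).trans_le hd
  have hb0 : 1 ≤ b := (relIndex_pos (Subgroup.centralizer (E : Set G)) (H ⊓ S)).trans_le hb
  -- transported richness
  have key : ∀ (g : G) (F W : Subgroup G), F ≤ MulAut.conj g • E → F.relIndex (MulAut.conj g • E) ≤ d * b →
      (∀ w ∈ W, ∀ f ∈ F, f * w = w * f) → W ≤ MulAut.conj g • H := by
    intro g F W hF hFi hW w hw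
    obtain ⟨N, hNF, hN, hNi⟩ := rich (MulAut.conj g⁻¹ • F) (by
      intro x hx
      rw [conj_smul_mem, inv_inv] at hx
      have := conj_smul_mem.1 (hF hx)
      have e : g⁻¹ * (g * x * g⁻¹) * g = x := by group
      rwa [e] at this) (by
      rw [← relIndex_conj g, conj_smul_smul, mul_inv_cancel, map_one, one_smul]
      exact hFi)
    rw [conj_smul_mem]
    refine mem_of_conj_eq hmax hcore (hNF.trans (fun x hx => ?_)) hN hNi (conj_eq_of_commute fun n hn => ?_)
    · rw [conj_smul_mem, inv_inv] at hx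
      have h1 := conj_smul_mem.1 (hF hx)
      have e : g⁻¹ * (g * x * g⁻¹) * g = x := by group
      rw [e] at h1
      exact hEH h1
    · have h1 := hNF hn
      rw [conj_smul_mem, inv_inv] at h1
      have h2 := hW w hw _ h1
      calc n * (g⁻¹ * w * g) = g⁻¹ * ((g * n * g⁻¹) * w) * g := by group
        _ = g⁻¹ * (w * (g * n * g⁻¹)) * g := by rw [h2]
        _ = g⁻¹ * w * g * n := by group
  -- centralizer index transported
  have hcen : ∀ g : G, (Subgroup.centralizer ((MulAut.conj g • E : Subgroup G) : Set G)).relIndex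
      (MulAut.conj g • H ⊓ S) ≤ b := by
    intro g
    have h1 : MulAut.conj g • H ⊓ S = MulAut.conj g • (H ⊓ S) := by
      rw [Subgroup.smul_inf, conj_normal g S]
    rw [h1, centralizer_conj, relIndex_conj]
    exact hb
  have hESg : ∀ g : G, MulAut.conj g • E ≤ S := by
    intro g
    calc MulAut.conj g • E ≤ MulAut.conj g • S := Subgroup.pointwise_smul_le_pointwise_smul_iff.2 hES
      _ = S := conj_normal g S
  have step : ∀ u : G, (MulAut.conj u • H).relIndex H ≤ d → ∀ g : G, MulAut.conj g • E ≤ H →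
      MulAut.conj g • E ≤ MulAut.conj u • H := by
    intro u hu g hg
    have h1 : MulAut.conj u • E ≤ MulAut.conj g • H := by
      refine key g (Subgroup.centralizer ((MulAut.conj u • E : Subgroup G) : Set G) ⊓ MulAut.conj u • H ⊓
        MulAut.conj g • E) _ inf_le_right ?_ ?_
      · rw [Subgroup.inf_relIndex_right, ← Subgroup.relIndex_inf_mul_relIndex, mul_comm]
        refine Nat.mul_le_mul ((relIndex_mono hg).trans hu) ?_
        refine (relIndex_mono ?_).trans (hcen u)
        exact inf_le_inf le_rfl (hESg g)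
      · rintro w hw f hf
        have hf1 := Subgroup.mem_centralizer_iff.1 (Subgroup.mem_inf.1 (Subgroup.mem_inf.1 hf).1).1
        exact (hf1 w hw).symm
    refine key u (Subgroup.centralizer ((MulAut.conj g • E : Subgroup G) : Set G) ⊓ MulAut.conj u • E) _
      inf_le_right ?_ ?_
    · rw [Subgroup.inf_relIndex_right]
      refine (relIndex_mono (le_inf h1 (hESg u))).trans ((hcen g).trans ?_)
      exact Nat.le_mul_of_pos_left b hd0
    · rintro w hw f hf
      have hf1 := Subgroup.mem_centralizer_iff.1 (Subgroup.mem_inf.1 hf).1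
      exact (hf1 w hw).symm
  -- closure argument
  let M : Subgroup G :=
    { carrier := {u | (∀ g : G, MulAut.conj g • E ≤ H → MulAut.conj (u * g) • E ≤ H) ∧
        (∀ g : G, MulAut.conj g • E ≤ H → MulAut.conj (u⁻¹ * g) • E ≤ H)}
      mul_mem' := by
        rintro u v ⟨hu1, hu2⟩ ⟨hv1, hv2⟩
        refine ⟨fun g hg => ?_, fun g hg => ?_⟩
        · rw [mul_assoc]
          exact hu1 _ (hv1 _ hg)
        · rw [mul_inv_rev, mul_assoc]
          exact hv2 _ (hu2 _ hg)
      one_mem' := by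
        refine ⟨fun g hg => ?_, fun g hg => ?_⟩
        · rwa [one_mul]
        · rwa [inv_one, one_mul]
      inv_mem' := by
        rintro u ⟨hu1, hu2⟩
        refine ⟨hu2, fun g hg => ?_⟩
        rw [inv_inv]
        exact hu1 g hg }
  have hHM : H ≤ M := by
    have aux : ∀ h ∈ H, ∀ g : G, MulAut.conj g • E ≤ H → MulAut.conj (h * g) • E ≤ H := by
      intro h hh g hg
      rw [← conj_smul_smul]
      intro x hx
      have h1 := hg (conj_smul_mem.1 hx)
      have h2 := H.mul_mem (H.mul_mem hh h1) (H.inv_mem hh)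
      have e : h * (h⁻¹ * x * h) * h⁻¹ = x := by group
      rwa [e] at h2
    intro h hh
    exact ⟨aux h hh, aux _ (H.inv_mem hh)⟩
  have htM : t ∈ M := by
    have aux : ∀ u : G, (MulAut.conj u • H).relIndex H ≤ d → ∀ g : G, MulAut.conj g • E ≤ H →
        MulAut.conj (u⁻¹ * g) • E ≤ H := by
      intro u hu g hg
      have h1 := step u hu g hg
      rw [← conj_smul_smul]
      intro x hx
      have h2 := conj_smul_mem.1 (h1 (conj_smul_mem.1 hx))
      rw [inv_inv] at h2
      have e : u⁻¹ * (u * x * u⁻¹) * u = x := by group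
      rwa [e] at h2
    refine ⟨?_, aux t hd⟩
    intro g hg
    have h1 := aux t⁻¹ (by
      rw [← relIndex_conj t, conj_smul_smul, mul_inv_cancel, map_one, one_smul,
        relIndex_symm (card_conj t H).symm]
      exact hd) g hg
    rwa [inv_inv] at h1
  have hMtop : M = ⊤ := by
    refine hmax.2 _ (lt_of_le_of_ne hHM ?_)
    rintro h
    exact ht (h ▸ htM)
  have hall : ∀ g : G, MulAut.conj g • E ≤ H := by
    intro g
    have h1 : g ∈ M := by rw [hMtop]; trivial
    have h2 := h1.1 1 (by rw [map_one, one_smul]; exact hEH)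
    rwa [mul_one] at h2
  have hEbot : E = ⊥ := by
    rw [eq_bot_iff, ← hcore]
    intro x hx
    change ∀ g : G, g * x * g⁻¹ ∈ H
    intro g
    refine hall g ?_
    rw [conj_smul_mem]
    have e : g⁻¹ * (g * x * g⁻¹) * g = x := by group
    rwa [e]
  obtain ⟨N, hN1, hN2, _⟩ := rich E le_rfl (by
    rw [Subgroup.relIndex_self]
    exact Nat.mul_pos hd0 hb0)
  rw [hEbot] at hN1
  exact hN2 (le_bot_iff.1 hN1)

/-- **Exponent version.** -/
theorem pow_eq_one {H : Subgroup G} (hmax : IsCoatom H) (hcore : H.normalCore = ⊥) {t : G} (ht : t ∉ H) {d : ℕ}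
    (hd : (MulAut.conj t • H).relIndex H ≤ d) (S : Subgroup G) [S.Normal] {E : Subgroup G} (hEH : E ≤ H)
    (hES : E ≤ S) (hinv : Inv H E) (hcomm : ∀ x ∈ E, ∀ y ∈ E, x * y = y * x)
    {b : ℕ} (hb : (Subgroup.centralizer (E : Set G)).relIndex (H ⊓ S) ≤ b) :
    ∀ x ∈ E, x ^ (d * b).factorial = 1 := by
  by_contra hne
  push Not at hne
  obtain ⟨x₀, hx₀, hx₀'⟩ := hne
  refine push hmax hcore ht hd S hEH hES hb ?_
  intro F hFE hFi
  set n := (d * b).factorial with hn
  have hpow : ∀ x ∈ E, ∀ y ∈ E, (x * y) ^ n = x ^ n * y ^ n := fun x hx y hy =>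
    (show Commute x y from hcomm x hx y hy).mul_pow n
  let N : Subgroup G :=
    { carrier := {y | ∃ x ∈ E, x ^ n = y}
      mul_mem' := by
        rintro _ _ ⟨x, hx, rfl⟩ ⟨y, hy, rfl⟩
        exact ⟨x * y, mul_mem hx hy, hpow x hx y hy⟩
      one_mem' := ⟨1, one_mem _, one_pow _⟩
      inv_mem' := by
        rintro _ ⟨x, hx, rfl⟩
        exact ⟨x⁻¹, inv_mem hx, inv_pow x n⟩ }
  refine ⟨N, ?_, ?_, ?_⟩
  · rintro _ ⟨x, hx, rfl⟩
    -- `F` is normal in `E`
    have hnorm : (F.subgroupOf E).Normal := ⟨by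
      rintro ⟨y, hy⟩ hyF ⟨g, hg⟩
      rw [Subgroup.mem_subgroupOf] at hyF ⊢
      change y ∈ F at hyF
      change g * y * g⁻¹ ∈ F
      rw [hcomm g hg y hy, mul_assoc, mul_inv_cancel, mul_one]
      exact hyF⟩
    have h1 : (⟨x, hx⟩ : E) ^ (F.subgroupOf E).index ∈ F.subgroupOf E :=
      Subgroup.pow_index_mem (F.subgroupOf E) _
    have h2 : (F.subgroupOf E).index ∣ n := by
      rw [hn]
      exact Nat.dvd_factorial (relIndex_pos F E) hFi
    obtain ⟨k, hk⟩ := h2
    have h3 : x ^ (F.subgroupOf E).index ∈ F := h1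
    rw [hk, pow_mul]
    exact F.pow_mem h3 k
  · intro h
    have : x₀ ^ n ∈ N := ⟨x₀, hx₀, rfl⟩
    rw [h, Subgroup.mem_bot] at this
    exact hx₀' this
  · intro h hh
    ext y
    rw [conj_smul_mem]
    constructor
    · rintro ⟨x, hx, he⟩
      refine ⟨h * x * h⁻¹, ?_, ?_⟩
      · rw [← hinv h hh, conj_smul_mem]
        have e : h⁻¹ * (h * x * h⁻¹) * h = x := by group
        rwa [e]
      · rw [conj_pow, he]
        group
    · rintro ⟨x, hx, rfl⟩
      refine ⟨h⁻¹ * x * h, ?_, ?_⟩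
      · rw [← hinv h hh, conj_smul_mem] at hx
        exact hx
      · have := conj_pow (i := n) (a := h⁻¹) (b := x)
        rw [inv_inv] at this
        exact this

end Cfsg.Agent.H717.Push
end

-- part: H717/SimsCross
section
/-!
# The Sims conjecture: the cross characteristic case

If the socle `S` has a faithful linear representation of bounded degree over a field of characteristic
`r ≠ p`, the point stabilizer `A` of the `p`-constrained configuration is bounded.
-/

set_option autoImplicit false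

namespace Cfsg.Agent.H717.Sims

open Module Cfsg.Agent.OddOrderLocal.Thm34Weights
open scoped Pointwise

universe u

section lin

variable {F : Type*} [Field F] {X : Type*} [Group X] [Finite X] {V : Type*} [AddCommGroup V] [Module F V]
  [FiniteDimensional F V]

/-- The weights. -/
def Wts (ρ : Representation F X V) (D : Subgroup X) : Type _ := {χ : D → F // wt ρ D χ ≠ ⊥}

theorem finite_wts (ρ : Representation F X V) (D : Subgroup X) (hD : (Nat.card D : F) ≠ 0)
    (hcomm : ∀ a ∈ D, ∀ b ∈ D, a * b = b * a) : Finite (Wts ρ D) := by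
  have h := indep_wt ρ D hD hcomm
  let _ := h.fintypeNeBotOfFiniteDimensional
  exact Finite.of_fintype {χ : D → F // wt ρ D χ ≠ ⊥}

theorem card_wts (ρ : Representation F X V) (D : Subgroup X) (hD : (Nat.card D : F) ≠ 0)
    (hcomm : ∀ a ∈ D, ∀ b ∈ D, a * b = b * a) : Nat.card (Wts ρ D) ≤ finrank F V := by
  have h := indep_wt ρ D hD hcomm
  let _ := h.fintypeNeBotOfFiniteDimensional
  have h1 := h.subtype_ne_bot_le_finrank
  rw [← Nat.card_eq_fintype_card] at h1
  exact h1

/-- Elements of `D` with the same weights are equal. -/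
theorem eq_of_wts [IsAlgClosed F] (ρ : Representation F X V) (hρ : Function.Injective ρ) (D : Subgroup X)
    (hD : (Nat.card D : F) ≠ 0) (hcomm : ∀ a ∈ D, ∀ b ∈ D, a * b = b * a) (a b : D)
    (h : ∀ χ : Wts ρ D, χ.1 a = χ.1 b) : a = b := by
  apply Subtype.ext
  apply hρ
  have h1 : ∀ χ : D → F, wt ρ D χ ≤ LinearMap.eqLocus (ρ a) (ρ b) := by
    intro χ
    by_cases hχ : wt ρ D χ = ⊥
    · rw [hχ]; exact bot_le
    · intro v hv
      rw [mem_wt] at hv
      rw [LinearMap.mem_eqLocus, hv a, hv b]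
      exact congrArg (· • v) (h ⟨χ, hχ⟩)
  have h2 : (⊤ : Submodule F V) ≤ LinearMap.eqLocus (ρ a) (ρ b) := by
    rw [← iSup_wt ρ D hD hcomm]
    exact iSup_le h1
  apply LinearMap.ext
  intro v
  exact h2 (Submodule.mem_top : v ∈ (⊤ : Submodule F V))

/-- The number of elements of `D` of exponent `m`. -/
theorem card_torsion [IsAlgClosed F] (ρ : Representation F X V) (hρ : Function.Injective ρ) (D : Subgroup X)
    (hD : (Nat.card D : F) ≠ 0) (hcomm : ∀ a ∈ D, ∀ b ∈ D, a * b = b * a) {m : ℕ} (hm : 0 < m) :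
    Nat.card {d : D // d ^ m = 1} ≤ m ^ finrank F V := by
  classical
  have := finite_wts ρ D hD hcomm
  let R : Type _ := {x : F // x ∈ (Polynomial.nthRoots m (1 : F)).toFinset}
  have hR : Nat.card R ≤ m := by
    have h1 : Nat.card R = (Polynomial.nthRoots m (1 : F)).toFinset.card := by
      rw [Nat.card_eq_fintype_card, Fintype.card_coe]
    rw [h1]
    exact (Multiset.toFinset_card_le _).trans (Polynomial.card_nthRoots m 1)
  have hpow : ∀ (χ : Wts ρ D) (d : D) (j : ℕ), χ.1 (d ^ j) = χ.1 d ^ j := by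
    intro χ d j
    induction j with
    | zero => rw [pow_zero, pow_zero, wt_one χ.2]
    | succ j ih => rw [pow_succ, wt_mul χ.2, ih, pow_succ]
  let f : {d : D // d ^ m = 1} → (Wts ρ D → R) := fun d χ => ⟨χ.1 d.1, by
    rw [Multiset.mem_toFinset, Polynomial.mem_nthRoots hm, ← hpow, d.2, wt_one χ.2]⟩
  have hf : Function.Injective f := by
    intro a b hab
    apply Subtype.ext
    apply eq_of_wts ρ hρ D hD hcomm
    intro χ
    exact congrArg Subtype.val (congrFun hab χ)
  calc Nat.card {d : D // d ^ m = 1} ≤ Nat.card (Wts ρ D → R) := Nat.card_le_card_of_injective f hf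
    _ = Nat.card R ^ Nat.card (Wts ρ D) := Nat.card_fun
    _ ≤ m ^ Nat.card (Wts ρ D) := Nat.pow_le_pow_left hR _
    _ ≤ m ^ finrank F V := Nat.pow_le_pow_right hm (card_wts ρ D hD hcomm)

attribute [local instance] wtAction in
/-- The action on the weights. -/
@[reducible] def wtsAction (ρ : Representation F X V) (D : Subgroup X) [D.Normal] : MulAction X (Wts ρ D) where
  smul g χ := ⟨g • χ.1, wt_smul_ne_bot χ.2 g⟩
  one_smul χ := Subtype.ext (one_smul X χ.1)
  mul_smul g h χ := Subtype.ext (mul_smul g h χ.1)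

/-- The index of a self-centralising abelian normal subgroup. -/
theorem index_dvd [IsAlgClosed F] (ρ : Representation F X V) (hρ : Function.Injective ρ) (D : Subgroup X) [D.Normal]
    (hD : (Nat.card D : F) ≠ 0) (hcomm : ∀ a ∈ D, ∀ b ∈ D, a * b = b * a)
    (hcent : Subgroup.centralizer (D : Set X) ≤ D) : D.index ∣ (finrank F V).factorial := by
  classical
  have := finite_wts ρ D hD hcomm
  let _ := Fintype.ofFinite (Wts ρ D)
  let _ := wtsAction ρ D
  let φ : X →* Equiv.Perm (Wts ρ D) := MulAction.toPermHom X (Wts ρ D)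
  have hker : φ.ker ≤ D := by
    intro x hx
    apply hcent
    rw [Subgroup.mem_centralizer_iff]
    intro d hd
    have h1 : (MulAut.conjNormal x⁻¹ (⟨d, hd⟩ : D)) = ⟨d, hd⟩ := by
      apply eq_of_wts ρ hρ D hD hcomm
      intro χ
      have h2 : φ x χ = χ := by
        rw [MonoidHom.mem_ker.1 hx]; rfl
      have h3 := congrArg Subtype.val h2
      exact congrFun h3 ⟨d, hd⟩
    have h4 := congrArg Subtype.val h1
    rw [MulAut.conjNormal_apply] at h4
    have h5 : x⁻¹ * d * x⁻¹⁻¹ = d := h4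
    rw [inv_inv] at h5
    calc d * x = x * (x⁻¹ * d * x) := by group
      _ = x * d := by rw [h5]
  have h1 : D.index ∣ φ.ker.index := Subgroup.index_dvd_of_le hker
  have h2 : φ.ker.index ∣ Nat.card (Equiv.Perm (Wts ρ D)) := by
    rw [Subgroup.index_ker]
    exact Subgroup.card_subgroup_dvd_card _
  have h3 : Nat.card (Equiv.Perm (Wts ρ D)) = (Nat.card (Wts ρ D)).factorial := by
    rw [Nat.card_eq_fintype_card, Fintype.card_perm, Nat.card_eq_fintype_card]
  rw [h3] at h2
  exact (h1.trans h2).trans (Nat.factorial_dvd_factorial (card_wts ρ D hD hcomm))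

end lin

/-- A `p`-group with a faithful representation of degree at most `N` in characteristic `r ≠ p`. -/
theorem exists_abelian (N p r : ℕ) (hp : p.Prime) (hr : r.Prime) (hpr : p ≠ r) {P : Type*} [Group P] [Finite P]
    (hP : IsPGroup p P) (hL : H851.Sims.LinDeg N r P) :
    ∃ D : Subgroup P, D.Normal ∧ (∀ a ∈ D, ∀ b ∈ D, a * b = b * a) ∧ D.index ∣ N.factorial ∧
      ∀ m : ℕ, 0 < m → Nat.card {d : D // d ^ m = 1} ≤ m ^ N := by
  classical
  obtain ⟨n, k, _, _, σ, hn, hσ⟩ := hL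
  have := Fact.mk hp
  have := Fact.mk hr
  have : Group.IsNilpotent P := hP.isNilpotent
  obtain ⟨D, hDn, hDc, hcent⟩ := Lib.NormalAbelian.exists_normal_abelian_selfCentralizing (G := P)
  have hcomm : ∀ a ∈ D, ∀ b ∈ D, a * b = b * a := fun a ha b hb =>
    congrArg Subtype.val (hDc.is_comm.comm (⟨a, ha⟩ : D) ⟨b, hb⟩)
  let K := AlgebraicClosure k
  let V := Fin n → K
  let ρ : Representation K P V :=
    (Matrix.toLinAlgEquiv' : Matrix (Fin n) (Fin n) K ≃ₐ[K] _).toMulEquiv.toMonoidHom.comp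
      ((RingHom.mapMatrix (algebraMap k K)).toMonoidHom.comp
        ((Units.coeHom (Matrix (Fin n) (Fin n) k)).comp σ))
  have hρ : Function.Injective ρ := by
    intro x y hxy
    have h1 : (RingHom.mapMatrix (algebraMap k K)) (σ x).val = (RingHom.mapMatrix (algebraMap k K)) (σ y).val :=
      (Matrix.toLinAlgEquiv' : Matrix (Fin n) (Fin n) K ≃ₐ[K] _).injective hxy
    have h2 : (σ x).val = (σ y).val := by
      ext i j
      have h3 := congrFun (congrFun h1 i) j
      exact (algebraMap k K).injective h3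
    exact hσ (Units.ext h2)
  have hfin : finrank K V = n := by simp [V]
  have hD : (Nat.card D : K) ≠ 0 := by
    obtain ⟨j, hj⟩ := (IsPGroup.iff_card.1 (hP.to_subgroup D))
    rw [hj, Nat.cast_pow]
    apply pow_ne_zero
    intro h0
    have : CharP K r := charP_of_injective_algebraMap (algebraMap k K).injective r
    rw [CharP.cast_eq_zero_iff K r] at h0
    exact hpr ((Nat.prime_dvd_prime_iff_eq hr hp).1 h0).symm
  refine ⟨D, hDn, hcomm, ?_, ?_⟩
  · have h := index_dvd ρ hρ D hD hcomm hcent.le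
    rw [hfin] at h
    exact h.trans (Nat.factorial_dvd_factorial hn)
  · intro m hm
    have h := card_torsion ρ hρ D hD hcomm hm
    rw [hfin] at h
    exact h.trans (Nat.pow_le_pow_right hm hn)

theorem normalCore_eq_bot {G : Type*} [Group G] {c p : ℕ} {S A Q : Subgroup G} {g : G}
    (h : H851.Sims.Cfg c p S A Q g) : A.normalCore = ⊥ := by
  have := h.norm
  have hs := h.simple
  have h1 : Disjoint A.normalCore S := by
    rw [disjoint_iff]
    rcases hs.eq_bot_or_eq_top_of_normal (A.normalCore.subgroupOf S) inferInstance with h2 | h2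
    · rw [Subgroup.subgroupOf_eq_bot, disjoint_iff] at h2
      exact h2
    · rw [Subgroup.subgroupOf_eq_top] at h2
      exact absurd (h2.trans (Subgroup.normalCore_le A)) h.notle
  rw [eq_bot_iff, ← h.cent]
  intro x hx
  rw [Subgroup.mem_centralizer_iff]
  intro y hy
  exact (Subgroup.commute_of_normal_of_disjoint A.normalCore S inferInstance h.norm h1 x y hx hy).symm

/-- **The cross characteristic case** of the Sims conjecture. -/
theorem cross_bound (c N : ℕ) : ∃ F : ℕ, ∀ {G : Type u} [Group G] [Finite G] (p r : ℕ) (S A Q : Subgroup G) (g : G),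
    H851.Sims.Cfg c p S A Q g → r.Prime → p ≠ r → H851.Sims.LinDeg N r S →
      Nat.card (A ⊓ S : Subgroup G) ≤ F := by
  classical
  set m := N.factorial with hm
  set b := c * m with hb
  set M := (c * b).factorial with hM
  refine ⟨b * m ^ N * M ^ N, ?_⟩
  intro G _ _ p r S A Q g h hr hpr hL
  have := h.norm
  have hm0 : 0 < m := Nat.factorial_pos N
  have hM0 : 0 < M := Nat.factorial_pos _
  set P : Subgroup G := Q ⊓ S with hPdef
  have hPS : P ≤ S := inf_le_right
  have hPA : P ≤ A := inf_le_left.trans h.Qle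
  have hPAS : P ≤ A ⊓ S := le_inf hPA hPS
  have hPp : IsPGroup p P := h.Qp.to_le inf_le_left
  have hLP : H851.Sims.LinDeg N r P := by
    obtain ⟨n, k, _, _, σ, hn, hσ⟩ := hL
    exact ⟨n, k, _, ‹_›, σ.comp (Subgroup.inclusion hPS), hn, hσ.comp (Subgroup.inclusion_injective hPS)⟩
  obtain ⟨D₀, hD₀n, hD₀c, hD₀i, hD₀t⟩ := exists_abelian N p r h.prime hr hpr hPp hLP
  have hD₀le : D₀.index ≤ m := Nat.le_of_dvd hm0 hD₀i
  have hPidx : P.relIndex (A ⊓ S) ≤ c := by
    have h1 : P = Q ⊓ (A ⊓ S) := by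
      rw [← inf_assoc, inf_eq_left.2 h.Qle]
    rw [h1, Subgroup.inf_relIndex_right]
    exact (Push.relIndex_mono inf_le_left).trans h.Qidx
  set D : Subgroup G := D₀.map P.subtype with hD
  have hDP : D ≤ P := Subgroup.map_subtype_le D₀
  have hDidx : D.relIndex P ≤ m := by
    have h1 : D.subgroupOf P = D₀ := Subgroup.comap_map_eq_self_of_injective P.subtype_injective D₀
    rw [Subgroup.relIndex, h1]
    exact hD₀le
  have hDcomm : ∀ x ∈ D, ∀ y ∈ D, x * y = y * x := by
    rintro _ ⟨x, hx, rfl⟩ _ ⟨y, hy, rfl⟩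
    exact congrArg Subtype.val (hD₀c x hx y hy)
  have hpowD : ∀ y ∈ P, y ^ m ∈ D := by
    intro y hy
    have h1 : (⟨y, hy⟩ : P) ^ D₀.index ∈ D₀ := Subgroup.pow_index_mem D₀ _
    obtain ⟨j, hj⟩ := hD₀i
    have h2 : (⟨y, hy⟩ : P) ^ m ∈ D₀ := by
      rw [hm, hj, pow_mul]
      exact D₀.pow_mem h1 j
    exact ⟨_, h2, rfl⟩
  have hPinv : ∀ a ∈ A, ∀ y ∈ P, a * y * a⁻¹ ∈ P := by
    intro a ha y hy
    refine ⟨?_, h.norm.conj_mem y hy.2 a⟩
    exact (Subgroup.mem_normalizer_iff.1 (h.Qnorm ha) y).1 hy.1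
  set E : Subgroup G := Subgroup.closure {x | ∃ y ∈ P, y ^ m = x} with hE
  have hED : E ≤ D := by
    rw [hE, Subgroup.closure_le]
    rintro _ ⟨y, hy, rfl⟩
    exact hpowD y hy
  have hEconj : ∀ a ∈ A, ∀ x ∈ E, a * x * a⁻¹ ∈ E := by
    intro a ha x hx
    have h1 : E ≤ E.comap (MulAut.conj a).toMonoidHom := by
      conv_lhs => rw [hE]
      rw [Subgroup.closure_le]
      rintro _ ⟨y, hy, rfl⟩
      change a * y ^ m * a⁻¹ ∈ E
      rw [← conj_pow]
      exact Subgroup.subset_closure ⟨_, hPinv a ha y hy, rfl⟩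
    exact h1 hx
  have hinv : Push.Inv A E := by
    intro a ha
    ext x
    rw [Push.conj_smul_mem]
    constructor
    · intro hx
      have h1 := hEconj a ha _ hx
      have e : a * (a⁻¹ * x * a) * a⁻¹ = x := by group
      rwa [e] at h1
    · intro hx
      have h1 := hEconj a⁻¹ (A.inv_mem ha) _ hx
      rwa [inv_inv] at h1
  have hcore : A.normalCore = ⊥ := normalCore_eq_bot h
  have hcb : (Subgroup.centralizer (E : Set G)).relIndex (A ⊓ S) ≤ b := by
    have h1 : D ≤ Subgroup.centralizer (E : Set G) := fun x hx => 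
      Subgroup.mem_centralizer_iff.2 fun y hy => hDcomm y (hED hy) x hx
    have h2 : D.relIndex (A ⊓ S) ≤ b := by
      rw [← Subgroup.relIndex_mul_relIndex D P (A ⊓ S) hDP hPAS, hb, mul_comm c m]
      exact Nat.mul_le_mul hDidx hPidx
    exact (Subgroup.relIndex_le_of_le_left h1 (Push.relIndex_pos _ _).ne').trans h2
  have hexp : ∀ x ∈ E, x ^ M = 1 := 
    Push.pow_eq_one h.coatom hcore h.notmem (d := c) h.idx S (hED.trans (hDP.trans hPA)) 
      (hED.trans (hDP.trans hPS)) hinv (fun x hx y hy => hDcomm x (hED hx) y (hED hy)) hcb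
  -- the order of `E`
  have hEcard : Nat.card E ≤ M ^ N := by
    refine le_trans ?_ (hD₀t M hM0)
    have hEP : ∀ x ∈ E, x ∈ P := fun x hx => hDP (hED hx)
    have hED₀ : ∀ (x : G) (hx : x ∈ E), (⟨x, hEP x hx⟩ : P) ∈ D₀ := by
      intro x hx
      obtain ⟨y, hy, he⟩ := hED hx
      have : (⟨x, hEP x hx⟩ : P) = y := Subtype.ext he.symm
      rw [this]; exact hy
    let f : E → {d : D₀ // d ^ M = 1} := fun x => ⟨⟨⟨x, hEP x x.2⟩, hED₀ x x.2⟩, by
      apply Subtype.ext; apply Subtype.ext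
      exact hexp x x.2⟩
    apply Nat.card_le_card_of_injective f
    intro x y hxy
    have h1 := congrArg (fun d : {d : D₀ // d ^ M = 1} => ((d.1 : P) : G)) hxy
    exact Subtype.ext h1
  -- the order of `D`
  have hDcard : Nat.card D₀ ≤ M ^ N * m ^ N := by
    let _ : CommGroup D₀ := { (inferInstance : Group D₀) with
      mul_comm := fun x y => Subtype.ext (hD₀c x x.2 y y.2) }
    let φ : D₀ →* D₀ := powMonoidHom m
    have h1 : Nat.card D₀ = Nat.card φ.ker * Nat.card φ.range := by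
      rw [← Subgroup.card_mul_index φ.ker, Subgroup.index_ker]
    have h2 : Nat.card φ.ker ≤ m ^ N := hD₀t m hm0
    have h3 : Nat.card φ.range ≤ M ^ N := by
      refine le_trans ?_ hEcard
      let f : φ.range → E := fun x => ⟨((x.1 : P) : G), by
        obtain ⟨y, hy⟩ := x.2
        refine Subgroup.subset_closure ⟨((y : P) : G), (y : P).2, ?_⟩
        rw [← hy]; rfl⟩
      apply Nat.card_le_card_of_injective f
      intro x y hxy
      have h1 := congrArg (fun d : E => (d : G)) hxy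
      exact Subtype.ext (Subtype.ext (Subtype.ext h1))
    rw [h1, mul_comm]
    exact Nat.mul_le_mul h3 h2
  have hPcard : Nat.card P ≤ M ^ N * m ^ N * m := by
    rw [← Subgroup.card_mul_index D₀]
    exact Nat.mul_le_mul hDcard hD₀le
  have h1 : Nat.card (A ⊓ S : Subgroup G) = Nat.card P * P.relIndex (A ⊓ S) := by
    rw [mul_comm, ← Push.relIndex_mul_card P (A ⊓ S), inf_eq_left.2 hPAS]
  rw [h1]
  calc Nat.card P * P.relIndex (A ⊓ S) ≤ (M ^ N * m ^ N * m) * c := Nat.mul_le_mul hPcard hPidx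
    _ = b * m ^ N * M ^ N := by rw [hb]; ring

end Cfsg.Agent.H717.Sims
end
end
end
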